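import Cfsg.Agent.U62Cent.MemberS

/-!
No member lies over an involution of the second class.
-/

set_option autoImplicit false
set_option maxRecDepth 100000
set_option maxHeartbeats 1000000
set_option linter.style.haveILetI false
set_option linter.unusedSectionVars false

open scoped Matrix

namespace CfsgLib.U62Cent

open CfsgLib Subgroup
open CfsgLib.FiLarge (F4 om omp)
open CfsgLib.Unitary (suMat suMat_mul suMat_one su_ext su_preserves)

theorem card_line0 : (Set.range fun c : F4 => c • p0).ncard = 4 := by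
  rw [Set.ncard_range_of_injective (fun a b h => by simpa [p0] using congrFun h 0), Nat.card_eq_fintype_card]
  rfl

theorem count_final {α : Type*} [DecidableEq α] (EF : Finset α) (a b : α) (act : α → α) (cnt : α → ℕ)
    (ha : a ∈ EF) (hb : b ∈ EF) (hab : a ≠ b)
    (hact : ∀ e ∈ EF, e ≠ a → e ≠ b →
      act e ∈ EF ∧ act e ≠ a ∧ act e ≠ b ∧ act (act (act e)) = e ∧ act e ≠ e)
    (hinv : ∀ e, cnt (act e) = cnt e) (ca : cnt a = 1) (cb : cnt b = 16)
    (hc : ∀ e ∈ EF, e ≠ a → e ≠ b → cnt e = 0 ∨ cnt e = 4 ∨ cnt e = 16) (hd : EF.card ∣ 32) (h16 : EF.card ≤ 16) :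
    ((∀ e ∈ EF, e ≠ a → e ≠ b → cnt e = 0) ∧ ∑ e ∈ EF, cnt e = 17) ∨
      ∃ p ∈ ({29, 41, 13, 11, 113} : Finset ℕ), p ∣ ∑ e ∈ EF, cnt e := by
  set R := (EF.erase a).erase b
  have hm : ∀ e, e ∈ R ↔ e ≠ b ∧ e ≠ a ∧ e ∈ EF := fun e => by simp [R]
  have hact' : ∀ e ∈ R, act e ∈ R ∧ act (act (act e)) = e ∧ act e ≠ e := fun e he => by
    obtain ⟨h1, h2, h3⟩ := (hm e).1 he
    obtain ⟨k1, k2, k3, k4, k5⟩ := hact e h3 h2 h1
    exact ⟨(hm _).2 ⟨k3, k2, k1⟩, k4, k5⟩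
  have h3 : ∀ k : ℕ, 3 ∣ (R.filter fun e => cnt e = k).card := fun k =>
    free_three _ (fun e => ⟨act e.1, Finset.mem_filter.2 ⟨(hact' _ (Finset.mem_filter.1 e.2).1).1,
      (hinv e).trans (Finset.mem_filter.1 e.2).2⟩⟩)
      (fun e => Subtype.ext (hact' _ (Finset.mem_filter.1 e.2).1).2.1)
      fun e q => (hact' _ (Finset.mem_filter.1 e.2).1).2.2 (congrArg Subtype.val q)
  have hR3 : 3 ∣ R.card := free_three R (fun e => ⟨act e.1, (hact' _ e.2).1⟩)
    (fun e => Subtype.ext (hact' _ e.2).2.1) fun e q => (hact' _ e.2).2.2 (congrArg Subtype.val q)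
  have hb' : b ∈ EF.erase a := Finset.mem_erase.2 ⟨Ne.symm hab, hb⟩
  have hsplit : ∑ e ∈ EF, cnt e = 17 + ∑ e ∈ R, cnt e := by
    rw [← Finset.add_sum_erase EF cnt ha, ← Finset.add_sum_erase (EF.erase a) cnt hb', ca, cb]
    show 1 + (16 + ∑ e ∈ R, cnt e) = _
    omega
  have hR : EF.card = R.card + 2 := by
    rw [← Finset.card_erase_add_one ha, ← Finset.card_erase_add_one hb']
  have hR6 : R.card ≤ 6 := by
    obtain ⟨k, hk⟩ := hR3
    rw [hR, hk] at hd h16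
    rw [hk]
    have : k ≤ 4 := by omega
    interval_cases k <;> first | omega | norm_num at hd
  have hsum : ∑ e ∈ R, cnt e =
      4 * (R.filter fun e => cnt e = 4).card + 16 * (R.filter fun e => cnt e = 16).card := by
    rw [Finset.card_filter, Finset.card_filter, Finset.mul_sum, Finset.mul_sum, ← Finset.sum_add_distrib]
    refine Finset.sum_congr rfl fun e he => ?_
    obtain ⟨h1, h2, h3⟩ := (hm e).1 he
    rcases hc e h3 h2 h1 with q | q | q <;> simp [q]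
  have hle : (R.filter fun e => cnt e = 4).card + (R.filter fun e => cnt e = 16).card ≤ R.card := by
    rw [← Finset.card_union_of_disjoint (Finset.disjoint_filter.2 fun e _ q r => by omega)]
    exact Finset.card_le_card fun e he => by
      rcases Finset.mem_union.1 he with q | q <;> exact (Finset.mem_filter.1 q).1
  obtain ⟨k4, hk4⟩ := h3 4
  obtain ⟨k16, hk16⟩ := h3 16
  rw [hsplit, hsum, hk4, hk16]
  by_cases h0 : k4 = 0 ∧ k16 = 0
  · refine Or.inl ⟨fun e he n1 n2 => ?_, by rw [h0.1, h0.2]⟩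
    have heR := (hm e).2 ⟨n2, n1, he⟩
    rcases hc e he n1 n2 with q | q | q
    · exact q
    · have := (Finset.card_pos (s := R.filter fun e => cnt e = 4)).2 ⟨e, Finset.mem_filter.2 ⟨heR, q⟩⟩
      omega
    · have := (Finset.card_pos (s := R.filter fun e => cnt e = 16)).2 ⟨e, Finset.mem_filter.2 ⟨heR, q⟩⟩
      omega
  · right
    have a4 : k4 ≤ 2 := by omega
    have a16 : k16 ≤ 2 := by omega
    have a2 : k4 + k16 ≤ 2 := by omega
    interval_cases k4 <;> interval_cases k16 <;> first | omega | decide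

theorem conj_thrice {H : Type*} [Group H] (v e : H) :
    v * (v * (v * e * v⁻¹) * v⁻¹) * v⁻¹ = v * v * v * e * (v * v * v)⁻¹ := by group

theorem conj_ne {H : Type*} [Group H] {v e s : H} (hs : v * s * v⁻¹ = s) (h1 : e ≠ 1) (h2 : e ≠ s) :
    v * e * v⁻¹ ≠ 1 ∧ v * e * v⁻¹ ≠ s :=
  ⟨fun q => h1 (conj_eq_one_iff.1 q), fun q => h2 (mul_left_cancel (mul_right_cancel (q.trans hs.symm)))⟩

theorem conj_back {H : Type*} [Group H] (v e : H) : v⁻¹ * (v * e * v⁻¹) * v = e := by group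

variable {G : Type*} [Group G] [Finite G] {z : G}

namespace Cd

/-- A class of members counted by the image of the commutator map. -/
theorem cls_card (D : Cd z R4) {u : G} (h : Mem z u) (hc : Commute u z)
    (hclass : ∀ x ∈ D.cls (D.ph u), ∃ j ∈ D.J, j * u * j⁻¹ = x) (huz : ¬ Mem z (u * z)) :
    (D.cls (D.ph u)).ncard = {x : V4 | ∃ w, x = w + suMat (D.ph u) *ᵥ w}.ncard := by
  refine Set.ncard_congr (fun x _ => D.pr (x * u)) (fun x hx => ?_) (fun x y hx hy e => ?_) fun b hb => ?_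
  · obtain ⟨j, hj, rfl⟩ := hclass x hx
    exact ⟨D.pr j, D.pr_kk h hc hj⟩
  · obtain ⟨j, hj, rfl⟩ := hclass x hx
    obtain ⟨j', hj', rfl⟩ := hclass y hy
    rcases D.eq_of_pr (D.kk_mem h hc hj) (D.kk_mem h hc hj') e with e' | e'
    · rw [D.kk_conj h hc, D.kk_conj h hc, e']
    · exfalso
      have hjz : j * z * j⁻¹ = z := by rw [(D.J_comm j hj).eq, mul_inv_cancel_right]
      refine huz ((Mem.conj_iff j).1 ?_)
      have e3 : j * (u * z) * j⁻¹ = j' * u * j'⁻¹ := by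
        calc j * (u * z) * j⁻¹ = j * u * j⁻¹ * (j * z * j⁻¹) := by group
          _ = D.kk u j * (u * z) := by rw [hjz, D.kk_conj h hc, mul_assoc]
          _ = D.kk u j * z * u := by rw [hc.eq, ← mul_assoc]
          _ = _ := by rw [← e', D.kk_conj h hc]
      rw [e3]
      exact h.conj j'
  · obtain ⟨w, rfl⟩ := hb
    obtain ⟨j, hj, rfl⟩ := D.pr_surj w
    refine ⟨j * u * j⁻¹, ⟨h.conj j, ((D.J_comm j hj).mul_left hc).mul_left (D.J_comm j hj).inv_left, ?_⟩, ?_⟩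
    · rw [D.ph_conj (D.J_comm j hj) hc, D.ph_of_J hj]
      group
    · exact D.pr_kk h hc hj

theorem not_both (D : Cd z R4) {u : G} (hc : Commute u z) (hS : D.ph u = s0) : ¬ D.TType u := by
  rintro ⟨a, ha, e⟩
  rw [D.ph_conj ha hc, hS] at e
  refine tvp_ne_s0 p0_pt (D.ph a)⁻¹ ?_
  rw [← e]
  group

/-- Adjusted coordinates at the member. -/
theorem sigma_other (D : Cd z R4) {u : G} (h : Mem z u) (hc : Commute u z) (hne : u ≠ z) (hS : D.ph u = s0) :
    ∃ Du : Cd u R4, Du.ph z = s0 := by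
  obtain ⟨g, hg⟩ := h
  subst hg
  have h' : Mem z (g * z * g⁻¹) := ⟨g, rfl⟩
  rcases (D.conj g).kinds h'.symm hc.symm (Ne.symm hne) with hT | ⟨b, hb, eb⟩
  · exact absurd ((D.conj g).ttype_sym D h'.symm hc.symm (Ne.symm hne) hT) (D.not_both hc hS)
  · have e : b⁻¹ * g * z * (b⁻¹ * g)⁻¹ = g * z * g⁻¹ := by
      calc b⁻¹ * g * z * (b⁻¹ * g)⁻¹ = b⁻¹ * (g * z * g⁻¹) * b := by group
        _ = _ := by rw [hb.inv_left.eq, inv_mul_cancel_right]
    refine e ▸ ⟨D.conj (b⁻¹ * g), ?_⟩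
    show D.ph ((b⁻¹ * g)⁻¹ * z * (b⁻¹ * g)) = s0
    rw [← eb]
    show D.ph _ = D.ph (g⁻¹ * (b * z * b⁻¹) * g)
    congr 1
    group

theorem cls_T (D : Cd z R4) {u : G} (h : Mem z u) (hc : Commute u z) (hne : u ≠ z) (hT : D.ph u = tvp p0) :
    (D.cls (D.ph u)).ncard = 4 ∧ (∀ x ∈ D.cls (D.ph u), ∃ j ∈ D.J, j * u * j⁻¹ = x) ∧ ¬ Mem z (u * z) ∧
      ∀ y ∈ D.J, h4 (D.pr y) p0 = 0 → Commute y u := by
  have large : ∀ x, Mem z x → Commute x z → x ≠ z → D.ph x = tvp p0 →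
      ∃ Dx : Cd x R4, 64 ≤ Nat.card (Dx.cJ z) := fun x hx hxc hxn ex => by
    obtain ⟨g, hg⟩ := hx
    subst hg
    have hx' : Mem z (g * z * g⁻¹) := ⟨g, rfl⟩
    exact ⟨D.conj g, (D.conj g).ttype_large hx'.symm hxc.symm (Ne.symm hxn)
      (D.ttype_sym (D.conj g) hx' hxc hxn ⟨1, Commute.one_left z, by rw [one_mul, inv_one, mul_one, ex]⟩)⟩
  obtain ⟨Du, h64⟩ := large u h hc hne hT
  have huz := D.uz_notMem h hc hT hne Du h64
  have hclass : ∀ x ∈ D.cls (D.ph u), ∃ j ∈ D.J, j * u * j⁻¹ = x := by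
    rintro x ⟨hx, hxc, ex⟩
    have hxn : x ≠ z := fun e => by
      rw [e, D.ph_z, hT] at ex
      exact tvp_ne_one p0_pt ex.symm
    obtain ⟨Dx, k64⟩ := large x hx hxc hxn (ex.trans hT)
    exact D.class_eq h hc hT hne Du h64 hx hxc (ex.trans hT) Dx k64 hxn
  refine ⟨?_, hclass, huz, fun y hy hyF => D.all_comm h hc hT hne Du h64 hy hyF⟩
  rw [D.cls_card h hc hclass huz]
  refine (congrArg Set.ncard ?_).trans card_line0
  ext x
  constructor
  · rintro ⟨w, rfl⟩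
    exact ⟨h4 w p0, (D.N_T h hc hT w).symm⟩
  · rintro ⟨c, rfl⟩
    exact ⟨c • ![1, 0, 0, 0], by rw [D.N_T h hc hT, (smul_p0_facts c).2]⟩

theorem cls_S (D : Cd z R4) {u : G} (h : Mem z u) (hc : Commute u z) (hne : u ≠ z) (hS : D.ph u = s0) :
    (D.cls (D.ph u)).ncard = 16 ∧ ∀ x ∈ D.cls (D.ph u), ∃ j ∈ D.J, j * u * j⁻¹ = x := by
  obtain ⟨Du, hS'⟩ := D.sigma_other h hc hne hS
  have hclass : ∀ x ∈ D.cls (D.ph u), ∃ j ∈ D.J, j * u * j⁻¹ = x := fun x hx =>
    D.class_S Du h hc hne hS hS' hx.1 hx.2.1 (hx.2.2.trans hS)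
  refine ⟨?_, hclass⟩
  rw [D.cls_card h hc hclass (D.uz_S Du h hc hne hS hS'), ← card_LS]
  congr 1
  ext x
  constructor
  · rintro ⟨w, rfl⟩
    rw [hS]; exact LS_image w
  · intro hx
    exact ⟨![x 0, 0, x 2, 0], by rw [hS, LS_lift hx]⟩

/-- Members over one image form one class of four or sixteen. -/
theorem cls_cases (D : Cd z R4) {u : G} (h : Mem z u) (hc : Commute u z) (hne : u ≠ z) :
    ((D.cls (D.ph u)).ncard = 4 ∨ (D.cls (D.ph u)).ncard = 16) ∧
      ∀ x ∈ D.cls (D.ph u), ∃ j ∈ D.J, j * u * j⁻¹ = x := by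
  obtain ⟨a, ha, hk⟩ := D.mem_kinds h hc hne
  obtain ⟨h1, h2, h3⟩ := conj_facts ha h hc hne
  have hback : ((D.cls (D.ph (a * u * a⁻¹))).ncard = 4 ∨ (D.cls (D.ph (a * u * a⁻¹))).ncard = 16) ∧
      ∀ x ∈ D.cls (D.ph (a * u * a⁻¹)), ∃ j ∈ D.J, j * (a * u * a⁻¹) * j⁻¹ = x := by
    rcases hk with e | e
    · exact ⟨Or.inl (D.cls_T h1 h2 h3 e).1, (D.cls_T h1 h2 h3 e).2.1⟩
    · exact ⟨Or.inr (D.cls_S h1 h2 h3 e).1, (D.cls_S h1 h2 h3 e).2⟩
  have himg : D.cls (D.ph (a * u * a⁻¹)) = (fun x => a * x * a⁻¹) '' D.cls (D.ph u) := by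
    ext x
    constructor
    · rintro ⟨hx, hxc, ex⟩
      have hxc' : Commute (a⁻¹ * x * a) z := (ha.inv_left.mul_left hxc).mul_left ha
      refine ⟨a⁻¹ * x * a, ⟨by simpa using hx.conj a⁻¹, hxc', ?_⟩, by group⟩
      have e2 := D.ph_conj ha hxc'
      rw [show a * (a⁻¹ * x * a) * a⁻¹ = x by group, ex, D.ph_conj ha hc] at e2
      exact (mul_left_cancel (mul_right_cancel e2)).symm
    · rintro ⟨y, ⟨hy, hyc, ey⟩, rfl⟩
      exact ⟨hy.conj a, (ha.mul_left hyc).mul_left ha.inv_left, by rw [D.ph_conj ha hyc, ey, D.ph_conj ha hc]⟩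
  constructor
  · have hinj : Function.Injective fun x => a * x * a⁻¹ := fun x y e => mul_left_cancel (mul_right_cancel e)
    rw [← Set.ncard_image_of_injective (D.cls (D.ph u)) hinj, ← himg]
    exact hback.1
  · intro x hx
    obtain ⟨j, hj, e⟩ := hback.2 (a * x * a⁻¹) (himg ▸ ⟨x, hx, rfl⟩)
    refine ⟨a⁻¹ * j * a, by simpa using D.conj_mem ha.inv_left hj, ?_⟩
    calc a⁻¹ * j * a * u * (a⁻¹ * j * a)⁻¹ = a⁻¹ * (j * (a * u * a⁻¹) * j⁻¹) * a := by group
      _ = x := by rw [e]; group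

section core

variable (D : Cd z R4) {u : G} (Du : Cd u R4) (h : Mem z u) (hc : Commute u z) (hne : u ≠ z)
  (hS : D.ph u = s0) (hS' : Du.ph z = s0)

include h hc hne hS hS'

theorem pair_card : Nat.card (D.pairGrp Du h hc hne hS hS') ≤ 512 := by
  classical
  obtain ⟨i, hi, hiu, hi1, -, hl⟩ := D.exists_i Du h hc hne hS hS'
  have hiL : i ∈ D.cJ u := (D.mem_cJ_S h hc hS).2 ⟨hi, hl⟩
  have hiL' : i ∈ Du.cJ z := Du.mem_cJ.2 ⟨hiu, D.J_comm i hi⟩
  haveI := Fintype.ofFinite (D.pairGrp Du h hc hne hS hS')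
  haveI := Fintype.ofFinite (D.cJ u × Du.cJ z)
  let f : D.cJ u × Du.cJ z → D.pairGrp Du h hc hne hS hS' := fun p => ⟨(p.1 : G) * p.2, _, p.1.2, _, p.2.2, rfl⟩
  have hfib : ∀ b ∈ (Finset.univ : Finset (D.pairGrp Du h hc hne hS hS')),
      2 ≤ (Finset.univ.filter fun p => f p = b).card := by
    rintro ⟨_, x, hx, y, hy, rfl⟩ -
    refine Finset.one_lt_card.2 ⟨(⟨x, hx⟩, ⟨y, hy⟩), ?_, (⟨x * i, mul_mem hx hiL⟩, ⟨i⁻¹ * y, mul_mem (inv_mem hiL') hy⟩),
      ?_, fun e => hi1 ?_⟩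
    · simp [f]
    · simp [f, mul_assoc]
    · have e' : x = x * i := congrArg Subtype.val (Prod.ext_iff.1 e).1
      exact mul_eq_left.1 e'.symm
  have hle := Finset.mul_card_image_le_card_of_maps_to (s := Finset.univ) (f := f) (t := Finset.univ)
    (fun p _ => Finset.mem_univ _) 2 hfib
  rw [Finset.card_univ, Finset.card_univ, ← Nat.card_eq_fintype_card, ← Nat.card_eq_fintype_card, Nat.card_prod,
    D.card_cJ_S h hc hS, Du.card_cJ_S h.symm hc.symm hS'] at hle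
  omega

theorem pair_meet {x : G} (hx : x ∈ D.pairGrp Du h hc hne hS hS') (hJ : x ∈ D.J) : x ∈ D.cJ u := by
  obtain ⟨a, ha, y, hy, rfl⟩ := hx
  have hy' : y ∈ D.J := by
    have := mul_mem (inv_mem (D.mem_cJ.1 ha).1) hJ
    rwa [inv_mul_cancel_left] at this
  exact mul_mem ha (D.mem_cJ.2 ⟨hy', Du.J_comm y (Du.mem_cJ.1 hy).1⟩)

/-- The moving element fixes only the two obvious images. -/
theorem move_fix {b y : G} (hbz : Commute b z) (hbu : Commute b u) (eb : Du.ph b = d3) (hy : y ∈ Du.cJ z)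
    (q : D.ph b * D.ph y * (D.ph b)⁻¹ = D.ph y) : D.ph y = 1 ∨ D.ph y = s0 := by
  obtain ⟨hyJ, hyz⟩ := Du.mem_cJ.1 hy
  have hw := Du.conj_cJ hbu hbz hy
  -- powers of the moved element lie in the common part
  have hI : ∀ x ∈ Du.cJ z, D.ph x = 1 → x ∈ D.cJ u := fun x hx e =>
    D.mem_cJ.2 ⟨(D.ph_J x (Du.mem_cJ.1 hx).2).1 e, Du.J_comm x (Du.mem_cJ.1 hx).1⟩
  set c := b * y * b⁻¹ * y with hcdef
  have hcL : c ∈ Du.cJ z := mul_mem hw hy
  have hc1 : D.ph c = 1 := by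
    rw [hcdef, D.ph_mul _ _ (Du.mem_cJ.1 hw).2 hyz, D.ph_conj hbz hyz, q, ← D.ph_mul _ _ hyz hyz,
      Du.cJ_S_sq h.symm hc.symm hS' hy, D.ph_one]
  set c' := b⁻¹ * (b * c * b⁻¹ * c) * b with hc'
  have hbc := Du.conj_cJ hbu hbz hcL
  have hc'L : c' ∈ Du.cJ z := by
    have := Du.conj_cJ hbu.inv_left hbz.inv_left (mul_mem hbc hcL)
    rwa [inv_inv] at this
  have hc'1 : D.ph c' = 1 := by
    have e1 := D.ph_conj hbz.inv_left (a := b * c * b⁻¹ * c) (Du.mem_cJ.1 (mul_mem hbc hcL)).2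
    rw [inv_inv, ← hc', D.ph_mul _ _ (Du.mem_cJ.1 hbc).2 (Du.mem_cJ.1 hcL).2,
      D.ph_conj hbz (Du.mem_cJ.1 hcL).2, hc1] at e1
    rw [e1]; group
  have hp : Du.pr c' = Du.pr y := by
    have hLy := ((Du.mem_cJ_S h.symm hc.symm hS').1 hy).2
    have a1 : Du.pr c = suMat d3 *ᵥ Du.pr y + Du.pr y := by
      rw [hcdef, Du.pr_mul _ (Du.mem_cJ.1 hw).1 _ hyJ, Du.pr_act b hbu y hyJ, eb, R4_r]
    rw [hc', show b⁻¹ * (b * c * b⁻¹ * c) * b = b⁻¹ * (b * c * b⁻¹ * c) * b⁻¹⁻¹ by rw [inv_inv],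
      Du.pr_act b⁻¹ hbu.inv_left _ (mul_mem (Du.mem_cJ.1 hbc).1 (Du.mem_cJ.1 hcL).1),
      Du.pr_mul _ (Du.mem_cJ.1 hbc).1 _ (Du.mem_cJ.1 hcL).1, Du.pr_act b hbu c (Du.mem_cJ.1 hcL).1,
      Du.ph_inv hbu, eb, R4_r, R4_r, a1]
    have key : ∀ x : V4, LS x →
        suMat d3 *ᵥ (suMat d3 *ᵥ x + x) + (suMat d3 *ᵥ x + x) = suMat d3 *ᵥ x := fun x hx => by
      simp only [d3_apply]
      exact (by decide +kernel : ∀ x : V4, LS x →
        (![om * (![om * x 0, om * x 1, om * om * x 2, om * om * x 3] + x) 0,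
          om * (![om * x 0, om * x 1, om * om * x 2, om * om * x 3] + x) 1,
          om * om * (![om * x 0, om * x 1, om * om * x 2, om * om * x 3] + x) 2,
          om * om * (![om * x 0, om * x 1, om * om * x 2, om * om * x 3] + x) 3] : V4) +
            (![om * x 0, om * x 1, om * om * x 2, om * om * x 3] + x) =
          ![om * x 0, om * x 1, om * om * x 2, om * om * x 3]) x hx
    rw [key _ hLy, su_inv_apply]
  have hcJ : c' ∈ D.cJ u := hI c' hc'L hc'1
  rcases Du.eq_of_pr (Du.mem_cJ.1 hc'L).1 hyJ hp with e | e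
  · exact Or.inl (by rw [e]; exact D.ph_of_J (D.mem_cJ.1 hcJ).1)
  · exact Or.inr (by
      rw [e, D.ph_mul _ _ (Du.mem_cJ.1 hc'L).2 hc, D.ph_of_J (D.mem_cJ.1 hcJ).1, one_mul, hS])

/-- The cube of the moving element acts trivially. -/
theorem move_cube {b y : G} (hbz : Commute b z) (hbu : Commute b u) (eb : Du.ph b = d3) (hy : y ∈ Du.cJ z) :
    D.ph b * (D.ph b * (D.ph b * D.ph y * (D.ph b)⁻¹) * (D.ph b)⁻¹) * (D.ph b)⁻¹ = D.ph y := by
  have hb3u : Commute (b * b * b) u := (hbu.mul_left hbu).mul_left hbu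
  have hb3z : Commute (b * b * b) z := (hbz.mul_left hbz).mul_left hbz
  have hb3 : b * b * b ∈ Du.cJ z := Du.mem_cJ.2 ⟨(Du.ph_J _ hb3u).1 (by
    rw [Du.ph_mul _ _ (hbu.mul_left hbu) hbu, Du.ph_mul _ _ hbu hbu, eb, ← pow_two, ← pow_succ]
    exact d3_cube), hb3z⟩
  have hcom : b * b * b * y = y * (b * b * b) := (Du.cJ_S_comm h.symm hc.symm hS' hb3 hy).eq
  have e : D.ph (b * b * b) * D.ph y * (D.ph (b * b * b))⁻¹ = D.ph y := by
    rw [← D.ph_conj hb3z (Du.mem_cJ.1 hy).2, hcom, mul_inv_cancel_right]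
  rw [D.ph_mul _ _ (hbz.mul_left hbz) hbz, D.ph_mul _ _ hbz hbz] at e
  rw [conj_thrice]
  exact e

/-- A set inside two cosets spans at most sixty-four elements. -/
theorem small_closure (O : Set G) (hOt : ∀ x ∈ O, x ∈ D.cJ u ∨ x * u ∈ D.cJ u) :
    Nat.card (Subgroup.closure O) ≤ 64 := by
  let T : Subgroup G :=
    { carrier := {x | x ∈ D.cJ u ∨ x * u ∈ D.cJ u}
      one_mem' := Or.inl (one_mem _)
      mul_mem' := fun {x y} hx hy => by
        have hu := D.mem_sq h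
        have cu : ∀ w ∈ D.cJ u, w * u = u * w := fun w hw => (D.mem_cJ.1 hw).2.eq
        have cy : ∀ w, w * u ∈ D.cJ u → w * u = u * w := fun w hw => by
          have := cu _ hw
          rw [mul_assoc, hu, mul_one] at this
          calc w * u = u * (w * u) * u := by rw [← this]
            _ = u * w := by rw [← mul_assoc, mul_assoc _ u u, hu, mul_one]
        rcases hx with hx | hx <;> rcases hy with hy | hy
        · exact Or.inl (mul_mem hx hy)
        · exact Or.inr (by rw [mul_assoc]; exact mul_mem hx hy)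
        · refine Or.inr ?_
          rw [show x * y * u = x * (y * u) by group, cu y hy, ← mul_assoc]
          exact mul_mem hx hy
        · refine Or.inl ?_
          have := mul_mem hx hy
          rwa [cy y hy, ← mul_assoc, mul_assoc x u u, hu, mul_one] at this
      inv_mem' := fun {x} hx => by
        rcases hx with hx | hx
        · exact Or.inl (inv_mem hx)
        · refine Or.inr ?_
          have h1 := (D.mem_cJ.1 hx).2.eq
          have h2 := inv_mem hx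
          have hu := D.mem_sq h
          rw [mul_assoc, hu, mul_one] at h1
          have h3 : x * u = u * x := by
            calc x * u = u * (x * u) * u := by rw [← h1]
              _ = u * x := by rw [← mul_assoc, mul_assoc _ u u, hu, mul_one]
          rwa [h3, mul_inv_rev, D.mem_inv h] at h2 }
  have hBT : Subgroup.closure O ≤ T := (Subgroup.closure_le T).2 hOt
  have hT64 : Nat.card T ≤ 64 := by
    rw [← SetLike.coe_sort_coe, Nat.card_coe_set_eq]
    have e : (T : Set G) ⊆ (D.cJ u : Set G) ∪ (fun x => x * u) '' (D.cJ u : Set G) := fun x hx =>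
      hx.imp id fun q => ⟨x * u, q, by show x * u * u = x; rw [mul_assoc, D.mem_sq h, mul_one]⟩
    refine ((Set.ncard_le_ncard e).trans (Set.ncard_union_le _ _)).trans ?_
    have h1 := Set.ncard_image_le (f := fun x => x * u) (s := (D.cJ u : Set G))
    have h2 : (D.cJ u : Set G).ncard = 32 := by rw [← Nat.card_coe_set_eq]; exact D.card_cJ_S h hc hS
    omega
  exact (Nat.le_of_dvd Nat.card_pos (Subgroup.card_dvd_of_le hBT)).trans hT64

/-- No member lies over the standard involution of the second class. -/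
theorem sigma_false : False := by
  classical
  haveI := Fintype.ofFinite G
  set A := D.pairGrp Du h hc hne hS hS' with hA
  set N := normalizer (A : Set G) with hN
  have hJN : ∀ j ∈ D.J, j ∈ N := fun j hj => by
    refine mem_normalizer_iff.2 fun a => ⟨fun ha => D.pair_J Du h hc hne hS hS' hj ha, fun ha => ?_⟩
    have := D.pair_J Du h hc hne hS hS' (inv_mem hj) ha
    rwa [show j⁻¹ * (j * a * j⁻¹) * j⁻¹⁻¹ = a by group] at this
  have hJN' : ∀ j ∈ Du.J, j ∈ N := fun j hj => by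
    have key : ∀ j ∈ Du.J, ∀ a ∈ A, j * a * j⁻¹ ∈ A := fun j hj a ha =>
      Du.pair_swap D h.symm hc.symm (Ne.symm hne) hS' hS
        (Du.pair_J D h.symm hc.symm (Ne.symm hne) hS' hS hj (D.pair_swap Du h hc hne hS hS' ha))
    refine mem_normalizer_iff.2 fun a => ⟨fun ha => key j hj a ha, fun ha => ?_⟩
    have := key j⁻¹ (inv_mem hj) _ ha
    rwa [show j⁻¹ * (j * a * j⁻¹) * j⁻¹⁻¹ = a by group] at this
  have hzA : z ∈ A := D.pair_mem_left Du h hc hne hS hS' (D.mem_cJ.2 ⟨D.z_mem, hc.symm⟩)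
  set O : Set G := {x | ∃ n ∈ N, n * z * n⁻¹ = x} with hO
  have hOA : ∀ x ∈ O, x ∈ A := by
    rintro x ⟨n, hn, rfl⟩
    exact (mem_normalizer_iff.1 hn z).1 hzA
  have hOmem : ∀ x ∈ O, Mem z x ∧ Commute x z := fun x hx => by
    refine ⟨?_, D.pair_z Du h hc hne hS hS' (hOA x hx)⟩
    obtain ⟨n, -, rfl⟩ := hx
    exact ⟨n, rfl⟩
  have huO : u ∈ O := by
    obtain ⟨j, hj, j', hj', e⟩ := D.swap_conj Du h hc hne hS hS'
    exact ⟨j⁻¹ * j', mul_mem (inv_mem (hJN j hj)) (hJN' j' hj'), by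
      calc j⁻¹ * j' * z * (j⁻¹ * j')⁻¹ = j⁻¹ * (j' * z * j'⁻¹) * j := by group
        _ = u := by rw [← e]; group⟩
  -- fibres of the image map
  have hfibre : ∀ x ∈ O, x ≠ z → {y | y ∈ O ∧ D.ph y = D.ph x} = D.cls (D.ph x) := by
    intro x hx hxz
    ext y
    constructor
    · exact fun hy => ⟨(hOmem y hy.1).1, (hOmem y hy.1).2, hy.2⟩
    · intro hy
      obtain ⟨j, hj, rfl⟩ := (D.cls_cases (hOmem x hx).1 (hOmem x hx).2 hxz).2 y hy
      obtain ⟨n, hn, rfl⟩ := hx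
      exact ⟨⟨j * n, mul_mem (hJN j hj) hn, by group⟩, hy.2.2⟩
  have honly : ∀ x ∈ O, D.ph x = 1 → x = z := fun x hx e =>
    D.mem_J (hOmem x hx).1 ((D.ph_J x (hOmem x hx).2).1 e)
  set E := (D.other Du).range
  have hphO : ∀ x ∈ O, D.ph x ∈ E := fun x hx => by
    obtain ⟨a, ha, y, hy, rfl⟩ := hOA x hx
    refine ⟨⟨y, hy⟩, ?_⟩
    show D.ph y = D.ph (a * y)
    rw [D.ph_mul _ _ (D.J_comm a (D.mem_cJ.1 ha).1) (Du.mem_cJ.1 hy).2, D.ph_of_J (D.mem_cJ.1 ha).1, one_mul]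
  have hsE : s0 ∈ E := hS ▸ hphO u huO
  have h1s : (1 : U4) ≠ s0 := fun e => by
    have := s0_rank; rw [← e, suMat_one, sub_self, Matrix.rank_zero] at this; omega
  -- the permutation of order three
  obtain ⟨b, hbu, hbz, eb⟩ := Du.lift_S D h.symm hc.symm (Ne.symm hne) hS' hS d3_s0
  have hbN : b ∈ N := by
    have key : ∀ b, Commute b z → Commute b u → ∀ a ∈ A, b * a * b⁻¹ ∈ A := by
      rintro b hz hu _ ⟨x, hx, y, hy, rfl⟩
      exact ⟨_, D.conj_cJ hz hu hx, _, Du.conj_cJ hu hz hy, by group⟩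
    refine mem_normalizer_iff.2 fun a => ⟨fun ha => key b hbz hbu a ha, fun ha => ?_⟩
    have := key b⁻¹ hbz.inv_left hbu.inv_left _ ha
    rwa [show b⁻¹ * (b * a * b⁻¹) * b⁻¹⁻¹ = a by group] at this
  set v := D.ph b with hv
  have hvs : v * s0 * v⁻¹ = s0 := by
    rw [hv, ← hS, D.ph_commute hbz hc hbu, mul_inv_cancel_right]
  set EF : Finset U4 := (E : Set U4).toFinite.toFinset with hEFdef
  have hEFmem : ∀ e, e ∈ EF ↔ e ∈ E := fun e => Set.Finite.mem_toFinset _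
  set R : Finset U4 := (EF.erase 1).erase s0 with hRdef
  have hRmem : ∀ e, e ∈ R ↔ e ∈ E ∧ e ≠ 1 ∧ e ≠ s0 := fun e => by
    rw [hRdef, Finset.mem_erase, Finset.mem_erase, hEFmem]
    exact ⟨fun ⟨a, b, c⟩ => ⟨c, b, a⟩, fun ⟨c, b, a⟩ => ⟨a, b, c⟩⟩
  have hvE : ∀ e ∈ E, v * e * v⁻¹ ∈ E := by
    rintro _ ⟨⟨y, hy⟩, rfl⟩
    exact ⟨⟨b * y * b⁻¹, Du.conj_cJ hbu hbz hy⟩, D.ph_conj hbz (Du.mem_cJ.1 hy).2⟩
  have hvR : ∀ e ∈ R, v * e * v⁻¹ ∈ R := fun e he => by
    obtain ⟨he1, he2, he3⟩ := (hRmem e).1 he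
    exact (hRmem _).2 ⟨hvE e he1, conj_ne hvs he2 he3⟩
  have hcube : ∀ e ∈ E, v * (v * (v * e * v⁻¹) * v⁻¹) * v⁻¹ = e := by
    intro e he
    obtain ⟨⟨y, hy⟩, ey⟩ := he
    have ey' : D.ph y = e := ey
    rw [← ey']
    exact D.move_cube Du h hc hne hS hS' hbz hbu eb hy
  have hfix : ∀ e ∈ R, v * e * v⁻¹ ≠ e := by
    intro e he q
    obtain ⟨he1, he2, he3⟩ := (hRmem e).1 he
    obtain ⟨⟨y, hy⟩, ey⟩ := he1
    have ey' : D.ph y = e := ey
    rcases D.move_fix Du h hc hne hS hS' hbz hbu eb hy (by rw [ey']; exact q) with r | r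
    · exact he2 (ey'.symm.trans r)
    · exact he3 (ey'.symm.trans r)
  -- the counting function
  let cnt : U4 → ℕ := fun e => {y | y ∈ O ∧ D.ph y = e}.ncard
  have hcnt1 : cnt 1 = 1 := by
    have : {y | y ∈ O ∧ D.ph y = 1} = {z} := Set.ext fun y =>
      ⟨fun hy => honly y hy.1 hy.2, fun hy => by
        rw [Set.mem_singleton_iff] at hy
        subst hy
        exact ⟨⟨1, one_mem _, by group⟩, D.ph_z⟩⟩
    simp only [cnt, this, Set.ncard_singleton]
  have hcnts : cnt s0 = 16 := by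
    have := hfibre u huO hne
    simp only [cnt]
    rw [← hS, this]
    exact (D.cls_S h hc hne hS).1
  have hcntR : ∀ e ∈ R, cnt e = 0 ∨ cnt e = 4 ∨ cnt e = 16 := fun e he => by
    by_cases hex : ∃ x ∈ O, D.ph x = e
    · obtain ⟨x, hx, rfl⟩ := hex
      have hxz : x ≠ z := fun q => ((hRmem _).1 he).2.1 (q ▸ D.ph_z)
      right
      simp only [cnt]
      rw [hfibre x hx hxz]
      exact (D.cls_cases (hOmem x hx).1 (hOmem x hx).2 hxz).1
    · left
      push Not at hex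
      simp only [cnt]
      rw [Set.ncard_eq_zero]
      exact Set.eq_empty_of_forall_notMem fun y hy => hex y hy.1 hy.2
  have hcntv : ∀ e, cnt (v * e * v⁻¹) = cnt e := fun e => by
    simp only [cnt]
    have hinj : Function.Injective fun y => b * y * b⁻¹ := fun x y q => mul_left_cancel (mul_right_cancel q)
    rw [← Set.ncard_image_of_injective {y | y ∈ O ∧ D.ph y = e} hinj]
    congr 1
    ext y
    constructor
    · rintro ⟨⟨n, hn, rfl⟩, hy⟩
      have hyz := (hOmem _ ⟨n, hn, rfl⟩).2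
      refine ⟨b⁻¹ * (n * z * n⁻¹) * b, ⟨⟨b⁻¹ * n, mul_mem (inv_mem hbN) hn, by group⟩, ?_⟩, by group⟩
      have e2 := D.ph_conj hbz.inv_left hyz
      rw [inv_inv] at e2
      rw [e2, hy, D.ph_inv hbz, ← hv, inv_inv]
      exact conj_back v e
    · rintro ⟨_, ⟨⟨n, hn, rfl⟩, hy⟩, rfl⟩
      have hyz := (hOmem _ ⟨n, hn, rfl⟩).2
      exact ⟨⟨b * n, mul_mem hbN hn, by group⟩, by rw [D.ph_conj hbz hyz, hy, ← hv]⟩
  have hmap : ∀ x ∈ O.toFinset, D.ph x ∈ EF := fun x hx =>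
    (hEFmem _).2 (hphO x (Set.mem_toFinset.1 hx))
  have htotal : O.ncard = ∑ e ∈ EF, cnt e := by
    rw [Set.ncard_eq_toFinset_card', Finset.card_eq_sum_card_fiberwise hmap]
    refine Finset.sum_congr rfl fun e _ => ?_
    simp only [cnt]
    rw [Set.ncard_eq_toFinset_card']
    congr 1
    ext x
    simp
  have hEc : EF.card = Nat.card E := by
    rw [← Nat.card_eq_finsetCard]
    exact Nat.card_congr (Equiv.subtypeEquivRight hEFmem)
  have hsq : ∀ e ∈ E, e * e = 1 := by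
    rintro _ ⟨a, rfl⟩
    rw [← map_mul, show a * a = 1 from Subtype.ext (Du.cJ_S_sq h.symm hc.symm hS' a.2), map_one]
  have h16 := elem_le E hsq
  have hdvd : Nat.card E ∣ 32 := by
    rw [← Du.card_cJ_S h.symm hc.symm hS']
    exact Subgroup.card_range_dvd _
  rw [← hEc] at h16 hdvd
  have hsel : ∀ e, e ∈ EF → e ≠ 1 → e ≠ s0 → e ∈ R := fun e he h1 h2 => (hRmem e).2 ⟨(hEFmem e).1 he, h1, h2⟩
  have hfinal := count_final EF (1 : U4) s0 (fun e => v * e * v⁻¹) cnt ((hEFmem _).2 (one_mem _))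
    ((hEFmem _).2 hsE) h1s
    (fun e he n1 n2 => ⟨(hEFmem _).2 (hvE e ((hEFmem e).1 he)), (conj_ne hvs n1 n2).1, (conj_ne hvs n1 n2).2,
      hcube e ((hEFmem e).1 he), hfix e (hsel e he n1 n2)⟩)
    hcntv hcnt1 hcnts (fun e he n1 n2 => hcntR e (hsel e he n1 n2)) hdvd h16
  have hONA : ∀ n ∈ N, ∀ a ∈ A, n * a * n⁻¹ ∈ A := fun n hn a ha => (mem_normalizer_iff.1 hn a).1 ha
  rcases hfinal with ⟨hzero, hsum⟩ | ⟨p, hp, hdvd'⟩
  · -- seventeen members in a group of order sixty-four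
    have h17 : O.ncard = 17 := htotal.trans hsum
    have hOt : ∀ x ∈ O, x ∈ D.cJ u ∨ x * u ∈ D.cJ u := by
      intro x hx
      have hin := hOA x hx
      by_cases q1 : D.ph x = 1
      · exact Or.inl (D.pair_meet Du h hc hne hS hS' hin ((D.ph_J x (hOmem x hx).2).1 q1))
      by_cases q2 : D.ph x = s0
      · refine Or.inr (D.pair_meet Du h hc hne hS hS' (mul_mem hin (hOA u huO)) ?_)
        exact (D.ph_J _ ((hOmem x hx).2.mul_left hc)).1
          (by rw [D.ph_mul _ _ (hOmem x hx).2 hc, q2, hS, s0_sq])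
      · exfalso
        have hxR : D.ph x ∈ R := (hRmem _).2 ⟨hphO x hx, q1, q2⟩
        have hpos : cnt (D.ph x) ≠ 0 :=
          ((Set.ncard_pos (s := {y | y ∈ O ∧ D.ph y = D.ph x})).2 ⟨x, hx, rfl⟩).ne'
        exact hpos (hzero _ ((hEFmem _).2 (hphO x hx)) q1 q2)
    set B := Subgroup.closure O
    have hB64 : Nat.card B ≤ 64 := D.small_closure Du h hc hne hS hS' O hOt
    have hB2 : ∀ a ∈ B, a * a = 1 := fun a ha =>
      D.pair_sq Du h hc hne hS hS' ((Subgroup.closure_le A).2 hOA ha)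
    have hNB : ∀ n ∈ N, ∀ a ∈ B, n * a * n⁻¹ ∈ B := by
      intro n hn a ha
      induction ha using Subgroup.closure_induction with
      | mem x hx =>
        obtain ⟨m, hm, rfl⟩ := hx
        exact Subgroup.subset_closure ⟨n * m, mul_mem hn hm, by group⟩
      | one => simp
      | mul x y _ _ hx hy =>
        have := mul_mem hx hy
        rwa [show n * x * n⁻¹ * (n * y * n⁻¹) = n * (x * y) * n⁻¹ by group] at this
      | inv x _ hx =>
        have := inv_mem hx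
        rwa [show (n * x * n⁻¹)⁻¹ = n * x⁻¹ * n⁻¹ by group] at this
    obtain ⟨a, b', ha, hb', e⟩ := orbit_prime64 B N hNB hB2 hB64 (Subgroup.subset_closure (show z ∈ O from
      ⟨1, one_mem _, by group⟩)) (p := 17) (by norm_num) (by rw [← hO, h17])
    exact no_mersenne17 a (by omega) b' hb' e
  · have hpp : p.Prime := by fin_cases hp <;> norm_num
    obtain ⟨a, b', ha, hb', e⟩ := orbit_prime A N hONA (fun a ha => D.pair_sq Du h hc hne hS hS' ha)
      (D.pair_card Du h hc hne hS hS') hzA hpp (by rw [← hO, htotal]; exact hdvd')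
    exact no_mersenne p hp a (by omega) b' hb' e

end core

/-- Every member lies over a transvection. -/
theorem all_T (D : Cd z R4) {u : G} (h : Mem z u) (hc : Commute u z) (hne : u ≠ z) :
    ∃ p, IsPt4 p ∧ D.ph u = tvp p := by
  obtain ⟨a, ha, e | e⟩ := D.mem_kinds h hc hne
  · refine ⟨suMat (D.ph a)⁻¹ *ᵥ p0, pt_map p0_pt _, ?_⟩
    rw [← tvp_conj p0_pt, ← e, D.ph_conj ha hc]
    group
  · exfalso
    obtain ⟨h1, h2, h3⟩ := conj_facts ha h hc hne
    obtain ⟨Du, hS'⟩ := D.sigma_other h1 h2 h3 e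
    exact D.sigma_false Du h1 h2 h3 e hS'

end Cd

end CfsgLib.U62Cent
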