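import Cfsg.Agent.U62Cent.Transfer
import Cfsg.Agent.KGroup.CharP
import Cfsg.Agent.LargeExtra.SimpleCriterion
import Cfsg.Agent.AutPSp.Out
import Cfsg.Agent.AutPSp.Main
import Cfsg.Agent.Classical.SymplecticSimple
import Cfsg.Agent.Unitary.Simple

/-!
The centraliser of extended type reduces to the centraliser of simple type once a subgroup of index two is known.
-/

set_option autoImplicit false
set_option maxHeartbeats 1000000
set_option linter.style.haveILetI false
set_option linter.unusedSectionVars false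
set_option quotPrecheck false

namespace CfsgLib.U62Cent

open CfsgLib Subgroup

section Out

variable {F : Type*} [Field F] [Fintype F]

theorem two_ne (hF : Fintype.card F = 3) : (2 : F) ≠ 0 := by
  intro h
  haveI : CharP F 2 := CharTwo.of_one_ne_zero_of_two_eq_zero one_ne_zero h
  obtain ⟨n, -, he⟩ := FiniteField.card F 2
  have : 3 % 2 = (2 ^ (n : ℕ)) % 2 := congrArg (· % 2) (hF.symm.trans he)
  rw [Nat.pow_mod, Nat.mod_self, zero_pow n.ne_zero] at this
  simp at this

/-- The symplectic group over three elements is simple. -/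
theorem psp_simple (hF : Fintype.card F = 3) : IsSimpleGroup (Cfsg.PSp 2 F) :=
  CfsgLib.Symp.isSimpleGroup_quot (Or.inr (Or.inl ⟨by simp, two_ne hF⟩))

/-- The inner automorphisms have index two. -/
theorem inn_index_two (hF : Fintype.card F = 3) : (Cfsg.Inn (Cfsg.PSp 2 F)).index = 2 := by
  have h2 : (2 : F) ≠ 0 := two_ne hF
  haveI : Fact (Nat.Prime 3) := ⟨Nat.prime_three⟩
  haveI : Subsingleton (RingAut F) := by
    obtain ⟨e⟩ : Nonempty (F ≃+* ZMod 3) := ⟨FiniteField.ringEquivOfCardEq (hF.trans (ZMod.card 3).symm)⟩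
    refine ⟨fun σ τ => RingEquiv.ext fun x => e.injective ?_⟩
    have h1 : ∀ ρ : RingAut F, e (ρ x) = e x := fun ρ => by
      have := RingHom.ext_zmod ((e.toRingHom.comp ρ.toRingHom).comp e.symm.toRingHom) (RingHom.id (ZMod 3))
      simpa using RingHom.congr_fun this (e x)
    rw [h1, h1]
  have htop : Cfsg.inndiagPSp 2 F = ⊤ := by
    refine eq_top_iff.2 fun α _ => ?_
    obtain ⟨g, σ, rfl⟩ := CfsgLib.AutPSp.exists_semi (m := 2) le_rfl (Or.inl h2) α
    rw [Subsingleton.elim σ 1, CfsgLib.AutPSp.inndiag_eq_range]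
    exact ⟨g, CfsgLib.AutPSp.innDiagHom_apply g⟩
  have h := CfsgLib.AutPSp.relIndex_inn (m := 2) (F := F)
  rw [htop, relIndex_top_right, Nat.card_eq_fintype_card, hF] at h
  exact h

end Out

variable {G : Type*} [Group G] [Finite G] {z : G}

local notation "HH" => centralizer ({z} : Set G)

theorem oddCore_map_le (M : Subgroup G) [M.Normal] : (Cfsg.oddCore M).map M.subtype ≤ Cfsg.oddCore G := by
  haveI : (Cfsg.oddCore M).Characteristic := characteristic_iff_map_le.mpr fun a =>
    Solvable.le_pPrimeCore 2 ((Solvable.pPrimeCore_normal 2).map _ a.surjective) (by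
      rw [card_map_of_injective a.injective]; exact Solvable.coprime_card_pPrimeCore 2)
  exact Solvable.le_pPrimeCore 2 inferInstance (by
    rw [card_map_of_injective M.subtype_injective]
    exact Solvable.coprime_card_pPrimeCore 2)

/-- The two outcomes, from a normal subgroup of index two missing part of the centraliser and containing its
radical, and the theorem for that subgroup. -/
theorem reduce (hz : orderOf z = 2)
    {F : Type*} [Field F] [Fintype F] (hF : Fintype.card F = 3) {K : Type*} [Field K] [Fintype K] (hK : Fintype.card K = 4)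
    (J : Subgroup (centralizer ({z} : Set G))) [J.Normal]
    (hJP : Cfsg.pCore 2 ↥(centralizer ({z} : Set G)) = J)
    (hJ : Cfsg.IsExtraspecial 2 J) (hJc : Nat.card J = 2 ^ 9)
    (hCJ : centralizer (J : Set ↥(centralizer ({z} : Set G))) ≤ J)
    (e : ↥(centralizer ({z} : Set G)) ⧸ J ≃* MulAut (Cfsg.PSp 2 F))
    (M : Subgroup G) [M.Normal] (hMi : M.index = 2) (hJM : J.map (centralizer ({z} : Set G)).subtype ≤ M)
    (hzM : z ∈ M) {d : centralizer ({z} : Set G)} (hd : (d : G) ∉ M)
    (h30 : Cfsg.IsExtraspecial 2 ↥(Cfsg.pCore 2 ↥(centralizer ({(⟨z, hzM⟩ : M)} : Set M))) →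
      Nat.card ↥(Cfsg.pCore 2 ↥(centralizer ({(⟨z, hzM⟩ : M)} : Set M))) = 2 ^ 9 →
      centralizer ((Cfsg.pCore 2 ↥(centralizer ({(⟨z, hzM⟩ : M)} : Set M))) :
          Set ↥(centralizer ({(⟨z, hzM⟩ : M)} : Set M))) ≤
        Cfsg.pCore 2 ↥(centralizer ({(⟨z, hzM⟩ : M)} : Set M)) →
      ∀ [(Cfsg.pCore 2 ↥(centralizer ({(⟨z, hzM⟩ : M)} : Set M))).Normal],
      (↥(centralizer ({(⟨z, hzM⟩ : M)} : Set M)) ⧸ Cfsg.pCore 2 ↥(centralizer ({(⟨z, hzM⟩ : M)} : Set M))) ≃*
          Cfsg.PSp 2 F →
      Nonempty (M ≃* Cfsg.PSU 6 K 2) ∨ centralizer ({(⟨z, hzM⟩ : M)} : Set M) ⊔ Cfsg.oddCore M = ⊤) :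
    (∃ G₀ : Subgroup G, G₀.index = 2 ∧ Nonempty (↥G₀ ≃* Cfsg.PSU 6 K 2) ∧ centralizer (G₀ : Set G) = ⊥) ∨
      centralizer ({z} : Set G) ⊔ Cfsg.oddCore G = ⊤ := by
  classical
  haveI : Fact (Nat.Prime 2) := ⟨Nat.prime_two⟩
  haveI := psp_simple hF
  let zM : ↥M := ⟨z, hzM⟩
  let φ : ↥(centralizer ({zM} : Set ↥M)) →* HH :=
    { toFun := fun h => ⟨(h : ↥M), mem_centralizer_singleton_iff.2
        (congrArg Subtype.val (mem_centralizer_singleton_iff.1 h.2))⟩
      map_one' := rfl
      map_mul' := fun _ _ => rfl }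
  have hφ : Function.Injective φ := fun a b h => Subtype.ext (Subtype.ext (congrArg (fun t : HH => (t : G)) h))
  have hr : φ.range = M.subgroupOf HH := by
    ext c
    constructor
    · rintro ⟨h, rfl⟩; exact mem_subgroupOf.2 (h : ↥M).2
    · intro hc
      exact ⟨⟨⟨c, mem_subgroupOf.1 hc⟩, mem_centralizer_singleton_iff.2
        (Subtype.ext (mem_centralizer_singleton_iff.1 c.2))⟩, rfl⟩
  haveI hrn : φ.range.Normal := hr ▸ inferInstance
  have hJr : J ≤ φ.range := fun c hc => by
    rw [hr]; exact mem_subgroupOf.2 (hJM (mem_map_of_mem _ hc))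
  have hr2 : φ.range.index = 2 := by
    refine ((Nat.dvd_prime Nat.prime_two).1 ?_).resolve_left fun h => hd ?_
    · rw [hr, ← hMi]; exact Subgroup.relIndex_dvd_index_of_normal M HH
    · have h1 : d ∈ φ.range := by rw [Subgroup.index_eq_one.1 h]; exact mem_top d
      rw [hr] at h1
      exact mem_subgroupOf.1 h1
  have hcJ : Nat.card ↥(J.comap φ) = Nat.card J :=
    Nat.card_congr (((J.comap φ).equivMapOfInjective φ hφ).trans
      (MulEquiv.subgroupCongr (map_comap_eq_self hJr))).toEquiv
  -- the radical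
  have hP : Cfsg.pCore 2 ↥(centralizer ({zM} : Set ↥M)) = J.comap φ := by
    refine le_antisymm ?_ (Solvable.le_pCore 2 inferInstance ?_)
    · let θ := MonoidHom.ofInjective hφ
      haveI : (Cfsg.pCore 2 φ.range).Characteristic := characteristic_iff_map_le.mpr fun a =>
        Solvable.le_pCore 2 ((Solvable.pCore_normal 2).map _ a.surjective) ((Solvable.isPGroup_pCore 2).map _)
      have h1 : (Cfsg.pCore 2 φ.range).map φ.range.subtype ≤ J := by
        rw [← hJP]
        exact Solvable.le_pCore 2 inferInstance ((Solvable.isPGroup_pCore 2).map _)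
      intro p hp
      have h2 : θ p ∈ Cfsg.pCore 2 φ.range :=
        Solvable.le_pCore 2 ((Solvable.pCore_normal 2).map _ θ.surjective) ((Solvable.isPGroup_pCore 2).map θ.toMonoidHom)
          (mem_map_of_mem _ hp)
      exact h1 ⟨θ p, h2, rfl⟩
    · exact IsPGroup.of_card (n := 9) (by rw [hcJ, hJc])
  -- the quotient
  let P := Cfsg.PSp 2 F
  have hcomm : ∀ x : P, (∀ y, y * x = x * y) → x = 1 := by
    intro x hx
    rcases IsSimpleGroup.eq_bot_or_eq_top_of_normal (center P) inferInstance with h | h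
    · exact (mem_bot.1 (h ▸ mem_center_iff.2 hx))
    · exfalso
      have h2 : commutator P = ⊥ := (commutator_eq_bot_iff_center_eq_top (G := P)).2 h
      have h3 : commutator P = ⊤ := by
        have hs := CfsgLib.Symp.commutator_eq_top (l := Fin 2) (F := F) (Or.inr (Or.inl ⟨by simp, two_ne hF⟩))
        have hq : Function.Surjective (QuotientGroup.mk' (center (Matrix.symplecticGroup (Fin 2) F))) :=
          QuotientGroup.mk'_surjective _
        have := congrArg (Subgroup.map (QuotientGroup.mk' (center (Matrix.symplecticGroup (Fin 2) F)))) hs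
        rw [commutator_def, map_commutator, Subgroup.map_top_of_surjective _ hq, ← commutator_def] at this
        exact this
      exact bot_ne_top (h2.symm.trans h3)
  have hinj : Function.Injective (MulAut.conj : P →* MulAut P) := by
    refine (injective_iff_map_eq_one _).2 fun x hx => hcomm x fun y => ?_
    have := DFunLike.congr_fun hx y
    rw [MulAut.conj_apply, MulAut.one_apply, mul_inv_eq_iff_eq_mul] at this
    exact this.symm
  let g : ↥(centralizer ({zM} : Set ↥M)) →* MulAut P := e.toMonoidHom.comp ((QuotientGroup.mk' J).comp φ)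
  let f : HH →* MulAut P := e.toMonoidHom.comp (QuotientGroup.mk' J)
  have hf : Function.Surjective f := e.surjective.comp (QuotientGroup.mk'_surjective J)
  have hkerf : f.ker = J := by
    refine (MonoidHom.ker_comp_of_injective _ e.toMonoidHom e.injective).trans (QuotientGroup.ker_mk' J)
  have hgr : g.range = φ.range.map f := by
    rw [show g = f.comp φ from rfl, MonoidHom.range_comp]
  have hgi : g.range.index = 2 := by
    rw [hgr, Subgroup.index_map_eq _ hf (hkerf.le.trans hJr), hr2]
  haveI : g.range.Normal := Subgroup.normal_of_index_eq_two hgi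
  have hle : Cfsg.Inn P ≤ g.range := by
    let ρ : P →* MulAut P ⧸ g.range := (QuotientGroup.mk' g.range).comp MulAut.conj
    rintro _ ⟨x, rfl⟩
    rcases IsSimpleGroup.eq_bot_or_eq_top_of_normal ρ.ker inferInstance with h | h
    · exfalso
      have hinjρ : Function.Injective ρ := (MonoidHom.ker_eq_bot_iff ρ).1 h
      have hle2 : Nat.card P ≤ 2 := (Nat.card_le_card_of_injective ρ hinjρ).trans
        (le_of_eq (by rw [← Subgroup.index_eq_card]; exact hgi))
      haveI : Nontrivial P := IsSimpleGroup.toNontrivial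
      have hp2 : Nat.card P = 2 := le_antisymm hle2 Finite.one_lt_card
      haveI : IsCyclic P := isCyclic_of_prime_card hp2
      obtain ⟨a, b, hab⟩ := exists_pair_ne P
      have hc : ∀ w : P, ∀ y, y * w = w * y := fun w y => (IsCyclic.commGroup.mul_comm y w)
      exact hab ((hcomm a (hc a)).trans (hcomm b (hc b)).symm)
    · have hx : ρ x = 1 := MonoidHom.mem_ker.1 (h ▸ mem_top x)
      exact (QuotientGroup.eq_one_iff _).1 hx
  have hrange : g.range = Cfsg.Inn P := (Subgroup.eq_of_le_of_card_ge hle (le_of_eq (by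
    have h1 := Subgroup.card_mul_index g.range
    have h2 := Subgroup.card_mul_index (Cfsg.Inn P)
    rw [hgi] at h1; rw [inn_index_two hF] at h2
    omega))).symm
  have hkerg : g.ker = J.comap φ := by
    rw [show g = f.comp φ from rfl, ← MonoidHom.comap_ker, hkerf]
  let e' : (↥(centralizer ({zM} : Set ↥M)) ⧸ Cfsg.pCore 2 ↥(centralizer ({zM} : Set ↥M))) ≃* P :=
    (QuotientGroup.quotientMulEquivOfEq (hP.trans hkerg.symm)).trans
      ((QuotientGroup.quotientKerEquivRange g).trans
        ((MulEquiv.subgroupCongr hrange).trans (MonoidHom.ofInjective hinj).symm))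
  have hC : centralizer ((Cfsg.pCore 2 ↥(centralizer ({zM} : Set ↥M))) : Set ↥(centralizer ({zM} : Set ↥M))) ≤
      Cfsg.pCore 2 ↥(centralizer ({zM} : Set ↥M)) := by
    rw [hP]
    intro c hc
    refine hCJ (mem_centralizer_iff.2 fun q hq => ?_)
    obtain ⟨q', rfl⟩ := hJr hq
    rw [← map_mul, ← map_mul, mem_centralizer_iff.1 hc q' hq]
  have hJ' : Cfsg.IsExtraspecial 2 ↥(Cfsg.pCore 2 ↥(centralizer ({zM} : Set ↥M))) :=
    LargeExtra.isExtraspecial_equiv (((MulEquiv.subgroupCongr hP).trans (((J.comap φ).equivMapOfInjective φ hφ).trans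
      (MulEquiv.subgroupCongr (map_comap_eq_self hJr)))).symm) hJ
  rcases h30 hJ' (by rw [hP, hcJ, hJc]) hC e' with ⟨⟨eM⟩⟩ | hO
  · refine Or.inl ⟨M, hMi, ⟨eM⟩, eq_bot_iff.2 fun c hc => ?_⟩
    haveI : IsSimpleGroup (Cfsg.PSU 6 K 2) :=
      CfsgLib.Unitary.isSimpleGroup_PSU (by rw [Nat.card_eq_fintype_card, hK]; rfl) (by norm_num) (by norm_num)
    haveI : IsSimpleGroup ↥M := eM.isSimpleGroup
    have hcH : c ∈ HH := mem_centralizer_singleton_iff.2 (mem_centralizer_iff.1 hc z hzM).symm
    have hcJ' : (⟨c, hcH⟩ : HH) ∈ J := hCJ (mem_centralizer_iff.2 fun q hq =>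
      Subtype.ext (mem_centralizer_iff.1 hc _ (hJM (mem_map_of_mem _ hq))))
    have hcM : c ∈ M := hJM (mem_map_of_mem _ hcJ')
    have hcZ : (⟨c, hcM⟩ : ↥M) ∈ center ↥M :=
      mem_center_iff.2 fun y => Subtype.ext (mem_centralizer_iff.1 hc _ y.2)
    rcases IsSimpleGroup.eq_bot_or_eq_top_of_normal (center ↥M) inferInstance with h | h
    · rw [h, mem_bot] at hcZ
      exact mem_bot.2 (congrArg Subtype.val hcZ)
    · exfalso
      -- an extraspecial group is not abelian
      have hab : ∀ a ∈ J, ∀ b ∈ J, a * b = b * a := fun a ha b hb => by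
        have hc : (⟨(b : G), hJM (mem_map_of_mem _ hb)⟩ : ↥M) ∈ center ↥M := by rw [h]; exact mem_top _
        exact Subtype.ext (congrArg Subtype.val (mem_center_iff.1 hc ⟨(a : G), hJM (mem_map_of_mem _ ha)⟩) :)
      have hc : center ↥J = ⊤ := eq_top_iff.2 fun a _ =>
        mem_center_iff.2 fun b => Subtype.ext (hab _ b.2 _ a.2)
      have h2 := hJ.2
      rw [hc, card_top, hJc] at h2
      norm_num at h2
  · refine Or.inr (eq_top_iff.2 fun x _ => ?_)
    have hMle : M ≤ HH ⊔ Cfsg.oddCore G := by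
      have h := congrArg (Subgroup.map M.subtype) hO
      rw [Subgroup.map_sup, ← MonoidHom.range_eq_map, Subgroup.range_subtype] at h
      rw [← h]
      refine sup_le_sup ?_ (oddCore_map_le M)
      rintro _ ⟨y, hy, rfl⟩
      exact mem_centralizer_singleton_iff.2 (congrArg Subtype.val (mem_centralizer_singleton_iff.1 hy))
    by_cases hx : x ∈ M
    · exact hMle hx
    · have h1 : x * (d : G) ∈ M := (Subgroup.mul_mem_iff_of_index_two hMi).2 (iff_of_false hx hd)
      have := mul_mem (hMle h1) (inv_mem (le_sup_left (b := Cfsg.oddCore G) d.2))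
      rwa [mul_inv_cancel_right] at this

end CfsgLib.U62Cent
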