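import Cfsg.Agent.U62Cent.Setting

/-!
An extraspecial radical with quotient the unitary group gives coordinates.
-/

set_option autoImplicit false
set_option maxRecDepth 100000
set_option maxHeartbeats 1000000
set_option linter.style.haveILetI false
set_option linter.unusedSectionVars false

namespace CfsgLib.U62Cent

open CfsgLib CfsgLib.Quad Subgroup QuadraticMap
open scoped commutatorElement

universe u

/-- The coordinates of a centraliser. -/
theorem exists_cd {G : Type u} [Group G] [Finite G] {z : G} (hz : orderOf z = 2)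
    (Q : Subgroup (centralizer ({z} : Set G))) [Q.Normal] (hQ : Cfsg.IsExtraspecial 2 Q)
    (hc : Nat.card Q = 2 ^ 9) (hself : centralizer (Q : Set (centralizer ({z} : Set G))) ≤ Q)
    (e : (centralizer ({z} : Set G)) ⧸ Q ≃* U4) :
    ∃ (V : Type u) (_ : AddCommGroup V) (_ : Module (ZMod 2) V) (R : Rep V),
      ∃ D : Cd z R, D.J = Q.map (centralizer ({z} : Set G)).subtype := by
  classical
  obtain ⟨V, _, _, ⟨D⟩⟩ := Geo.ExtraOut.exists_data hQ
  obtain ⟨hfin, hV⟩ := D.card_V (n := 4) (by rw [hc])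
  have hzc : z ∈ centralizer ({z} : Set G) := mem_centralizer_singleton_iff.2 rfl
  have hzQ : (⟨z, hzc⟩ : centralizer ({z} : Set G)) ∈ Q :=
    hself (mem_centralizer_iff.2 fun y _ => Subtype.ext (mem_centralizer_singleton_iff.1 y.2))
  let zq : Q := ⟨⟨z, hzc⟩, hzQ⟩
  have hzz : zq = D.z := by
    refine (D.center_cases (mem_center_iff.2 fun y => Subtype.ext (Subtype.ext ?_))).resolve_left fun h => ?_
    · exact mem_centralizer_singleton_iff.1 y.1.2
    · rw [show z = 1 from congrArg (fun q : Q => ((q : centralizer ({z} : Set G)) : G)) h, orderOf_one] at hz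
      omega
  let α : (centralizer ({z} : Set G)) →* oGroup D.form := D.toO.comp MulAut.conjNormal
  have hα : ∀ c (a : Q), (α c).1 (D.proj a) = D.proj (MulAut.conjNormal c a) := fun c a => D.toO_apply _ a
  have hker : α.ker = Q := by
    ext c
    constructor
    · intro hc
      have h1 : MulAut.conjNormal c ∈ Cfsg.Inn Q := D.ker_toO ▸ (show MulAut.conjNormal c ∈ D.toO.ker from hc)
      obtain ⟨x, hx⟩ := MonoidHom.mem_range.1 h1
      have hxc : (x : centralizer ({z} : Set G))⁻¹ * c ∈ Q := by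
        refine hself (mem_centralizer_iff.2 fun q hq => ?_)
        have e1 : (x : centralizer ({z} : Set G)) * q * (x : centralizer ({z} : Set G))⁻¹ = c * q * c⁻¹ := by
          have := congrArg Subtype.val (DFunLike.congr_fun hx (⟨q, hq⟩ : Q))
          simpa [MulAut.conjNormal_apply] using this
        calc q * ((x : centralizer ({z} : Set G))⁻¹ * c)
            = (x : centralizer ({z} : Set G))⁻¹ * ((x : centralizer ({z} : Set G)) * q *
                (x : centralizer ({z} : Set G))⁻¹) * c := by group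
          _ = (x : centralizer ({z} : Set G))⁻¹ * c * q := by rw [e1]; group
      have := mul_mem x.2 hxc
      rwa [mul_inv_cancel_left] at this
    · intro hc
      show MulAut.conjNormal c ∈ D.toO.ker
      rw [D.ker_toO]
      exact ⟨⟨c, hc⟩, MulEquiv.ext fun a => Subtype.ext rfl⟩
  let toLin : oGroup D.form →* (V ≃ₗ[ZMod 2] V) :=
    { toFun := fun g => g.1
      map_one' := rfl
      map_mul' := fun g h => rfl }
  let rV : (centralizer ({z} : Set G)) ⧸ Q →* (V ≃ₗ[ZMod 2] V) :=
    toLin.comp (QuotientGroup.lift Q α hker.ge)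
  have hrV : ∀ (c : centralizer ({z} : Set G)) (a : Q),
      rV (QuotientGroup.mk c) (D.proj a) = D.proj (MulAut.conjNormal c a) := fun c a => hα c a
  have hinj : Function.Injective rV := by
    refine Function.Injective.comp (g := toLin) (fun g h e => Subtype.ext e) ?_
    refine (injective_iff_map_eq_one _).2 fun x hx => ?_
    obtain ⟨g, rfl⟩ := QuotientGroup.mk_surjective x
    exact (QuotientGroup.eq_one_iff g).2 (hker ▸ hx)
  have hinv : ∀ x v, D.form (rV x v) = D.form v := by
    intro x v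
    obtain ⟨c, rfl⟩ := QuotientGroup.mk_surjective x
    obtain ⟨a, rfl⟩ := D.proj_surj v
    rw [hrV, D.form_proj, D.form_proj, ← map_pow, D.bit_aut]
  let R : Rep V :=
    { r := rV.comp e.symm.toMonoidHom
      inj := hinj.comp e.symm.injective
      card := by rw [hV]; norm_num
      q := D.form
      inv := fun g v => hinv _ v
      nondeg := fun v hv => D.nondeg.1 v hv }
  refine ⟨V, _, _, R, ?_⟩
  let val : Q → G := fun a => ((a : centralizer ({z} : Set G)) : G)
  have hval : Function.Injective val := fun a b h => Subtype.ext (Subtype.ext h)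
  let ph : G → U4 := fun g => if h : g ∈ centralizer ({z} : Set G) then e (QuotientGroup.mk ⟨g, h⟩) else 1
  have hph : ∀ c : centralizer ({z} : Set G), ph c = e (QuotientGroup.mk c) := fun c => dif_pos c.2
  let pr : G → V := fun g => if h : ∃ a : Q, val a = g then D.proj h.choose else 0
  have hpr : ∀ a : Q, pr (val a) = D.proj a := fun a => by
    have h : ∃ b : Q, val b = val a := ⟨a, rfl⟩
    show dite _ _ _ = _
    rw [dif_pos h, hval h.choose_spec]
  have hq : ∀ a : Q, R.q (pr (val a)) = Geo.ExtraOut.bit (a ^ 2) := fun a => by rw [hpr]; exact D.form_proj a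
  refine ⟨{
    z_sq := by rw [← pow_two, ← hz, pow_orderOf_eq_one]
    z_ne := fun h => by rw [h, orderOf_one] at hz; omega
    J := Q.map (centralizer ({z} : Set G)).subtype
    J_comm := by
      rintro _ ⟨a, -, rfl⟩
      exact mem_centralizer_singleton_iff.1 a.2
    z_mem := ⟨⟨z, hzc⟩, hzQ, rfl⟩
    ph := ph
    ph_mul := fun a b ha hb => by
      have ha' := mem_centralizer_singleton_iff.2 ha.eq
      have hb' := mem_centralizer_singleton_iff.2 hb.eq
      show ph ((⟨a, ha'⟩ * ⟨b, hb'⟩ : centralizer ({z} : Set G)) : G) = ph (⟨a, ha'⟩ : centralizer ({z} : Set G)) *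
        ph (⟨b, hb'⟩ : centralizer ({z} : Set G))
      rw [hph, hph, hph, QuotientGroup.mk_mul, map_mul]
    ph_J := fun a ha => by
      have ha' := mem_centralizer_singleton_iff.2 ha.eq
      rw [show ph a = e (QuotientGroup.mk ⟨a, ha'⟩) from hph ⟨a, ha'⟩, EmbeddingLike.map_eq_one_iff,
        QuotientGroup.eq_one_iff]
      exact ⟨fun h => ⟨_, h, rfl⟩, fun ⟨c, hc, hce⟩ => (show c = ⟨a, ha'⟩ from Subtype.ext hce) ▸ hc⟩
    ph_surj := fun u => by
      obtain ⟨c, hc⟩ := QuotientGroup.mk_surjective (e.symm u)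
      exact ⟨c, mem_centralizer_singleton_iff.1 c.2, by rw [hph, hc, MulEquiv.apply_symm_apply]⟩
    pr := pr
    pr_mul := ?_
    pr_zero := ?_
    pr_surj := fun v => by
      obtain ⟨a, rfl⟩ := D.proj_surj v
      exact ⟨val a, ⟨a, a.2, rfl⟩, hpr a⟩
    sq := ?_
    comm := ?_
    pr_act := ?_ }, rfl⟩
  · rintro _ ⟨a, ha, rfl⟩ _ ⟨b, hb, rfl⟩
    show pr (val (⟨a, ha⟩ * ⟨b, hb⟩ : Q)) = pr (val (⟨a, ha⟩ : Q)) + pr (val (⟨b, hb⟩ : Q))
    rw [hpr, hpr, hpr, D.proj_mul]
  · rintro _ ⟨a, ha, rfl⟩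
    show pr (val (⟨a, ha⟩ : Q)) = 0 ↔ val (⟨a, ha⟩ : Q) = 1 ∨ val (⟨a, ha⟩ : Q) = val zq
    rw [hpr, D.proj_eq_zero]
    constructor
    · intro h
      rcases D.center_cases h with h | h
      · exact Or.inl (congrArg val h)
      · exact Or.inr (congrArg val (h.trans hzz.symm))
    · rintro (h | h)
      · rw [show (⟨a, ha⟩ : Q) = 1 from hval h]; exact one_mem _
      · rw [hval h, hzz]; exact D.z_mem
  · rintro _ ⟨a, ha, rfl⟩
    show val (⟨a, ha⟩ * ⟨a, ha⟩ : Q) = if R.q (pr (val (⟨a, ha⟩ : Q))) = 0 then 1 else val zq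
    rw [hq, pow_two]
    rcases D.center_cases (pow_two (⟨a, ha⟩ : Q) ▸ D.sq_mem ⟨a, ha⟩) with h | h
    · rw [h, Geo.ExtraOut.bit_one, if_pos rfl]; rfl
    · rw [h, D.bit_z, if_neg one_ne_zero, hzz]
  · rintro _ ⟨a, ha, rfl⟩ _ ⟨b, hb, rfl⟩
    show val (⟨a, ha⟩ * ⟨b, hb⟩ : Q) = if R.B (pr (val (⟨a, ha⟩ : Q))) (pr (val (⟨b, hb⟩ : Q))) = 0 then
      val (⟨b, hb⟩ * ⟨a, ha⟩ : Q) else val (⟨b, hb⟩ * ⟨a, ha⟩ * zq : Q)
    generalize (⟨a, ha⟩ : Q) = x
    generalize (⟨b, hb⟩ : Q) = y
    rw [hpr, hpr, show R.B (D.proj x) (D.proj y) = Geo.ExtraOut.bit ⁅x, y⁆ from D.polar_form x y]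
    rcases D.center_cases (D.comm_mem x y) with h | h
    · rw [h, Geo.ExtraOut.bit_one, if_pos rfl, commutatorElement_eq_one_iff_mul_comm.1 h]
    · rw [h, D.bit_z, if_neg one_ne_zero, hzz, mem_center_iff.1 D.z_mem (y * x), ← h, commutatorElement_def]
      congr 1
      group
  · rintro a ha _ ⟨b, hb, rfl⟩
    have ha' := mem_centralizer_singleton_iff.2 ha.eq
    let c : centralizer ({z} : Set G) := ⟨a, ha'⟩
    show pr (val (MulAut.conjNormal c (⟨b, hb⟩ : Q))) = rV (e.symm (ph c)) (pr (val (⟨b, hb⟩ : Q)))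
    rw [hpr, hpr, hph, MulEquiv.symm_apply_apply, hrV]

end CfsgLib.U62Cent
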