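import Cfsg.Agent.U62Cent.ExtSetting
import Cfsg.Agent.U62Cent.Build
import Cfsg.Agent.U62Cent.AutReduce

/-!
Coordinates when the quotient by the radical is the automorphism group.
-/

set_option autoImplicit false
set_option maxRecDepth 100000
set_option maxHeartbeats 1000000
set_option linter.style.haveILetI false
set_option linter.unusedSectionVars false

open scoped Matrix

namespace CfsgLib.U62Cent

open CfsgLib CfsgLib.Quad Subgroup QuadraticMap
open CfsgLib.FiLarge (F4 om omp)
open CfsgLib.Unitary (suMat suMat_mul suMat_one su_ext su_preserves)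
open scoped commutatorElement

universe u v

theorem sep_coord : ∀ j i : Fin 4, i ≠ j → ∃ l : LT, l.1 j = 0 ∧ l.1 i ≠ 0 := by decide +kernel

theorem omp_fix : ∀ (c : ZMod 3) (a : F4), omp c * a = a → c ≠ 0 → a = 0 := by decide +kernel

theorem f4_basis : ∀ a : F4, a = 0 ∨ a = 1 ∨ a = om ∨ a = 1 + om := by decide +kernel

/-- The additive maps commuting with the natural module are scalars. -/
theorem cent_natural (T : V4 ≃ₗ[ZMod 2] V4) (h : ∀ (u : U4) (v : V4), T (suMat u *ᵥ v) = suMat u *ᵥ T v) :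
    ∃ c : F4, c ≠ 0 ∧ ∀ v, T v = c • v := by
  classical
  have hsupp : ∀ (j : Fin 4) (a : F4) (i : Fin 4), i ≠ j → T (Pi.single j a) i = 0 := by
    intro j a i hij
    obtain ⟨l, hlj, hli⟩ := sep_coord j i hij
    have e := h (dE l.1) (Pi.single j a)
    rw [dE_apply l.2, dE_apply l.2, show (fun k => omp (l.1 k) * (Pi.single j a : V4) k) = Pi.single j a by
      funext k
      by_cases hk : k = j
      · subst hk; rw [hlj, omp_vals.1, one_mul]
      · rw [Pi.single_eq_of_ne hk, mul_zero]] at e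
    exact omp_fix _ _ (congrFun e i).symm hli
  set t : Fin 4 → F4 → F4 := fun j a => T (Pi.single j a) j
  have hT : ∀ v i, T v i = t i (v i) := fun v i => by
    conv_lhs => rw [show v = ∑ j, Pi.single j (v j) from (Finset.univ_sum_single v).symm, map_sum, Finset.sum_apply]
    exact Finset.sum_eq_single i (fun j _ hj => hsupp j _ i (Ne.symm hj)) fun hh => absurd (Finset.mem_univ i) hh
  have hadd : ∀ i a b, t i (a + b) = t i a + t i b := fun i a b => by
    show T (Pi.single i (a + b)) i = _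
    rw [Pi.single_add, map_add]; rfl
  have hom : ∀ i a, t i (om * a) = om * t i a := fun i a => by
    have e := congrFun (h (dE (oneAt i).1) (Pi.single i a)) i
    rw [dE_apply (oneAt i).2, dE_apply (oneAt i).2] at e
    simp only [hT, oneAt_spec, Pi.single_eq_same, omp_vals.2.1] at e
    exact e
  have hlin : ∀ i a, t i a = a * t i 1 := fun i a => by
    have h0 : t i 0 = 0 := by show T (Pi.single i 0) i = 0; rw [Pi.single_zero, map_zero]; rfl
    have h1 : t i om = om * t i 1 := by rw [← hom, mul_one]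
    rcases f4_basis a with rfl | rfl | rfl | rfl
    · rw [h0, zero_mul]
    · rw [one_mul]
    · exact h1
    · rw [hadd, h1, add_mul, one_mul]
  have hsame : ∀ i, t i 1 = t 0 1 := fun i => by
    have e := congrFun (h (pE (Equiv.swap 0 i)) (Pi.single i 1)) 0
    rw [pE_apply, pE_apply] at e
    simp only [hT, Equiv.swap_apply_left, Pi.single_eq_same] at e
    exact e.symm
  have hv : ∀ v, T v = t 0 1 • v := fun v => funext fun i => by
    rw [hT, hlin, hsame, Pi.smul_apply, smul_eq_mul, mul_comm]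
  refine ⟨t 0 1, fun e => ?_, hv⟩
  have h1 := hv ![1, 0, 0, 0]
  rw [e, zero_smul, LinearEquiv.map_eq_zero_iff] at h1
  exact absurd (congrFun h1 0) (by decide +kernel)

theorem f4_scalar : ∀ c : F4, c ≠ 0 → c * c * c = 1 ∧ ∀ a : F4, c * (c * a) * (c * (c * a)) = c * (a * a) := by
  decide +kernel

theorem f4_units : ∀ c : F4, c ≠ 0 → c = 1 ∨ c = om ∨ c = om * om := by decide +kernel

theorem qn4_tauF : ∀ v : V4, qn4 ![v 1 * v 1, v 0 * v 0, v 3 * v 3, v 2 * v 2] = qn4 v := by decide +kernel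

theorem qn4_smul {c : F4} (hc : c ≠ 0) (v : V4) : qn4 (c • v) = qn4 v := by
  simp [qn4, hc]

/-- A linear map keeping the parity is a scalar times an element of the group. -/
theorem linear_natural (L : V4 →ₗ[F4] V4) (hi : Function.Injective L) (hq : ∀ v, qn4 (L v) = qn4 v) :
    ∃ (d : F4) (u : U4), d ≠ 0 ∧ ∀ v, L v = d • (suMat u *ᵥ v) := by
  classical
  set A := LinearMap.toMatrix' L
  have hA : ∀ v, A *ᵥ v = L v := fun v => LinearMap.toMatrix'_mulVec L v
  have hd : A.det ≠ 0 := fun h => by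
    obtain ⟨v, hv, e⟩ := Matrix.exists_mulVec_eq_zero_iff.2 h
    rw [hA] at e
    exact hv (hi (e.trans L.map_zero.symm))
  set d := A.det with hddef
  have h3 : d * d * d = 1 := (f4_scalar d hd).1
  have hdet : ((d * d) • A).det = 1 := by
    rw [Matrix.det_smul, Fintype.card_fin, ← hddef,
      show (d * d) ^ 4 * d = (d * d * d) * (d * d * d) * (d * d * d) by ring, h3, one_mul, one_mul]
  refine ⟨d, ⟨⟨(d * d) • A, hdet⟩, fun a b => ?_⟩, hd, fun v => ?_⟩
  · show Cfsg.hermForm 4 F4 2 (((d * d) • A) *ᵥ a) (((d * d) • A) *ᵥ b) = Cfsg.hermForm 4 F4 2 a b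
    rw [Matrix.smul_mulVec, Matrix.smul_mulVec, hA, hA, h4_eq, h4_eq, h4_smul_left, h4_smul_right, h4_of_qn4 hq,
      ← mul_assoc, show d * d * (d * d * (d * d)) = (d * d * d) * (d * d * d) by ring, h3, one_mul, one_mul]
  · show L v = d • (((d * d) • A) *ᵥ v)
    rw [Matrix.smul_mulVec, hA, smul_smul, ← mul_assoc, h3, one_smul]

theorem exists_theta : ∃ θ : MulAut U4, θ * θ = 1 ∧ (∀ u, tauF * R4.r u = R4.r (θ u) * tauF) ∧
    ∀ w, ∃ u, θ u ≠ w * u * w⁻¹ := by
  choose t ht using tauF_outer.norm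
  have hinv : ∀ u, t (t u) = u := fun u => by
    refine R4.inj (mul_right_cancel (b := tauF) ?_)
    rw [← ht (t u), eq_comm]
    calc R4.r u * tauF = tauF * (tauF * R4.r u) * tauF := by rw [← mul_assoc tauF tauF, tauF_sq, one_mul]
      _ = tauF * (R4.r (t u) * tauF) * tauF := by rw [ht u]
      _ = tauF * R4.r (t u) := by rw [mul_assoc, mul_assoc, tauF_sq, mul_one]
  let θ : MulAut U4 :=
    { toFun := t, invFun := t, left_inv := hinv, right_inv := hinv
      map_mul' := fun a b => R4.inj (mul_right_cancel (b := tauF) (by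
        rw [← ht, map_mul, map_mul, ← mul_assoc, ht, mul_assoc, ht, ← mul_assoc])) }
  refine ⟨θ, MulEquiv.ext fun u => hinv u, ht, fun w => ?_⟩
  by_contra hall
  push Not at hall
  obtain ⟨c, hc, hT⟩ := cent_natural (R4.r w⁻¹ * tauF) fun u v => by
    have e : R4.r w⁻¹ * (tauF * R4.r u) = R4.r u * R4.r w⁻¹ * tauF := by
      rw [ht, show t u = w * u * w⁻¹ from hall u, ← mul_assoc, ← map_mul, ← map_mul,
        show w⁻¹ * (w * u * w⁻¹) = u * w⁻¹ by group]
    rw [← R4_r, ← R4_r, ← LinearEquiv.mul_apply (R4.r w⁻¹ * tauF) (R4.r u) v,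
      ← LinearEquiv.mul_apply (R4.r u) (R4.r w⁻¹ * tauF) v, mul_assoc, e, mul_assoc]
  have h1 := hT (om • ![1, 0, 0, 0])
  have h2 := hT ![1, 0, 0, 0]
  rw [LinearEquiv.mul_apply, tauF_smul, R4_r, Matrix.mulVec_smul, ← R4_r, ← LinearEquiv.mul_apply, h2, smul_smul,
    smul_smul] at h1
  have h3 := congrFun h1 0
  simp only [Pi.smul_apply, Matrix.cons_val_zero, smul_eq_mul, mul_one] at h3
  rw [mul_comm c om] at h3
  exact absurd (mul_right_cancel₀ hc h3) (by decide +kernel)

theorem conj_auto {P : Type*} [Group P] (α : MulAut P) (p : P) : α * MulAut.conj p * α⁻¹ = MulAut.conj (α p) :=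
  MulEquiv.ext fun x => by simp [MulAut.mul_apply, map_mul, map_inv]

/-- The coordinates of a centraliser whose quotient is the automorphism group. -/
theorem exists_ce {G : Type u} [Group G] [Finite G] {z : G} (hz : orderOf z = 2)
    (Q : Subgroup (centralizer ({z} : Set G))) [Q.Normal] (hQ : Cfsg.IsExtraspecial 2 Q)
    (hc : Nat.card Q = 2 ^ 9) (hself : centralizer (Q : Set (centralizer ({z} : Set G))) ≤ Q)
    {F : Type*} [Field F] [Fintype F] (hF : Fintype.card F = 3)
    (e : (centralizer ({z} : Set G)) ⧸ Q ≃* MulAut (Cfsg.PSp 2 F)) :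
    ∃ (V : Type u) (_ : AddCommGroup V) (_ : Module (ZMod 2) V) (R : Rep V) (f0 : V ≃ₗ[ZMod 2] V),
      IsOuter R f0 ∧ (∀ w, ∃ u, f0 * R.r w * R.r u ≠ R.r u * (f0 * R.r w)) ∧
        ∃ D : Ce z R f0, D.J = Q.map (centralizer ({z} : Set G)).subtype := by
  classical
  haveI := psp_simple hF
  -- the inner part and the outer involution
  obtain ⟨φ⟩ := nonempty_psp_iso hF
  obtain ⟨θ, hθ2, -, hθout⟩ := exists_theta
  set P := Cfsg.PSp 2 F
  let αθ : MulAut P := φ.symm.trans (θ.trans φ)
  have hαθ : ∀ u, αθ (φ u) = φ (θ u) := fun u => by simp [αθ]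
  let ι : U4 →* (centralizer ({z} : Set G)) ⧸ Q :=
    e.symm.toMonoidHom.comp ((MulAut.conj : P →* MulAut P).comp φ.toMonoidHom)
  have hιv : ∀ u, e (ι u) = MulAut.conj (φ u) := fun u => e.apply_symm_apply _
  have hιinj : Function.Injective ι := fun a b h => by
    have h1 : MulAut.conj (φ a) = MulAut.conj (φ b) := by rw [← hιv, ← hιv, h]
    haveI := simple_SU4
    rcases IsSimpleGroup.eq_bot_or_eq_top_of_normal ι.ker inferInstance with hk | hk
    · exact (MonoidHom.ker_eq_bot_iff ι).1 hk h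
    · exfalso
      obtain ⟨u, hu⟩ := hθout 1
      refine hu ?_
      have hall : ∀ x y : U4, x * y = y * x := fun x y => by
        have hx : MulAut.conj (φ x) = 1 := by rw [← hιv, MonoidHom.mem_ker.1 (hk ▸ mem_top x : x ∈ ι.ker), map_one]
        have := DFunLike.congr_fun hx (φ y)
        rw [MulAut.conj_apply, MulAut.one_apply, mul_inv_eq_iff_eq_mul, ← map_mul, ← map_mul] at this
        exact φ.injective this
      have hc : Subgroup.center U4 = ⊤ := eq_top_iff.2 fun x _ => mem_center_iff.2 fun y => hall y x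
      rw [center_SU4] at hc
      haveI : Subsingleton U4 := ⟨fun x y => by
        have hx : x ∈ (⊥ : Subgroup U4) := hc ▸ mem_top x
        have hy : y ∈ (⊥ : Subgroup U4) := hc ▸ mem_top y
        rw [mem_bot.1 hx, mem_bot.1 hy]⟩
      exact Subsingleton.elim _ _
  let x0 := e.symm αθ
  have hx0 : e x0 = αθ := e.apply_symm_apply _
  have hx0sq : x0 * x0 = 1 := e.injective (by
    rw [map_mul, hx0, map_one]
    refine MulEquiv.ext fun p => ?_
    obtain ⟨u, rfl⟩ := φ.surjective p
    show αθ (αθ (φ u)) = φ u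
    rw [hαθ, hαθ, show θ (θ u) = u from DFunLike.congr_fun hθ2 u])
  have hnorm : ∀ u, x0 * ι u = ι (θ u) * x0 := fun u => e.injective (by
    rw [map_mul, map_mul, hx0, hιv, hιv, ← hαθ, ← conj_auto, inv_mul_cancel_right])
  have hout : ∀ w, x0 ≠ ι w := fun w h => by
    obtain ⟨u, hu⟩ := hθout w
    refine hu (hιinj ?_)
    have h1 := hnorm u
    rw [h, ← map_mul, ← map_mul] at h1
    rw [hιinj h1, mul_inv_cancel_right]
  have hcases : ∀ x, ∃ w, x = ι w ∨ x = ι w * x0 := by
    intro x
    have h2 := inn_index_two hF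
    have hn : αθ ∉ Cfsg.Inn P := by
      rintro ⟨p, hp⟩
      obtain ⟨w, rfl⟩ := φ.surjective p
      obtain ⟨u, hu⟩ := hθout w
      refine hu (φ.injective ?_)
      rw [← hαθ, ← hp, MulAut.conj_apply, map_mul, map_mul, map_inv]
    by_cases hx : e x ∈ Cfsg.Inn P
    · obtain ⟨p, hp⟩ := hx
      obtain ⟨w, rfl⟩ := φ.surjective p
      exact ⟨w, Or.inl (e.injective (by rw [hιv, hp]))⟩
    · have h1 : e x * αθ ∈ Cfsg.Inn P := (Subgroup.mul_mem_iff_of_index_two h2).2 (iff_of_false hx hn)
      obtain ⟨p, hp⟩ := h1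
      obtain ⟨w, rfl⟩ := φ.surjective p
      refine ⟨w, Or.inr ?_⟩
      have e1 : ι w = x * x0 := e.injective (by rw [hιv, hp, map_mul, hx0])
      rw [e1, mul_assoc, hx0sq, mul_one]
  -- the module
  obtain ⟨V, _, _, ⟨D⟩⟩ := Geo.ExtraOut.exists_data hQ
  obtain ⟨hfin, hV⟩ := D.card_V (n := 4) (by rw [hc])
  have hzc : z ∈ centralizer ({z} : Set G) := mem_centralizer_singleton_iff.2 rfl
  have hzQ : (⟨z, hzc⟩ : centralizer ({z} : Set G)) ∈ Q :=
    hself (mem_centralizer_iff.2 fun y _ => Subtype.ext (mem_centralizer_singleton_iff.1 y.2))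
  let zq : Q := ⟨⟨z, hzc⟩, hzQ⟩
  have hzz : zq = D.z := by
    refine (D.center_cases (mem_center_iff.2 fun y => Subtype.ext (Subtype.ext ?_))).resolve_left fun h => ?_
    · exact mem_centralizer_singleton_iff.1 y.1.2
    · rw [show z = 1 from congrArg (fun q : Q => ((q : centralizer ({z} : Set G)) : G)) h, orderOf_one] at hz
      omega
  let α : (centralizer ({z} : Set G)) →* oGroup D.form := D.toO.comp MulAut.conjNormal
  have hα : ∀ c (a : Q), (α c).1 (D.proj a) = D.proj (MulAut.conjNormal c a) := fun c a => D.toO_apply _ a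
  have hker : α.ker = Q := by
    ext c
    constructor
    · intro hc
      have h1 : MulAut.conjNormal c ∈ Cfsg.Inn Q := D.ker_toO ▸ (show MulAut.conjNormal c ∈ D.toO.ker from hc)
      obtain ⟨x, hx⟩ := MonoidHom.mem_range.1 h1
      have hxc : (x : centralizer ({z} : Set G))⁻¹ * c ∈ Q := by
        refine hself (mem_centralizer_iff.2 fun q hq => ?_)
        have e1 : (x : centralizer ({z} : Set G)) * q * (x : centralizer ({z} : Set G))⁻¹ = c * q * c⁻¹ := by
          have := congrArg Subtype.val (DFunLike.congr_fun hx (⟨q, hq⟩ : Q))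
          simpa [MulAut.conjNormal_apply] using this
        calc q * ((x : centralizer ({z} : Set G))⁻¹ * c)
            = (x : centralizer ({z} : Set G))⁻¹ * ((x : centralizer ({z} : Set G)) * q *
                (x : centralizer ({z} : Set G))⁻¹) * c := by group
          _ = (x : centralizer ({z} : Set G))⁻¹ * c * q := by rw [e1]; group
      have := mul_mem x.2 hxc
      rwa [mul_inv_cancel_left] at this
    · intro hc
      show MulAut.conjNormal c ∈ D.toO.ker
      rw [D.ker_toO]
      exact ⟨⟨c, hc⟩, MulEquiv.ext fun a => Subtype.ext rfl⟩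
  let toLin : oGroup D.form →* (V ≃ₗ[ZMod 2] V) :=
    { toFun := fun g => g.1
      map_one' := rfl
      map_mul' := fun g h => rfl }
  let rV : (centralizer ({z} : Set G)) ⧸ Q →* (V ≃ₗ[ZMod 2] V) :=
    toLin.comp (QuotientGroup.lift Q α hker.ge)
  have hrV : ∀ (c : centralizer ({z} : Set G)) (a : Q),
      rV (QuotientGroup.mk c) (D.proj a) = D.proj (MulAut.conjNormal c a) := fun c a => hα c a
  have hinj : Function.Injective rV := by
    refine Function.Injective.comp (g := toLin) (fun g h e => Subtype.ext e) ?_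
    refine (injective_iff_map_eq_one _).2 fun x hx => ?_
    obtain ⟨g, rfl⟩ := QuotientGroup.mk_surjective x
    exact (QuotientGroup.eq_one_iff g).2 (hker ▸ hx)
  have hinv : ∀ x v, D.form (rV x v) = D.form v := by
    intro x v
    obtain ⟨c, rfl⟩ := QuotientGroup.mk_surjective x
    obtain ⟨a, rfl⟩ := D.proj_surj v
    rw [hrV, D.form_proj, D.form_proj, ← map_pow, D.bit_aut]
  let R : Rep V :=
    { r := rV.comp ι
      inj := hinj.comp hιinj
      card := by rw [hV]; norm_num
      q := D.form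
      inv := fun g v => hinv _ v
      nondeg := fun v hv => D.nondeg.1 v hv }
  refine ⟨V, _, _, R, rV x0, ⟨?_, ?_, ?_⟩, ?_, ?_⟩
  · rw [← map_mul, hx0sq, map_one]
  · exact fun u => ⟨θ u, by
      show rV x0 * rV (ι u) = rV (ι (θ u)) * rV x0
      rw [← map_mul, hnorm, map_mul]⟩
  · exact fun u h => hout u (hinj h)
  · intro w
    by_contra hall
    push Not at hall
    obtain ⟨u, hu⟩ := hθout (θ w)⁻¹
    refine hu ?_
    have e1 : x0 * ι w * ι u = ι u * (x0 * ι w) := hinj (by
      rw [map_mul, map_mul, map_mul, map_mul]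
      exact hall u)
    rw [hnorm, mul_assoc, hnorm, ← mul_assoc, ← mul_assoc, ← map_mul, ← map_mul] at e1
    have e2 : θ w * θ u = u * θ w := by
      rw [← map_mul]
      exact hιinj ((mul_right_cancel e1).trans (map_mul ι _ _).symm)
    rw [inv_inv, mul_assoc, ← e2, inv_mul_cancel_left]
  let val : Q → G := fun a => ((a : centralizer ({z} : Set G)) : G)
  have hval : Function.Injective val := fun a b h => Subtype.ext (Subtype.ext h)
  let act : G → (V ≃ₗ[ZMod 2] V) :=
    fun g => if h : g ∈ centralizer ({z} : Set G) then rV (QuotientGroup.mk ⟨g, h⟩) else 1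
  have hact : ∀ c : centralizer ({z} : Set G), act c = rV (QuotientGroup.mk c) := fun c => dif_pos c.2
  let pr : G → V := fun g => if h : ∃ a : Q, val a = g then D.proj h.choose else 0
  have hpr : ∀ a : Q, pr (val a) = D.proj a := fun a => by
    have h : ∃ b : Q, val b = val a := ⟨a, rfl⟩
    show dite _ _ _ = _
    rw [dif_pos h, hval h.choose_spec]
  have hq : ∀ a : Q, R.q (pr (val a)) = Geo.ExtraOut.bit (a ^ 2) := fun a => by rw [hpr]; exact D.form_proj a
  have hlift : ∀ x, ∃ a, Commute a z ∧ act a = rV x := fun x => by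
    obtain ⟨c, hc⟩ := QuotientGroup.mk_surjective x
    exact ⟨c, mem_centralizer_singleton_iff.1 c.2, by rw [hact, hc]⟩
  refine ⟨{
    z_sq := by rw [← pow_two, ← hz, pow_orderOf_eq_one]
    z_ne := fun h => by rw [h, orderOf_one] at hz; omega
    J := Q.map (centralizer ({z} : Set G)).subtype
    J_comm := by
      rintro _ ⟨a, -, rfl⟩
      exact mem_centralizer_singleton_iff.1 a.2
    z_mem := ⟨⟨z, hzc⟩, hzQ, rfl⟩
    act := act
    act_mul := fun a b ha hb => by
      have ha' := mem_centralizer_singleton_iff.2 ha.eq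
      have hb' := mem_centralizer_singleton_iff.2 hb.eq
      show act ((⟨a, ha'⟩ * ⟨b, hb'⟩ : centralizer ({z} : Set G)) : G) = act (⟨a, ha'⟩ : centralizer ({z} : Set G)) *
        act (⟨b, hb'⟩ : centralizer ({z} : Set G))
      rw [hact, hact, hact, QuotientGroup.mk_mul, map_mul]
    act_J := fun a ha => by
      have ha' := mem_centralizer_singleton_iff.2 ha.eq
      rw [show act a = rV (QuotientGroup.mk ⟨a, ha'⟩) from hact ⟨a, ha'⟩, map_eq_one_iff _ hinj,
        QuotientGroup.eq_one_iff]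
      exact ⟨fun h => ⟨_, h, rfl⟩, fun ⟨c, hc, hce⟩ => (show c = ⟨a, ha'⟩ from Subtype.ext hce) ▸ hc⟩
    act_range := fun a ha => by
      obtain ⟨w, h | h⟩ := hcases (QuotientGroup.mk ⟨a, mem_centralizer_singleton_iff.2 ha.eq⟩)
      · refine ⟨w, Or.inl ?_⟩
        rw [show act a = rV (ι w) from (hact ⟨a, mem_centralizer_singleton_iff.2 ha.eq⟩).trans (congrArg rV h)]
        rfl
      · refine ⟨w, Or.inr ?_⟩
        rw [show act a = rV (ι w * x0) from (hact ⟨a, mem_centralizer_singleton_iff.2 ha.eq⟩).trans (congrArg rV h),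
          map_mul]
        rfl
    act_surj := fun u => hlift (ι u)
    act_out := hlift x0
    pr := pr
    pr_mul := ?_
    pr_zero := ?_
    pr_surj := fun v => by
      obtain ⟨a, rfl⟩ := D.proj_surj v
      exact ⟨val a, ⟨a, a.2, rfl⟩, hpr a⟩
    sq := ?_
    comm := ?_
    pr_act := ?_ }, rfl⟩
  · rintro _ ⟨a, ha, rfl⟩ _ ⟨b, hb, rfl⟩
    show pr (val (⟨a, ha⟩ * ⟨b, hb⟩ : Q)) = pr (val (⟨a, ha⟩ : Q)) + pr (val (⟨b, hb⟩ : Q))
    rw [hpr, hpr, hpr, D.proj_mul]
  · rintro _ ⟨a, ha, rfl⟩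
    show pr (val (⟨a, ha⟩ : Q)) = 0 ↔ val (⟨a, ha⟩ : Q) = 1 ∨ val (⟨a, ha⟩ : Q) = val zq
    rw [hpr, D.proj_eq_zero]
    constructor
    · intro h
      rcases D.center_cases h with h | h
      · exact Or.inl (congrArg val h)
      · exact Or.inr (congrArg val (h.trans hzz.symm))
    · rintro (h | h)
      · rw [show (⟨a, ha⟩ : Q) = 1 from hval h]; exact one_mem _
      · rw [hval h, hzz]; exact D.z_mem
  · rintro _ ⟨a, ha, rfl⟩
    show val (⟨a, ha⟩ * ⟨a, ha⟩ : Q) = if R.q (pr (val (⟨a, ha⟩ : Q))) = 0 then 1 else val zq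
    rw [hq, pow_two]
    rcases D.center_cases (pow_two (⟨a, ha⟩ : Q) ▸ D.sq_mem ⟨a, ha⟩) with h | h
    · rw [h, Geo.ExtraOut.bit_one, if_pos rfl]; rfl
    · rw [h, D.bit_z, if_neg one_ne_zero, hzz]
  · rintro _ ⟨a, ha, rfl⟩ _ ⟨b, hb, rfl⟩
    show val (⟨a, ha⟩ * ⟨b, hb⟩ : Q) = if R.B (pr (val (⟨a, ha⟩ : Q))) (pr (val (⟨b, hb⟩ : Q))) = 0 then
      val (⟨b, hb⟩ * ⟨a, ha⟩ : Q) else val (⟨b, hb⟩ * ⟨a, ha⟩ * zq : Q)
    generalize (⟨a, ha⟩ : Q) = x
    generalize (⟨b, hb⟩ : Q) = y
    rw [hpr, hpr, show R.B (D.proj x) (D.proj y) = Geo.ExtraOut.bit ⁅x, y⁆ from D.polar_form x y]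
    rcases D.center_cases (D.comm_mem x y) with h | h
    · rw [h, Geo.ExtraOut.bit_one, if_pos rfl, commutatorElement_eq_one_iff_mul_comm.1 h]
    · rw [h, D.bit_z, if_neg one_ne_zero, hzz, mem_center_iff.1 D.z_mem (y * x), ← h, commutatorElement_def]
      congr 1
      group
  · rintro a ha _ ⟨b, hb, rfl⟩
    have ha' := mem_centralizer_singleton_iff.2 ha.eq
    let c : centralizer ({z} : Set G) := ⟨a, ha'⟩
    show pr (val (MulAut.conjNormal c (⟨b, hb⟩ : Q))) = act c (pr (val (⟨b, hb⟩ : Q)))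
    rw [hpr, hpr, hact, hrV]

namespace Ce

variable {G : Type*} [Group G] {z : G} {V : Type v} [AddCommGroup V] [Module (ZMod 2) V] {R : Rep V}
  {f0 : V ≃ₗ[ZMod 2] V} (D : Ce z R f0)
include D

/-- The action keeps the form. -/
theorem act_q {a : G} (ha : Commute a z) (v : V) : R.q (D.act a v) = R.q v := by
  obtain ⟨j, hj, rfl⟩ := D.pr_surj v
  rw [← D.pr_act a ha j hj]
  have hj' := D.conj_mem ha hj
  have e : a * j * a⁻¹ * (a * j * a⁻¹) = a * (j * j) * a⁻¹ := by group
  rcases D.sq_cases hj with h | h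
  · rw [(D.invol_iff hj).1 h, (D.invol_iff hj').1 (by rw [e, h]; group)]
  · have h1 : R.q (D.pr j) ≠ 0 := fun q => D.z_ne (h.symm.trans ((D.invol_iff hj).2 q))
    have h2 : R.q (D.pr (a * j * a⁻¹)) ≠ 0 := fun q => D.z_ne (by
      rw [← (D.invol_iff hj').2 q, e, h, ha.eq, mul_inv_cancel_right])
    rw [zmod2_ne _ h1, zmod2_ne _ h2]

theorem act_B {a : G} (ha : Commute a z) (v w : V) : R.B (D.act a v) (D.act a w) = R.B v w := by
  simp only [Rep.B, QuadraticMap.polar, ← map_add, D.act_q ha]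

/-- In the natural case the coordinates are standard. -/
theorem exists_natural (hf : IsOuter R f0) (hout : ∀ w, ∃ u, f0 * R.r w * R.r u ≠ R.r u * (f0 * R.r w))
    (hN : R.IsNat) : ∃ D' : Ce z R4 tauF, D'.J = D.J := by
  classical
  obtain ⟨Φ, α, hq, hr⟩ := Rep.natural (R := R) hN
  obtain ⟨a0, ha0, hat⟩ := D.act_out
  let g : V4 ≃ₗ[ZMod 2] V4 := (Φ.symm.trans f0).trans Φ
  have hg : ∀ v, g v = Φ (f0 (Φ.symm v)) := fun _ => rfl
  have hgq : ∀ v, qn4 (g v) = qn4 v := fun v => by
    rw [hg, ← hq, ← hat, D.act_q ha0, hq, LinearEquiv.apply_symm_apply]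
  choose θ hθ using hf.norm
  have hgr : ∀ u v, g (suMat (α u) *ᵥ v) = suMat (α (θ u)) *ᵥ g v := fun u v => by
    rw [hg, hg, ← hr]
    congr 1
    rw [show Φ.symm (suMat (α u) *ᵥ v) = R.r u (Φ.symm v) from Φ.injective (by
      rw [hr, LinearEquiv.apply_symm_apply, LinearEquiv.apply_symm_apply])]
    exact LinearEquiv.congr_fun (hθ u) _
  let S : V4 ≃ₗ[ZMod 2] V4 :=
    { toFun := fun v => om • v
      invFun := fun v => (om * om) • v
      left_inv := fun v => by show (om * om) • om • v = v; rw [smul_smul, show om * om * om = 1 by decide +kernel, one_smul]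
      right_inv := fun v => by show om • (om * om) • v = v; rw [smul_smul, show om * (om * om) = 1 by decide +kernel, one_smul]
      map_add' := fun v w => smul_add _ _ _
      map_smul' := fun c v => smul_comm om c v }
  obtain ⟨c, hc0, hc⟩ := cent_natural ((g.symm.trans S).trans g) fun u v => by
    show g (om • g.symm (suMat u *ᵥ v)) = suMat u *ᵥ g (om • g.symm v)
    obtain ⟨u', hu'⟩ : ∃ u', α (θ u') = u := by
      refine ⟨θ (α.symm u), ?_⟩
      have : θ (θ (α.symm u)) = α.symm u := R.inj (mul_right_cancel (b := f0) (by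
        rw [← hθ]
        calc f0 * R.r (θ (α.symm u)) = f0 * (R.r (θ (α.symm u)) * f0) * f0 := by rw [mul_assoc, mul_assoc, hf.sq, mul_one]
          _ = f0 * (f0 * R.r (α.symm u)) * f0 := by rw [hθ]
          _ = R.r (α.symm u) * f0 := by rw [← mul_assoc f0 f0, hf.sq, one_mul]))
      rw [this, MulEquiv.apply_symm_apply]
    subst hu'
    rw [← hgr, show g.symm (suMat (α (θ u')) *ᵥ v) = suMat (α u') *ᵥ g.symm v from
      g.injective (by rw [g.apply_symm_apply, hgr, g.apply_symm_apply]), ← Matrix.mulVec_smul]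
  have hgom : ∀ v, g (om • v) = c • g v := fun v => by
    have := hc (g v)
    rwa [show ((g.symm.trans S).trans g) (g v) = g (om • g.symm (g v)) from rfl, g.symm_apply_apply] at this
  have hne1 : c ≠ 1 := fun e => by
    have h := hgom ![1, 0, 0, 0]
    rw [e, one_smul] at h
    exact absurd (congrFun (g.injective h) 0) (by decide +kernel)
  rcases (f4_units c hc0).resolve_left hne1 with rfl | rfl
  · exfalso
    let L : V4 →ₗ[F4] V4 :=
      { toFun := g
        map_add' := map_add g
        map_smul' := fun b v => by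
          rcases f4_basis b with rfl | rfl | rfl | rfl
          · rw [zero_smul, map_zero]; exact (zero_smul F4 _).symm
          · rw [one_smul]; exact (one_smul F4 _).symm
          · exact hgom v
          · rw [add_smul, one_smul, map_add, hgom]; simp [add_smul] }
    obtain ⟨d, u, hd, hL⟩ := linear_natural L g.injective hgq
    obtain ⟨y, hy⟩ := hout (α.symm u⁻¹)
    refine hy (LinearEquiv.ext fun v => Φ.injective ?_)
    have key : ∀ v, Φ (f0 (R.r (α.symm u⁻¹) v)) = d • Φ v := fun v => by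
      have h1 : g (suMat u⁻¹ *ᵥ Φ v) = d • Φ v := by
        rw [show g (suMat u⁻¹ *ᵥ Φ v) = d • (suMat u *ᵥ (suMat u⁻¹ *ᵥ Φ v)) from hL _, Matrix.mulVec_mulVec,
          ← suMat_mul, mul_inv_cancel, suMat_one, Matrix.one_mulVec]
      rw [← h1, hg]
      congr 2
      exact Φ.injective (by rw [LinearEquiv.apply_symm_apply, hr, MulEquiv.apply_symm_apply])
    show Φ (f0 (R.r (α.symm u⁻¹) (R.r y v))) = Φ (R.r y (f0 (R.r (α.symm u⁻¹) v)))
    rw [key, hr, hr, key, Matrix.mulVec_smul]
  let L : V4 →ₗ[F4] V4 :=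
    { toFun := fun v => g (tauF v)
      map_add' := fun v w => by rw [map_add, map_add]
      map_smul' := fun b v => by
        rcases f4_basis b with rfl | rfl | rfl | rfl
        · rw [zero_smul, map_zero, map_zero]; exact (zero_smul F4 _).symm
        · rw [one_smul]; exact (one_smul F4 _).symm
        all_goals
          have e : g (tauF (om • v)) = om • g (tauF v) := by
            rw [tauF_smul, ← smul_smul, hgom, hgom, smul_smul, show om * om * (om * om) = om by decide +kernel]
        · exact e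
        · rw [add_smul, one_smul, map_add, map_add, e]; simp [add_smul] }
  obtain ⟨d, u, hd, hL⟩ := linear_natural L (g.injective.comp tauF.injective) fun v => by
    show qn4 (g (tauF v)) = qn4 v
    rw [hgq, tauF_apply, qn4_tauF]
  let Φ' : V ≃ₗ[ZMod 2] V4 := Φ.trans
    { toFun := fun v => d • v
      invFun := fun v => (d * d) • v
      left_inv := fun v => by show (d * d) • d • v = v; rw [smul_smul, (f4_scalar d hd).1, one_smul]
      right_inv := fun v => by show d • (d * d) • v = v; rw [smul_smul, ← mul_assoc, (f4_scalar d hd).1, one_smul]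
      map_add' := fun v w => smul_add _ _ _
      map_smul' := fun c v => smul_comm d c v }
  have hΦ : ∀ v, Φ' v = d • Φ v := fun _ => rfl
  have hr' : ∀ w v, Φ' (R.r w v) = suMat (α w) *ᵥ Φ' v := fun w v => by rw [hΦ, hΦ, hr, Matrix.mulVec_smul]
  have hf' : ∀ v, Φ' (f0 v) = suMat u *ᵥ tauF (Φ' v) := fun v => by
    have h1 : g (Φ v) = d • (suMat u *ᵥ tauF (Φ v)) := by
      rw [← hL]
      show g (Φ v) = g (tauF (tauF (Φ v)))
      rw [show tauF (tauF (Φ v)) = Φ v from tauF.left_inv _]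
    rw [hΦ, show Φ (f0 v) = g (Φ v) by rw [hg, LinearEquiv.symm_apply_apply], h1, hΦ, tauF_smul, Matrix.mulVec_smul,
      smul_smul]
  have hq' : ∀ v, R.q v = qn4 (Φ' v) := fun v => by rw [hΦ, qn4_smul hd, hq]
  have hB : ∀ v w, R.B v w = R4.B (Φ' v) (Φ' w) := fun v w => by
    simp only [Rep.B, QuadraticMap.polar, R4_q, ← map_add, hq']
  let cj : (V ≃ₗ[ZMod 2] V) → (V4 ≃ₗ[ZMod 2] V4) := fun T => (Φ'.symm.trans T).trans Φ'
  have cj_mul : ∀ S T, cj (S * T) = cj S * cj T := fun S T => LinearEquiv.ext fun v => by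
    show Φ' (S (T (Φ'.symm v))) = Φ' (S (Φ'.symm (Φ' (T (Φ'.symm v)))))
    rw [LinearEquiv.symm_apply_apply]
  have cj_r : ∀ w, cj (R.r w) = R4.r (α w) := fun w => LinearEquiv.ext fun v => by
    show Φ' (R.r w (Φ'.symm v)) = suMat (α w) *ᵥ v
    rw [hr', LinearEquiv.apply_symm_apply]
  have cj_f : cj f0 = R4.r u * tauF := LinearEquiv.ext fun v => by
    show Φ' (f0 (Φ'.symm v)) = suMat u *ᵥ tauF v
    rw [hf', LinearEquiv.apply_symm_apply]
  refine ⟨{
    z_sq := D.z_sq, z_ne := D.z_ne, J := D.J, J_comm := D.J_comm, z_mem := D.z_mem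
    act := fun a => cj (D.act a)
    act_mul := fun a b ha hb => by rw [D.act_mul a b ha hb, cj_mul]
    act_J := fun a ha => by
      rw [← D.act_J a ha]
      refine ⟨fun h => LinearEquiv.ext fun v => ?_, fun h => ?_⟩
      · have := LinearEquiv.congr_fun h (Φ' v)
        simp only [cj, LinearEquiv.trans_apply, LinearEquiv.symm_apply_apply] at this
        exact Φ'.injective this
      · rw [h]
        exact LinearEquiv.ext fun v => Φ'.apply_symm_apply v
    act_range := fun a ha => by
      obtain ⟨w, h | h⟩ := D.act_range a ha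
      · exact ⟨α w, Or.inl (by rw [h, cj_r])⟩
      · exact ⟨α w * u, Or.inr (by rw [h, cj_mul, cj_r, cj_f, map_mul, mul_assoc])⟩
    act_surj := fun w => by
      obtain ⟨a, ha, h⟩ := D.act_surj (α.symm w)
      exact ⟨a, ha, by rw [h, cj_r, MulEquiv.apply_symm_apply]⟩
    act_out := by
      obtain ⟨b, hb, h⟩ := D.act_surj (α.symm u⁻¹)
      refine ⟨b * a0, hb.mul_left ha0, ?_⟩
      rw [D.act_mul b a0 hb ha0, cj_mul, h, hat, cj_r, cj_f, MulEquiv.apply_symm_apply, ← mul_assoc, ← map_mul,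
        inv_mul_cancel, map_one, one_mul]
    pr := fun a => Φ' (D.pr a)
    pr_mul := fun a ha b hb => by rw [D.pr_mul a ha b hb, map_add]
    pr_zero := fun a ha => by rw [LinearEquiv.map_eq_zero_iff]; exact D.pr_zero a ha
    pr_surj := fun w => by
      obtain ⟨a, ha, e⟩ := D.pr_surj (Φ'.symm w)
      exact ⟨a, ha, by rw [e, LinearEquiv.apply_symm_apply]⟩
    sq := fun a ha => by rw [D.sq a ha, R4_q, hq']
    comm := fun a ha b hb => by rw [D.comm a ha b hb, hB]
    pr_act := fun a ha b hb => by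
      rw [D.pr_act a ha b hb]
      show _ = Φ' (D.act a (Φ'.symm (Φ' (D.pr b))))
      rw [LinearEquiv.symm_apply_apply] }, rfl⟩

end Ce

end CfsgLib.U62Cent
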