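import Cfsg.Agent.U62Cent.Pair

/-!
Extensions of the image of the unitary group by an outer involution: the standard one on the natural module,
and general facts.
-/

set_option autoImplicit false
set_option maxRecDepth 100000
set_option maxHeartbeats 1000000
set_option linter.style.haveILetI false
set_option linter.unusedSectionVars false

open scoped Matrix

namespace CfsgLib.U62Cent

open CfsgLib Subgroup
open CfsgLib.FiLarge (F4 om omp)
open CfsgLib.Unitary (suMat suMat_mul suMat_one su_ext su_preserves)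

universe v

variable {V : Type v} [AddCommGroup V] [Module (ZMod 2) V]

/-- An involution extending the image of a representation. -/
structure IsOuter (R : Rep V) (f0 : V ≃ₗ[ZMod 2] V) : Prop where
  sq : f0 * f0 = 1
  norm : ∀ u, ∃ u', f0 * R.r u = R.r u' * f0
  out : ∀ u, f0 ≠ R.r u

namespace IsOuter

variable {R : Rep V} {f0 : V ≃ₗ[ZMod 2] V} (h : IsOuter R f0)
include h

theorem inv_eq : f0⁻¹ = f0 := inv_eq_of_mul_eq_one_right h.sq

theorem out_mul (u : U4) : R.r u * f0 ∉ R.r.range := fun ⟨w, e⟩ => h.out (u⁻¹ * w) (by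
  rw [map_mul, e, ← mul_assoc, map_inv, inv_mul_cancel, one_mul])

/-- Two elements of the outer coset differ by an inner one. -/
theorem inner_of_out {u w : U4} : (R.r u * f0)⁻¹ * (R.r w * f0) ∈ R.r.range := by
  obtain ⟨x, hx⟩ := h.norm (u⁻¹ * w)
  refine ⟨x, ?_⟩
  rw [_root_.mul_inv_rev, h.inv_eq, show f0 * (R.r u)⁻¹ * (R.r w * f0) = f0 * R.r (u⁻¹ * w) * f0 by
    rw [map_mul, map_inv]; group, hx, mul_assoc, h.sq, mul_one]

/-- A group of extended maps is at most twice its inner part. -/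
theorem card_le (E : Subgroup (V ≃ₗ[ZMod 2] V))
    (hE : ∀ e ∈ E, ∃ u, e = R.r u ∨ e = R.r u * f0) :
    Nat.card E ≤ 2 * Nat.card (E.comap R.r) := by
  classical
  haveI := R.finite
  by_cases hall : ∀ e ∈ E, e ∈ R.r.range
  · have hb : Function.Bijective (fun u : E.comap R.r => (⟨R.r u, u.2⟩ : E)) :=
      ⟨fun a b e => Subtype.ext (R.inj (congrArg Subtype.val e)), fun e => by
        obtain ⟨u, hu⟩ := hall e e.2
        exact ⟨⟨u, show R.r u ∈ E by rw [hu]; exact e.2⟩, Subtype.ext hu⟩⟩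
    rw [← Nat.card_eq_of_bijective _ hb]
    omega
  push Not at hall
  obtain ⟨e0, he0, he0n⟩ := hall
  obtain ⟨u0, rfl⟩ : ∃ u, e0 = R.r u * f0 := by
    obtain ⟨u, rfl | rfl⟩ := hE e0 he0
    exacts [absurd ⟨u, rfl⟩ he0n, ⟨u, rfl⟩]
  let g : E.comap R.r × ZMod 2 → E := fun p =>
    if p.2 = 0 then ⟨R.r p.1, p.1.2⟩ else ⟨R.r u0 * f0 * R.r p.1, mul_mem he0 p.1.2⟩
  have hg : Function.Surjective g := fun e => by
    obtain ⟨u, hu | hu⟩ := hE e e.2
    · exact ⟨(⟨u, show R.r u ∈ E by rw [← hu]; exact e.2⟩, 0), Subtype.ext (by simp [g, hu])⟩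
    · obtain ⟨x, hx⟩ := h.inner_of_out (u := u0) (w := u)
      refine ⟨(⟨x, show R.r x ∈ E by rw [hx, ← hu]; exact mul_mem (inv_mem he0) e.2⟩, 1), Subtype.ext ?_⟩
      show ((g (_, 1) : E) : V ≃ₗ[ZMod 2] V) = e
      simp only [g, if_neg (one_ne_zero : (1 : ZMod 2) ≠ 0)]
      rw [hx, mul_inv_cancel_left, hu]
  have := Nat.card_le_card_of_surjective g hg
  rwa [Nat.card_prod, Nat.card_zmod, mul_comm] at this

end IsOuter

/-- A totally isotropic subgroup has at most sixteen elements. -/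
theorem Rep.isotropic_bound (R : Rep V) (M : AddSubgroup V) (hM : ∀ a ∈ M, ∀ b ∈ M, R.B a b = 0) :
    Nat.card M ≤ 16 := by
  classical
  haveI := R.finite
  haveI : Fact (Nat.Prime 2) := ⟨Nat.prime_two⟩
  let N : Submodule (ZMod 2) V := AddSubgroup.toZModSubmodule 2 M
  have hB : ∀ (c : ZMod 2) (v w : V), R.B v (c • w) = c • R.B v w := fun c v w => R.B_smul_right c v w
  let f : N →ₗ[ZMod 2] N.dualAnnihilator :=
    { toFun := fun m => ⟨{ toFun := R.B m.1, map_add' := R.B_add_right m.1,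
                           map_smul' := fun c w => hB c m.1 w },
        (Submodule.mem_dualAnnihilator _).2 fun w hw => hM _ m.2 w hw⟩
      map_add' := fun a b => Subtype.ext (LinearMap.ext fun w => R.B_add_left a.1 b.1 w)
      map_smul' := fun c a => Subtype.ext (LinearMap.ext fun w => by
        show R.B (c • a.1) w = c • R.B a.1 w
        rw [R.B_comm, hB, R.B_comm]) }
  have hf : Function.Injective f := (injective_iff_map_eq_zero f).2 fun a ha => Subtype.ext (R.nondeg a.1 fun w =>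
    LinearMap.congr_fun (congrArg Subtype.val ha) w)
  have h1 := LinearMap.finrank_le_finrank_of_injective hf
  have h2 := Subspace.finrank_add_finrank_dualAnnihilator_eq N
  have h8 : Module.finrank (ZMod 2) V = 8 := by
    have h := Module.natCard_eq_pow_finrank (K := ZMod 2) (V := V)
    rw [R.card, Nat.card_zmod] at h
    exact (Nat.pow_right_injective le_rfl (h.symm.trans (by norm_num : (256 : ℕ) = 2 ^ 8)))
  have h3 : Nat.card M = 2 ^ Module.finrank (ZMod 2) N := by
    have h := Module.natCard_eq_pow_finrank (K := ZMod 2) (V := N)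
    rw [Nat.card_zmod] at h
    exact h
  rw [h3]
  exact (Nat.pow_le_pow_right (by norm_num) (show Module.finrank (ZMod 2) N ≤ 4 by omega)).trans (by norm_num)

theorem y_norm : ∀ t : F4 × F4 × F4, OkU t →
    ∃ t' : F4 × F4 × F4, OkU t' ∧ tmat p1 * hmat t * tmat p1 = hmat t' := by decide +kernel

theorem y_squares : ∃ t : F4 × F4 × F4, OkU t ∧
    tmat p1 * hmat t * (tmat p1 * hmat t) ≠ 1 ∧ tmat p1 * hmat t * (tmat p1 * hmat t) ≠ tmat p0 := by
  decide +kernel

theorem i_square : hmat (1, 0, om) * hmat (1, 0, om) = tmat p0 ∧ tmat p0 ≠ 1 ∧ OkU (1, 0, om) := by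
  decide +kernel

/-- The squares in a Sylow subgroup are not confined to one involution. -/
theorem sylow_squares (S : Subgroup U4) (hS : Nat.card S = 64) (t : U4)
    (h : ∀ a ∈ S, a * a = 1 ∨ a * a = t) : False := by
  haveI : Fact (Nat.Prime 2) := ⟨Nat.prime_two⟩
  set y := tvp p1
  have hyy : y * y = 1 := tvp_sq p1_pt.1
  have hy2 : IsPGroup 2 (Subgroup.zpowers y) := by
    rintro ⟨x, k, rfl⟩
    refine ⟨1, Subtype.ext ?_⟩
    show (_ ^ k) ^ 2 ^ 1 = 1
    rw [pow_one, ← zpow_natCast (_ ^ k), zpow_comm, zpow_natCast, pow_two, hyy, one_zpow]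
  have hconj : ∀ u ∈ UU, y * u * y⁻¹ ∈ UU := by
    rintro _ ⟨t, ht, rfl⟩
    obtain ⟨t', ht', e⟩ := y_norm t ht
    refine ⟨t', ht', su_ext fun x => ?_⟩
    rw [tvp_inv p1_pt.1, suMat_mul, suMat_mul, tvp_mat p1_pt.1, hE_mat ht, hE_mat ht', e]
  have hnorm : Subgroup.zpowers y ≤ normalizer (UU : Set U4) := by
    rw [zpowers_le, mem_normalizer_iff]
    intro u
    refine ⟨hconj u, fun hu => ?_⟩
    have := hconj _ hu
    rwa [show y * (y * u * y⁻¹) * y⁻¹ = (y * y) * u * (y * y)⁻¹ by group, hyy, inv_one, one_mul, mul_one] at this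
  have hP : IsPGroup 2 ↥(Subgroup.zpowers y ⊔ UU) := hy2.to_sup_of_normal_right' two_UU hnorm
  obtain ⟨Q, hQ⟩ := hP.exists_le_sylow
  obtain ⟨P, hP'⟩ := (IsPGroup.of_card (n := 6) (show Nat.card S = 2 ^ 6 by rw [hS]; norm_num)).exists_le_sylow
  have hSP : (P : Subgroup U4) = S := (Subgroup.eq_of_le_of_card_ge hP' (by rw [hS, sylow_card P])).symm
  obtain ⟨x, hx⟩ := MulAction.exists_smul_eq U4 P Q
  have hQsq : ∀ a ∈ (Q : Subgroup U4), a * a = 1 ∨ a * a = x * t * x⁻¹ := by
    intro a ha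
    rw [← hx] at ha
    obtain ⟨b, hb, rfl⟩ := ha
    rw [SetLike.mem_coe, hSP] at hb
    show x * b * x⁻¹ * (x * b * x⁻¹) = 1 ∨ x * b * x⁻¹ * (x * b * x⁻¹) = x * t * x⁻¹
    rw [show x * b * x⁻¹ * (x * b * x⁻¹) = x * (b * b) * x⁻¹ by group]
    rcases h b hb with e | e <;> rw [e]
    · left; group
    · right; rfl
  obtain ⟨t1, ht1, n1, n0⟩ := y_squares
  obtain ⟨e0, ne0, o0⟩ := i_square
  have hi : hE (1, 0, om) ∈ (Q : Subgroup U4) := hQ (mem_sup_right (hE_mem o0))
  have hb : y * hE t1 ∈ (Q : Subgroup U4) :=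
    hQ (mul_mem (mem_sup_left (mem_zpowers y)) (mem_sup_right (hE_mem ht1)))
  have m1 : suMat (hE (1, 0, om) * hE (1, 0, om)) = tmat p0 := by rw [suMat_mul, hE_mat o0, e0]
  have m2 : suMat (y * hE t1 * (y * hE t1)) = tmat p1 * hmat t1 * (tmat p1 * hmat t1) := by
    rw [suMat_mul, suMat_mul, hE_mat ht1, tvp_mat p1_pt.1]
  rcases hQsq _ hi with e | e
  · rw [e, suMat_one] at m1; exact ne0 m1.symm
  rcases hQsq _ hb with e' | e'
  · rw [e', suMat_one] at m2; exact n1 m2.symm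
  · rw [e', ← e, m1] at m2; exact n0 m2.symm

/-- The semilinear involution with totally singular fixed space. -/
def tauF : V4 ≃ₗ[ZMod 2] V4 where
  toFun v := ![v 1 * v 1, v 0 * v 0, v 3 * v 3, v 2 * v 2]
  invFun v := ![v 1 * v 1, v 0 * v 0, v 3 * v 3, v 2 * v 2]
  left_inv v := by
    funext i
    have h : ∀ x : F4, x * x * (x * x) = x := by decide +kernel
    fin_cases i <;> simp [h]
  right_inv v := by
    funext i
    have h : ∀ x : F4, x * x * (x * x) = x := by decide +kernel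
    fin_cases i <;> simp [h]
  map_add' v w := by
    funext i
    fin_cases i <;> simp [f4_sq_add']
  map_smul' c v := by
    funext i
    rcases (by decide : ∀ c : ZMod 2, c = 0 ∨ c = 1) c with rfl | rfl <;> fin_cases i <;> simp

theorem tauF_apply (v : V4) : tauF v = ![v 1 * v 1, v 0 * v 0, v 3 * v 3, v 2 * v 2] := rfl

theorem tauF_h4 (x p : V4) : h4 (tauF x) (tauF p) = h4 x p * h4 x p := by
  simp only [h4, tauF_apply, f4_sq_add']
  simp
  ring

theorem tauF_smul (c : F4) (v : V4) : tauF (c • v) = (c * c) • tauF v := by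
  funext i
  fin_cases i <;> simp [tauF_apply] <;> ring

theorem tauF_pt {p : V4} (hp : IsPt4 p) : IsPt4 (tauF p) :=
  ⟨fun e => hp.1 (tauF.map_eq_zero_iff.1 e), by rw [tauF_h4, hp.2, mul_zero]⟩

theorem tauF_tvp {p : V4} (hp : IsPt4 p) : tauF * R4.r (tvp p) = R4.r (tvp (tauF p)) * tauF :=
  LinearEquiv.ext fun x => by
    show tauF (suMat (tvp p) *ᵥ x) = suMat (tvp (tauF p)) *ᵥ tauF x
    rw [tvp_apply hp, tvp_apply (tauF_pt hp), map_add, tauF_smul, tauF_h4]

theorem tauF_sq : tauF * tauF = (1 : V4 ≃ₗ[ZMod 2] V4) := LinearEquiv.ext fun v => tauF.left_inv v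

theorem tauF_outer : IsOuter R4 tauF where
  sq := tauF_sq
  norm u := by
    let S : Subgroup U4 :=
      { carrier := {u | ∃ u', tauF * R4.r u = R4.r u' * tauF}
        one_mem' := ⟨1, by rw [map_one, mul_one, one_mul]⟩
        mul_mem' := fun {a b} ⟨a', ha⟩ ⟨b', hb⟩ => ⟨a' * b', by
          rw [map_mul, map_mul, ← mul_assoc, ha, mul_assoc, hb, ← mul_assoc]⟩
        inv_mem' := fun {a} ⟨a', ha⟩ => ⟨a'⁻¹, by
          rw [map_inv, map_inv, eq_inv_mul_iff_mul_eq, ← mul_assoc, mul_inv_eq_iff_eq_mul, ha]⟩ }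
    have hS : S = ⊤ := by
      rw [eq_top_iff, ← closure_tvp, Subgroup.closure_le]
      rintro _ ⟨p, hp, rfl⟩
      exact ⟨_, tauF_tvp hp⟩
    exact (hS ▸ Subgroup.mem_top u : u ∈ S)
  out u e := by
    have h1 : ∀ v, tauF (om • v) = om • tauF v := fun v => by
      rw [e]
      show suMat u *ᵥ (om • v) = om • (suMat u *ᵥ v)
      rw [Matrix.mulVec_smul]
    have h2 := h1 ![1, 0, 0, 0]
    rw [tauF_smul] at h2
    exact absurd (congrFun h2 1) (by decide +kernel)

theorem tauF_p0 : tauF p0 = p0 := by rw [tauF_apply]; decide +kernel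

/-- An extended map fixing the base point commutes with its transvection. -/
theorem ext_fix_p0 {f : V4 ≃ₗ[ZMod 2] V4} (hf : ∃ u, f = R4.r u ∨ f = R4.r u * tauF) (h : f p0 = p0) :
    f * R4.r (tvp p0) * f⁻¹ = R4.r (tvp p0) := by
  rw [mul_inv_eq_iff_eq_mul]
  obtain ⟨u, rfl | rfl⟩ := hf
  · have hu : suMat u *ᵥ p0 = p0 := h
    rw [← map_mul, ← map_mul]
    congr 1
    rw [← mul_inv_eq_iff_eq_mul, tvp_conj p0_pt, hu]
  · have hu : suMat u *ᵥ p0 = p0 := by
      have h' : suMat u *ᵥ tauF p0 = p0 := h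
      rwa [tauF_p0] at h'
    rw [mul_assoc, tauF_tvp p0_pt, tauF_p0, ← mul_assoc, ← mul_assoc, ← map_mul, ← map_mul]
    congr 2
    rw [← mul_inv_eq_iff_eq_mul, tvp_conj p0_pt, hu]

end CfsgLib.U62Cent
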