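import Cfsg.Agent.U62Cent.Group

/-!
The component is the whole class: no involution of the generated group commutes with an outside member.
-/

set_option autoImplicit false
set_option maxRecDepth 100000
set_option maxHeartbeats 1000000
set_option linter.style.haveILetI false
set_option linter.unusedSectionVars false

open scoped Matrix

namespace CfsgLib.U62Cent

open CfsgLib Subgroup
open CfsgLib.FiLarge (F4 om omp)
open CfsgLib.Unitary (suMat suMat_mul suMat_one su_ext su_preserves)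

theorem p1_not_smul : ∀ c : F4, p1 ≠ c • p0 := by decide +kernel

theorem LS_shape : ∀ x : V4, LS x →
    (![x 0 + 0, x 0 + 0, x 2 + 0, x 2 + 0] : V4) = x := by
  rintro x ⟨h1, h2⟩
  funext i
  fin_cases i <;> simp [h1, h2]

theorem qn4_parity : ∀ v : V4, qn4 v = parity4 v := fun _ => rfl

variable {G : Type*} [Group G] [Finite G] {z : G}

/-- No member outside the component commutes with the element. -/
def Safe (z v : G) : Prop := ∀ m, Mem z m → Commute v m → m ∈ Om z

namespace Cd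

variable (D : Cd z R4) (hn : HasNb z)

include D hn

/-- A member of the component centralising the product of two commuting members centralises both. -/
theorem pair_split {a b d : G} (ha : a ∈ Om z) (hb : b ∈ Om z) (hd : d ∈ Om z) (hab : Commute a b)
    (hne : a ≠ b) (h : Commute d (a * b)) : Commute d a ∧ Commute d b := by
  have hC := D.Om_closed hn
  by_cases ca : Commute d a
  · refine ⟨ca, ?_⟩
    have := ca.mul_right h
    rwa [← mul_assoc, hC.sq ha, one_mul] at this
  exfalso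
  have cb : ¬ Commute d b := fun cb => ca (by
    have := h.mul_right cb
    rwa [mul_assoc, hC.sq hb, mul_one] at this)
  have h1 := hC.braid hd ha ca
  have h2 := hC.braid hd hb cb
  have e : d * (a * b) * d = a * b := by rw [h.eq, mul_assoc, hC.sq hd, mul_one]
  refine hne ?_
  have e1 : a * b = 1 := by
    calc a * b = d * (a * b) * d := e.symm
      _ = d * a * (d * d) * b * d := by rw [hC.sq hd]; group
      _ = (d * a * d) * (d * b * d) := by group
      _ = (a * d * a) * (b * d * b) := by rw [h1, h2]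
      _ = a * (d * (a * b) * d) * b := by group
      _ = (a * a) * (b * b) := by rw [e]; group
      _ = 1 := by rw [hC.sq ha, hC.sq hb, one_mul]
  rw [mul_eq_one_iff_eq_inv, hC.inv hb] at e1
  exact e1

/-- The members completing the product of the centre and a neighbour. -/
theorem za_mem {p : V4} (hp : IsPt4 p) {a m : G} (ha : a ∈ D.fib p) (hm : m ∈ Om z)
    (h : Mem z (z * a * m)) (hc : Commute m (z * a)) : m = z ∨ m = a := by
  obtain ⟨cz, ca⟩ := D.pair_split hn (z_Om z) (D.fib_Om hn ha) hm ha.2.1.symm (D.fib_ne_z hp ha).symm hc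
  have hcx : Commute (z * a * m) z := ((Commute.refl z).mul_left ha.2.1).mul_left cz
  rcases D.cases_mem h hcx with e | ⟨r, hr, fx⟩
  · right
    rw [mul_assoc, mul_eq_left, mul_eq_one_iff_eq_inv] at e
    rw [e, D.mem_inv hm.1]
  rcases D.cases_mem hm.1 cz with e | ⟨q, hq, fm⟩
  · exact Or.inl e
  exfalso
  have hph : tvp p * tvp q = tvp r := by
    rw [← fx.2.2, D.ph_mul _ _ ((Commute.refl z).mul_left ha.2.1) cz, D.ph_mul _ _ (Commute.refl z) ha.2.1,
      D.ph_z, one_mul, ha.2.2, fm.2.2]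
  by_cases same : tvp p = tvp q
  · rw [same, tvp_sq hq] at hph
    exact tvp_ne_one hr hph.symm
  · exact (mul_tvp_ne hp hq same).2 r hr ((D.fib_comm_iff hp hq ha fm).1 ca.symm) hph

/-- Three members over a point do not multiply to a member. -/
theorem not_mem_triple {p : V4} (hp : IsPt4 p) {a l l' : G} (ha : a ∈ D.fib p) (hl : l ∈ D.fib p)
    (hl' : l' ∈ D.fib p) (h1 : a ≠ l) (h2 : a ≠ l') (h3 : l ≠ l') : ¬ Mem z (a * l * l') := by
  intro hm
  obtain ⟨Da⟩ := D.view ha.1
  obtain ⟨q, hq, fl⟩ := Da.mem_fib (ha.1.symm.trans hl.1) (D.fib_same hp hl ha) h1.symm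
  obtain ⟨q', hq', fl'⟩ := Da.mem_fib (ha.1.symm.trans hl'.1) (D.fib_same hp hl' ha) h2.symm
  have e := Da.imp_same (hn.trans ha.1) hq hq' fl fl' fun t ht hta htl =>
    D.same_comm hp hl hl' (ha.1.trans ht) (D.same_line hn hp ha hl h1 t (ha.1.trans ht) hta htl) htl
  have fl'' : l' ∈ Da.fib q := show l' ∈ Da.cls (tvp q) by rw [e]; exact fl'
  have hJ : a * l * l' ∈ Da.J := by
    rw [mul_assoc]
    exact mul_mem Da.z_mem ((Da.pt_facts hq fl).2.1 l' fl'').1
  have e' := Da.mem_J (ha.1.symm.trans hm) hJ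
  rw [mul_assoc, mul_eq_left, mul_eq_one_iff_eq_inv, D.mem_inv hl'.1] at e'
  exact h3 e'

/-- The fourth member over a point. -/
theorem fourth {p : V4} (hp : IsPt4 p) {a l l' : G} (ha : a ∈ D.fib p) (hl : l ∈ D.fib p)
    (hl' : l' ∈ D.fib p) (h1 : a ≠ l) (h2 : a ≠ l') (h3 : l ≠ l') : z * a * l * l' ∈ D.fib p := by
  obtain ⟨-, f2, f3, -⟩ := D.pt_facts hp ha
  obtain ⟨hJ1, c1, e1⟩ := f2 l hl
  obtain ⟨hJ2, c2, e2⟩ := f2 l' hl'
  obtain ⟨x, hx, ex⟩ := f3 (c1 + c2)
  have cl : l * a = a * l := (D.fib_same hp hl ha).eq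
  have ez : a * l * (a * l') = l * l' := by
    calc a * l * (a * l') = a * (l * a) * l' := by group
      _ = (a * a) * l * l' := by rw [cl]; group
      _ = l * l' := by rw [D.mem_sq ha.1, one_mul]
  have epr : D.pr (a * l * (a * l')) = D.pr (a * x) := by rw [D.pr_mul _ hJ1 _ hJ2, e1, e2, ex, add_smul]
  rcases D.eq_of_pr (mul_mem hJ1 hJ2) (f2 x hx).1 epr with e | e <;> rw [ez] at e
  · exfalso
    refine D.not_mem_triple hn hp ha hl hl' h1 h2 h3 ?_
    rw [mul_assoc, ← e, ← mul_assoc, D.mem_sq ha.1, one_mul]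
    exact hx.1
  · have e' : x = a * (l * l' * z) := by rw [← e, ← mul_assoc, D.mem_sq ha.1, one_mul]
    have : z * a * l * l' = x := by
      rw [e']
      have hc : Commute (a * l * l') z := (ha.2.1.mul_left hl.2.1).mul_left hl'.2.1
      calc z * a * l * l' = z * (a * l * l') := by group
        _ = a * l * l' * z := hc.symm.eq
        _ = _ := by group
    rw [this]
    exact hx

/-- Splitting the product with an outside member. -/
theorem split {m m' : G} (hm : m ∈ Om z) (hm' : Mem z m') :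
    ∃ m'' ∈ Om z, ∃ s, (∀ c, Commute c m → Commute c m' → Commute c m'' ∧ Commute c s) ∧
      s * m'' * s⁻¹ = m' ∧ (m'' = m ∨ (Commute m m'' ∧ Commute (m * m'') m')) := by
  set r := m * m' with hr
  have hm2 := D.mem_sq hm.1
  have hinv : m * r * m⁻¹ = r⁻¹ := by
    rw [hr, D.mem_inv hm.1, _root_.mul_inv_rev, D.mem_inv hm.1, D.mem_inv hm',
      show m * (m * m') * m = m * m * (m' * m) by group, hm2, one_mul]
  have hpow : ∀ i : ℕ, m * r ^ i * m⁻¹ = (r ^ i)⁻¹ := fun i => by rw [← conj_pow, hinv, inv_pow]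
  have hflip : ∀ i : ℕ, r ^ i * m * r ^ i = m := fun i => by
    have h := hpow i
    rw [mul_inv_eq_iff_eq_mul] at h
    rw [mul_assoc, h, mul_inv_cancel_left]
  have two : ∀ (k i : ℕ), (r ^ i) ^ 2 ^ k = 1 → r ^ i ∈ closure (Om z) := by
    intro k
    induction k with
    | zero => intro i h; rw [pow_zero, pow_one] at h; rw [h]; exact one_mem _
    | succ k ih =>
      intro i h
      have h2 : r ^ (2 * i) ∈ closure (Om z) := ih _ (by
        rw [← pow_mul, ← h, ← pow_mul, pow_succ]; ring_nf)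
      refine D.Y_of_move hn hm (D.mem_Y_Om hn (hm.1.conj _) ?_)
      have e : r ^ i * m * (r ^ i)⁻¹ = r ^ (2 * i) * m := by
        rw [mul_inv_eq_iff_eq_mul, two_mul, pow_add, mul_assoc, mul_assoc, ← mul_assoc (r ^ i) m, hflip]
      rw [e]
      exact mul_mem h2 (subset_closure hm)
  have hr0 : orderOf r ≠ 0 := (orderOf_pos r).ne'
  obtain ⟨k, o, ho, hk⟩ : ∃ k o, Odd o ∧ orderOf r = 2 ^ k * o := by
    obtain ⟨k, o, ho, hk⟩ := Nat.exists_eq_two_pow_mul_odd hr0
    exact ⟨k, o, ho, hk⟩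
  obtain ⟨i, hi⟩ := ho
  have hord : (r ^ o) ^ 2 ^ k = 1 := by rw [← pow_mul, mul_comm, ← hk, pow_orderOf_eq_one]
  have hY := two k o hord
  have es : r ^ i * (m * r ^ o) * (r ^ i)⁻¹ = m' := by
    rw [mul_inv_eq_iff_eq_mul, hi, two_mul, pow_succ, pow_add]
    calc r ^ i * (m * (r ^ i * r ^ i * r)) = (r ^ i * m * r ^ i) * (r ^ i * r) := by group
      _ = m * (r ^ i * r) := by rw [hflip]
      _ = m * (r * r ^ i) := by rw [← pow_succ, pow_succ']
      _ = (m * r) * r ^ i := by group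
      _ = _ := by rw [hr, ← mul_assoc, hm2, one_mul]
  have hmem : Mem z (m * r ^ o) := (Mem.conj_iff (r ^ i)).1 (by rw [es]; exact hm')
  have hOm := D.mem_Y_Om hn hmem (mul_mem (subset_closure hm) hY)
  refine ⟨_, hOm, r ^ i, fun c h1 h2 => ⟨h1.mul_right ((h1.mul_right h2).pow_right o),
    (h1.mul_right h2).pow_right i⟩, es, ?_⟩
  by_cases hc : Commute m (m * r ^ o)
  · refine Or.inr ⟨hc, ?_⟩
    have e : m * (m * r ^ o) = r ^ o := by rw [← mul_assoc, hm2, one_mul]
    have h1 : Commute (r ^ o) r := (Commute.refl r).pow_left o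
    have h2 : Commute (r ^ o) m := by
      have := (Commute.refl m).mul_left hc.symm
      rw [e] at this
      exact this
    have := h2.mul_right h1
    rw [hr, ← mul_assoc, hm2, one_mul] at this
    rw [e]
    exact this
  · left
    have h3 := D.Om_cube hn hm hOm hc
    rw [← mul_assoc, hm2, one_mul] at h3
    have h1 : orderOf (r ^ o) ∣ 3 := orderOf_dvd_of_pow_eq_one h3
    have h2 : orderOf (r ^ o) ∣ 2 ^ k := orderOf_dvd_of_pow_eq_one hord
    have hco : Nat.Coprime 3 (2 ^ k) := Nat.Coprime.pow_right k (by norm_num)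
    have h0 : orderOf (r ^ o) = 1 := Nat.eq_one_of_dvd_coprimes hco h1 h2
    rw [orderOf_eq_one_iff] at h0
    rw [h0, mul_one]

/-- The centraliser of the product of the centre with a neighbour. -/
theorem cent_za {p : V4} (hp : IsPt4 p) {a g : G} (ha : a ∈ D.fib p) (hg : Commute g (z * a)) :
    g ∈ closure (Om z) := by
  by_contra hgY
  set m' := g * z * g⁻¹ with hm'
  have hmem : Mem z m' := ⟨g, rfl⟩
  have hout : m' ∉ Om z := fun h => hgY (D.Y_of_move hn (z_Om z) h)
  have hwz : Commute (z * a) z := (Commute.refl z).mul_left ha.2.1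
  have hwm : Commute (z * a) m' := by
    have := hwz.map (MulAut.conj g).toMonoidHom
    change Commute (g * (z * a) * g⁻¹) m' at this
    rwa [hg.eq, mul_inv_cancel_right] at this
  have key : ∀ l ∈ D.fib p, l ≠ a → Commute (z * l) m' := by
    intro l hl hla
    obtain ⟨m'', hm'', s, hcs, es, hcase⟩ := D.split hn (D.fib_Om hn hl) hmem
    have hwl : Commute (z * a) l := hl.2.1.symm.mul_left (D.fib_same hp ha hl)
    obtain ⟨hwm'', hws⟩ := hcs _ hwl hwm
    have hkw : Commute (g⁻¹ * s) (z * a) := hg.inv_left.mul_left hws.symm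
    have ek : g⁻¹ * s * m'' * (g⁻¹ * s)⁻¹ = z := by
      calc g⁻¹ * s * m'' * (g⁻¹ * s)⁻¹ = g⁻¹ * (s * m'' * s⁻¹) * g := by group
        _ = z := by rw [es, hm']; group
    have hx : Mem z (z * a * m'') := (Mem.conj_iff (g⁻¹ * s)).1 (by
      rw [show g⁻¹ * s * (z * a * m'') * (g⁻¹ * s)⁻¹ =
          g⁻¹ * s * (z * a) * (g⁻¹ * s)⁻¹ * (g⁻¹ * s * m'' * (g⁻¹ * s)⁻¹) by group, ek, hkw.eq,
        mul_inv_cancel_right, mul_assoc, ha.2.1.eq, ← mul_assoc, D.z_sq, one_mul]
      exact ha.1)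
    rcases D.za_mem hn hp ha hm'' hx hwm''.symm with e | e <;> subst e <;>
      rcases hcase with e' | ⟨-, hc⟩
    · exact absurd e'.symm (D.fib_ne_z hp hl)
    · rwa [hl.2.1.eq] at hc
    · exact absurd e'.symm hla
    · have := hwm.mul_left hc
      rwa [mul_assoc, (D.fib_same hp hl ha).eq, ← mul_assoc m'' m'' l, D.mem_sq ha.1, one_mul] at this
  obtain ⟨l1, hl1, h1⟩ := Set.exists_ne_of_one_lt_ncard (by rw [D.fib_card hp ha]; norm_num) a
  obtain ⟨l2, hl2, h2⟩ := Set.exists_mem_notMem_of_ncard_lt_ncard (s := ({a, l1} : Set G))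
    (by rw [D.fib_card hp ha, Set.ncard_pair h1.symm]; norm_num)
  simp only [Set.mem_insert_iff, Set.mem_singleton_iff, not_or] at h2
  set l3 := z * a * l1 * l2 with hl3
  have hl3m : l3 ∈ D.fib p := D.fourth hn hp ha hl1 hl2 h1.symm (Ne.symm h2.1) (Ne.symm h2.2)
  have h3 : l3 ≠ a := by
    intro e
    obtain ⟨-, -, -, f4⟩ := D.pt_facts hp hl1
    refine h2.2 (f4 l2 hl2 ?_)
    have e' : l1 * l2 = z := by
      rw [hl3, show z * a * l1 * l2 = z * (a * (l1 * l2)) by group] at e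
      calc l1 * l2 = (a * z) * (z * (a * (l1 * l2))) := by
            rw [← mul_assoc, mul_assoc a z z, D.z_sq, mul_one, ← mul_assoc, D.mem_sq ha.1, one_mul]
        _ = a * z * a := by rw [e]
        _ = z := by rw [ha.2.1.eq, mul_assoc, D.mem_sq ha.1, mul_one]
    rw [e', D.pr_z]
  have hprod := ((key l1 hl1 h1).mul_left (key l2 hl2 h2.1)).mul_left (key l3 hl3m h3)
  have eprod : z * l1 * (z * l2) * (z * l3) = a := by
    have hc : Commute (l1 * l2) a := (D.fib_same hp hl1 ha).mul_left (D.fib_same hp hl2 ha)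
    have hJ := (D.pt_facts hp hl1).2.1 l2 hl2
    calc z * l1 * (z * l2) * (z * l3) = z * (l1 * z) * l2 * (z * l3) := by group
      _ = (z * z) * (l1 * l2) * ((z * z) * (a * (l1 * l2))) := by rw [hl1.2.1.eq, hl3]; group
      _ = (l1 * l2) * (l1 * l2) * a := by rw [D.z_sq, one_mul, one_mul, ← hc.eq, ← mul_assoc]
      _ = a := by
        rw [(D.fib_same hp hl1 hl2).eq]
        calc l2 * l1 * (l2 * l1) * a = l2 * (l1 * l2) * l1 * a := by group
          _ = (l2 * l2) * (l1 * l1) * a := by rw [(D.fib_same hp hl1 hl2).eq]; group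
          _ = a := by rw [D.mem_sq hl1.1, D.mem_sq hl2.1, one_mul, one_mul]
  rw [eprod] at hprod
  exact hout (D.mem_Y_Om hn hmem (D.cent_mem_le_Y hn (D.fib_Om hn ha) hprod.symm))

/-- The centraliser of a product of two commuting members of the component. -/
theorem cent_prod {a b g : G} (ha : a ∈ Om z) (hb : b ∈ Om z) (hab : Commute a b) (hne : a ≠ b)
    (hg : Commute g (a * b)) : g ∈ closure (Om z) := by
  obtain ⟨y, hy, e⟩ := D.Om_class hn a ha z (z_Om z)
  have hb' : Commute (y * b * y⁻¹) z := by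
    have := (ThreeT.commute_conj_iff y b a).2 hab.symm
    rwa [e] at this
  have hbz : y * b * y⁻¹ ≠ z := fun e' => hne (mul_left_cancel (mul_right_cancel (e.trans e'.symm)))
  obtain ⟨p, hp, fb⟩ := D.mem_fib (hb.1.conj y) hb' hbz
  have hg' : Commute (y * g * y⁻¹) (z * (y * b * y⁻¹)) := by
    have := (ThreeT.commute_conj_iff y g (a * b)).2 hg
    rwa [show y * (a * b) * y⁻¹ = y * a * y⁻¹ * (y * b * y⁻¹) by group, e] at this
  have := mul_mem (mul_mem (inv_mem hy) (D.cent_za hn hp fb hg')) hy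
  rwa [show y⁻¹ * (y * g * y⁻¹) * y = g by group] at this

theorem safe_prod {a b : G} (ha : a ∈ Om z) (hb : b ∈ Om z) (hab : Commute a b) (hne : a ≠ b) :
    Safe z (a * b) :=
  fun _ hm h => D.mem_Y_Om hn hm (D.cent_prod hn ha hb hab hne h.symm)

theorem safe_mem {a : G} (ha : a ∈ Om z) : Safe z a :=
  fun _ hm h => D.mem_Y_Om hn hm (D.cent_mem_le_Y hn ha h.symm)

theorem safe_conj {v y : G} (hy : y ∈ closure (Om z)) (h : Safe z v) : Safe z (y * v * y⁻¹) := by
  intro m hm hc
  have h2 := h (y⁻¹ * m * y⁻¹⁻¹) (hm.conj _) (by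
    have := (ThreeT.commute_conj_iff y⁻¹ _ _).2 hc
    rwa [show y⁻¹ * (y * v * y⁻¹) * y⁻¹⁻¹ = v by group] at this)
  have := D.Y_stab hn hy h2
  rwa [show y * (y⁻¹ * m * y⁻¹⁻¹) * y⁻¹ = m by group] at this

/-- An outside member and a member of the component are conjugate among what commutes with both. -/
theorem cross {m m' : G} (hm : m ∈ Om z) (hm' : Mem z m') (hout : m' ∉ Om z) :
    ∃ s, (∀ c, Commute c m → Commute c m' → Commute c s) ∧ s * m * s⁻¹ = m' := by
  obtain ⟨m'', hm'', s, hcs, es, hcase⟩ := D.split hn hm hm'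
  by_cases e : m'' = m
  · subst e
    exact ⟨s, fun c h1 h2 => (hcs c h1 h2).2, es⟩
  · obtain ⟨hc, hc'⟩ := hcase.resolve_left e
    exact absurd (D.safe_prod hn hm hm'' hc (Ne.symm e) m' hm' hc') hout

theorem trans_pair {v m' m₁ m₂ : G} (h₁ : m₁ ∈ Om z) (h₂ : m₂ ∈ Om z) (hm' : Mem z m') (hout : m' ∉ Om z)
    (c₁ : Commute v m₁) (c₂ : Commute v m₂) (hc : Commute v m') :
    ∃ k, Commute v k ∧ k * m₁ * k⁻¹ = m₂ := by
  obtain ⟨s, hs, es⟩ := D.cross hn h₁ hm' hout
  obtain ⟨t, ht, et⟩ := D.cross hn h₂ hm' hout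
  refine ⟨t⁻¹ * s, (ht v c₂ hc).inv_right.mul_right (hs v c₁ hc), ?_⟩
  calc t⁻¹ * s * m₁ * (t⁻¹ * s)⁻¹ = t⁻¹ * (s * m₁ * s⁻¹) * t := by group
    _ = t⁻¹ * (t * m₂ * t⁻¹) * t := by rw [es, et]
    _ = m₂ := by group

/-- The triple with the centre. -/
theorem safe_triple {p q : V4} (hp : IsPt4 p) (hq : IsPt4 q) {h b : G} (fh : h ∈ D.fib p) (fb : b ∈ D.fib q)
    (hperp : h4 p q = 0) (hne : tvp p ≠ tvp q) : Safe z (z * h * b) := by
  intro m' hm' hvm
  by_contra hout
  have chb : Commute h b := D.fib_perp hp hq hperp fh fb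
  have hbh : b ≠ h := fun e => hne (by rw [← fh.2.2, ← fb.2.2, e])
  obtain ⟨Dh⟩ := D.view fh.1
  obtain ⟨r, hr, fbh⟩ := Dh.mem_fib (fh.1.symm.trans fb.1) chb.symm hbh
  obtain ⟨rz, hrz, fzh⟩ := Dh.mem_fib fh.1.symm fh.2.1.symm (D.fib_ne_z hp fh).symm
  obtain ⟨l, fl, hlb⟩ := Set.exists_ne_of_one_lt_ncard (by rw [Dh.fib_card hr fbh]; norm_num) b
  have cbl : Commute b l := Dh.fib_same hr fbh fl
  have clh : Commute l h := fl.2.1
  have czl : Commute z l :=
    Dh.fib_perp hrz hr ((Dh.fib_comm_iff hrz hr fzh fbh).1 fb.2.1.symm) fzh fl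
  have hlO : l ∈ Om z := D.Om_cent hn (fh.1.trans fl.1) czl.symm
  obtain ⟨k, hk, ek⟩ := D.trans_pair hn hlO (z_Om z) hm' hout
    ((czl.mul_left clh.symm).mul_left cbl)
    (((Commute.refl z).mul_left fh.2.1).mul_left fb.2.1) hvm
  set z' := k * z * k⁻¹ with hz'
  set h' := k * h * k⁻¹ with hh'
  set b' := k * b * k⁻¹ with hb'
  have conv : ∀ {x : G}, Commute x l → Commute (k * x * k⁻¹) z := fun {x} hx => by
    have := (ThreeT.commute_conj_iff k x l).2 hx
    rwa [ek] at this
  have hcz' : Commute z' z := conv czl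
  have hch' : Commute h' z := conv clh.symm
  have hcb' : Commute b' z := conv cbl
  have hhne : h' ≠ z := fun e => Dh.fib_ne_z hr fl (mul_left_cancel (mul_right_cancel (ek.trans e.symm)))
  have hbne : b' ≠ z := fun e => hlb (mul_left_cancel (mul_right_cancel (ek.trans e.symm)))
  obtain ⟨ph', hph', fh'⟩ := D.mem_fib (fh.1.conj k) hch' hhne
  obtain ⟨pb', hpb', fb'⟩ := D.mem_fib (fb.1.conj k) hcb' hbne
  have esame := D.imp_same hn hph' hpb' fh' fb' fun t ht htz hth => by
    have e1 : ∀ x : G, k * (k⁻¹ * x * k⁻¹⁻¹) * k⁻¹ = x := fun x => by group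
    have c1 : Commute (k⁻¹ * t * k⁻¹⁻¹) l := by
      rw [← ThreeT.commute_conj_iff k, e1, ek]; exact htz
    have c2 : Commute (k⁻¹ * t * k⁻¹⁻¹) h := by
      rw [← ThreeT.commute_conj_iff k, e1]; exact hth
    have c3 := Dh.same_comm hr fl fbh (fh.1.symm.trans (ht.conj k⁻¹)) c2 c1
    have := (ThreeT.commute_conj_iff k _ _).2 c3
    rwa [e1] at this
  have ev : z' * h' * b' = z * h * b := by
    calc z' * h' * b' = k * (z * h * b) * k⁻¹ := by rw [hz', hh', hb']; group
      _ = z * h * b := by rw [← hk.eq, mul_inv_cancel_right]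
  have hph : tvp p * tvp q = D.ph z' := by
    have h1 := congrArg D.ph ev
    rw [D.ph_mul _ _ (hcz'.mul_left hch') hcb', D.ph_mul _ _ hcz' hch',
      D.ph_mul _ _ ((Commute.refl z).mul_left fh.2.1) fb.2.1, D.ph_mul _ _ (Commute.refl z) fh.2.1,
      fh'.2.2, fb'.2.2, esame, mul_assoc, tvp_sq hpb', mul_one, D.ph_z, one_mul, fh.2.2, fb.2.2] at h1
    exact h1.symm
  rcases D.cases_mem ((mem_self z).conj k) hcz' with e | ⟨s, hs, fs⟩
  · rw [show D.ph z' = 1 by rw [hz', e, D.ph_z]] at hph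
    exact (mul_tvp_ne hp hq hne).1 hph
  · rw [fs.2.2] at hph
    exact (mul_tvp_ne hp hq hne).2 s hs hperp hph

theorem Om_eq {c : G} (hc : c ∈ Om z) : Om c = Om z := by
  ext x
  constructor
  · rintro ⟨hx, v, hv, h1, h2⟩
    exact D.Om_step hn (D.Om_step hn hc (hc.1.trans hv) h1.symm) (hc.1.trans hx) h2
  · intro hx
    obtain ⟨v, hv, h1, h2⟩ := D.Om_near hn hc hx
    exact ⟨hc.1.symm.trans hx.1, v, hc.1.symm.trans hv, h1, h2⟩

/-- An involution of the radical is a product of two members over its vector. -/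
theorem J_pair {j : G} (hj : j ∈ D.J) (h2 : j * j = 1) (h0 : D.pr j ≠ 0) :
    IsPt4 (D.pr j) ∧ ∃ x ∈ D.fib (D.pr j), ∃ y ∈ D.fib (D.pr j), x ≠ y ∧ j = x * y := by
  have hq : IsPt4 (D.pr j) := parity4_pt _ ((qn4_parity _).symm.trans ((D.invol_iff hj).1 h2)) h0
  refine ⟨hq, ?_⟩
  obtain ⟨u, hu⟩ := D.fib_ex hn hq
  obtain ⟨-, f2, f3, -⟩ := D.pt_facts hq hu
  obtain ⟨v, hv, ev⟩ := f3 1
  rw [one_smul] at ev
  have huv : u ≠ v := fun e => h0 (by rw [← ev, ← e, D.mem_sq hu.1, D.pr_one])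
  rcases D.eq_of_pr (f2 v hv).1 hj ev with e | e
  · exact ⟨u, hu, v, hv, huv, e⟩
  obtain ⟨w, hw, hw'⟩ := Set.exists_mem_notMem_of_ncard_lt_ncard (s := ({u, v} : Set G))
    (by rw [D.fib_card hq hu, Set.ncard_pair huv]; norm_num)
  simp only [Set.mem_insert_iff, Set.mem_singleton_iff, not_or] at hw'
  have e' : j = z * u * v := by
    rw [e, mul_assoc z u v]
    exact (hu.2.1.mul_left hv.2.1).eq
  have ej : j = z * u * v * w * w := by rw [mul_assoc _ w w, D.mem_sq hw.1, mul_one, e']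
  refine ⟨_, D.fourth hn hq hu hv hw huv (Ne.symm hw'.1) (Ne.symm hw'.2), w, hw, fun e2 => h0 ?_, ej⟩
  rw [e2, D.mem_sq hw.1] at ej
  rw [ej, D.pr_one]

/-- Every involution centralising the centre is safe. -/
theorem safe_cent {v : G} (hv : Commute v z) (h2 : v * v = 1) (h1 : v ≠ 1) : Safe z v := by
  have hph2 : D.ph v * D.ph v = 1 := by rw [← D.ph_mul _ _ hv hv, h2, D.ph_one]
  by_cases hJ : v ∈ D.J
  · by_cases h0 : D.pr v = 0
    · rw [((D.pr_zero v hJ).1 h0).resolve_left h1]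
      exact D.safe_mem hn (z_Om z)
    obtain ⟨hq, x, hx, y, hy, hxy, e⟩ := D.J_pair hn hJ h2 h0
    rw [e]
    exact D.safe_prod hn (D.fib_Om hn hx) (D.fib_Om hn hy) (D.fib_same hq hx hy) hxy
  rcases invol_cases hph2 (fun e => hJ ((D.ph_J v hv).1 e)) with ⟨p, hp, e⟩ | ⟨u, hu⟩
  · obtain ⟨a, ha⟩ := D.fib_ex hn hp
    set j := a * v with hjdef
    have hj : j ∈ D.J := (D.ph_J _ (ha.2.1.mul_left hv)).1
      (by rw [D.ph_mul _ _ ha.2.1 hv, ha.2.2, e, tvp_sq hp])
    have eaj : v = a * j := by rw [hjdef, ← mul_assoc, D.mem_sq ha.1, one_mul]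
    have einv : a * j * a⁻¹ = j⁻¹ := by
      refine eq_inv_of_mul_eq_one_left ?_
      rw [D.mem_inv ha.1, ← eaj]
      calc v * a * j = v * (a * a) * v := by rw [hjdef]; group
        _ = 1 := by rw [D.mem_sq ha.1, mul_one, h2]
    have hperp : h4 (D.pr j) p = 0 := by
      have e2 := D.pr_act a ha.2.1 j hj
      rw [einv, D.pr_inv hj, ha.2.2, R4_r, tvp_apply hp, left_eq_add, smul_eq_zero] at e2
      exact e2.resolve_right hp.1
    have caj : Commute j a := (D.pt_facts hp ha).1 j hj hperp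
    have hj2 : j * j = 1 := by
      have : v * v = j * j := by
        rw [eaj]
        calc a * j * (a * j) = a * (j * a) * j := by group
          _ = (a * a) * (j * j) := by rw [caj.eq]; group
          _ = j * j := by rw [D.mem_sq ha.1, one_mul]
      rw [← this, h2]
    by_cases h0 : D.pr j = 0
    · rcases (D.pr_zero j hj).1 h0 with e' | e'
      · rw [eaj, e', mul_one]; exact D.safe_mem hn (D.fib_Om hn ha)
      · rw [eaj, e']; exact D.safe_prod hn (D.fib_Om hn ha) (z_Om z) ha.2.1 (D.fib_ne_z hp ha)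
    obtain ⟨hq, x, hx, y, hy, hxy, exy⟩ := D.J_pair hn hj hj2 h0
    have cax : Commute a x := D.fib_perp hp hq (h4_zero_iff.1 hperp) ha hx
    have cay : Commute a y := D.fib_perp hp hq (h4_zero_iff.1 hperp) ha hy
    by_cases same : tvp p = tvp (D.pr j)
    · have hx' : x ∈ D.fib p := show x ∈ D.cls (tvp p) by rw [same]; exact hx
      have hy' : y ∈ D.fib p := show y ∈ D.cls (tvp p) by rw [same]; exact hy
      by_cases hax : a = x
      · rw [eaj, exy, hax, ← mul_assoc, D.mem_sq hx.1, one_mul]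
        exact D.safe_mem hn (D.fib_Om hn hy)
      by_cases hay : a = y
      · rw [eaj, exy, hay, (D.fib_same hq hx hy).eq, ← mul_assoc, D.mem_sq hy.1, one_mul]
        exact D.safe_mem hn (D.fib_Om hn hx)
      have h4m := D.fourth hn hp ha hx' hy' hax hay hxy
      rw [show v = z * (z * a * x * y) by
        rw [eaj, exy, show z * (z * a * x * y) = z * z * (a * (x * y)) by group, D.z_sq, one_mul]]
      exact D.safe_prod hn (z_Om z) (D.fib_Om hn h4m) h4m.2.1.symm (D.fib_ne_z hp h4m).symm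
    · have haO := D.fib_Om hn ha
      obtain ⟨Da⟩ := D.view ha.1
      have hxa : x ≠ a := fun e' => same (by rw [← ha.2.2, ← hx.2.2, e'])
      have hya : y ≠ a := fun e' => same (by rw [← ha.2.2, ← hy.2.2, e'])
      obtain ⟨r, hr, fx⟩ := Da.mem_fib (ha.1.symm.trans hx.1) cax.symm hxa
      obtain ⟨r', hr', fy⟩ := Da.mem_fib (ha.1.symm.trans hy.1) cay.symm hya
      have hne' : tvp r ≠ tvp r' := fun e' => by
        have fy' : y ∈ Da.fib r := show y ∈ Da.cls (tvp r) by rw [e']; exact fy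
        refine same (D.imp_same hn hq hp hx ha fun t ht htz htx => ?_).symm
        exact Da.same_line (hn.trans ha.1) hr fx fy' hxy t (ha.1.symm.trans ht) htx
          (D.same_comm hq hx hy ht htz htx)
      intro m hm hc
      have := Da.safe_triple (hn.trans ha.1) hr hr' fx fy
        ((Da.fib_comm_iff hr hr' fx fy).1 (D.fib_same hq hx hy)) hne' m (ha.1.symm.trans hm)
        (by rw [mul_assoc, ← exy, ← eaj]; exact hc)
      rwa [D.Om_eq hn haO] at this
  · obtain ⟨g, hg, rfl⟩ := D.ph_surj u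
    have hgY := D.cent_le_Y hn hg
    suffices H : Safe z (g * v * g⁻¹) by
      have := D.safe_conj hn (inv_mem hgY) H
      rwa [show g⁻¹ * (g * v * g⁻¹) * g⁻¹⁻¹ = v by group] at this
    set v' := g * v * g⁻¹ with hv'def
    have hcv : Commute v' z := (hg.mul_left hv).mul_left hg.inv_left
    have hv2 : v' * v' = 1 := by
      rw [hv'def, show g * v * g⁻¹ * (g * v * g⁻¹) = g * (v * v) * g⁻¹ by group, h2]; group
    have hphv : D.ph v' = s0 := by rw [hv'def, D.ph_conj hg hv, hu]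
    obtain ⟨a, ha⟩ := D.fib_ex hn p0_pt
    obtain ⟨b, hb⟩ := D.fib_ex hn p1_pt.1
    have hne : tvp p0 ≠ tvp p1 := fun e => by
      obtain ⟨c, -, hc⟩ := tvp_eq_smul p0_pt p1_pt.1 e
      exact p1_not_smul c hc
    have cab : Commute a b := D.fib_perp p0_pt p1_pt.1 p1_pt.2 ha hb
    set w := a * b with hw
    have hcw : Commute w z := ha.2.1.mul_left hb.2.1
    have hw2 : w * w = 1 := by
      rw [hw, show a * b * (a * b) = a * (b * a) * b by group, ← cab.eq,
        show a * (a * b) * b = a * a * (b * b) by group, D.mem_sq ha.1, D.mem_sq hb.1, one_mul]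
    have hphw : D.ph w = s0 := by rw [hw, D.ph_mul _ _ ha.2.1 hb.2.1, ha.2.2, hb.2.2, ← s0_prod]
    set j := v' * w with hjdef
    have hj : j ∈ D.J := (D.ph_J _ (hcv.mul_left hcw)).1
      (by rw [D.ph_mul _ _ hcv hcw, hphv, hphw, s0_sq])
    have einv : w * j * w⁻¹ = j⁻¹ := by
      rw [hjdef, mul_assoc, mul_assoc v', mul_inv_cancel, mul_one, _root_.mul_inv_rev, inv_eq_of_mul_eq_one_right hv2,
        inv_eq_of_mul_eq_one_right hw2]
    have hfix : LS (D.pr j) := by
      refine (s0_fix _).1 ?_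
      have e2 := D.pr_act w hcw j hj
      rw [einv, D.pr_inv hj, hphw, R4_r] at e2
      exact e2.symm
    obtain ⟨k, hk, ek⟩ := D.pr_surj ![D.pr j 0, 0, D.pr j 2, 0]
    have hck := D.J_comm k hk
    have hmem2 : w * k⁻¹ * w⁻¹ ∈ D.J := D.conj_mem hcw (inv_mem hk)
    have hm : k * (w * k⁻¹ * w⁻¹) ∈ D.J := mul_mem hk hmem2
    have epr : D.pr j = D.pr (k * (w * k⁻¹ * w⁻¹)) := by
      rw [D.pr_mul _ hk _ hmem2, D.pr_act w hcw _ (inv_mem hk), D.pr_inv hk, ek, hphw, R4_r, add_comm,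
        s0_image]
      exact (LS_shape _ hfix).symm
    have hkY : k ∈ closure (Om z) := D.cent_le_Y hn hck
    have hwinv := inv_eq_of_mul_eq_one_right hw2
    have evj : v' = j * w := by rw [hjdef, mul_assoc, hw2, mul_one]
    rcases D.eq_of_pr hm hj epr.symm with e | e
    · rw [evj, e, show k * (w * k⁻¹ * w⁻¹) * w = k * w * k⁻¹ by group]
      exact D.safe_conj hn hkY (D.safe_prod hn (D.fib_Om hn ha) (D.fib_Om hn hb) cab
        (fun q => hne (by rw [← ha.2.2, ← hb.2.2, q])))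
    · have ev2 : v' = k * (z * w) * k⁻¹ := by
        rw [evj, e]
        calc k * (w * k⁻¹ * w⁻¹) * z * w = k * (w * k⁻¹ * w⁻¹) * (z * w) := by group
          _ = k * (w * k⁻¹ * w⁻¹) * (w * z) := by rw [hcw.eq]
          _ = k * w * (k⁻¹ * z) := by group
          _ = k * w * (z * k⁻¹) := by rw [hck.inv_left.eq]
          _ = k * (w * z) * k⁻¹ := by group
          _ = _ := by rw [hcw.eq]
      rw [ev2, hw, ← mul_assoc z a b]
      exact D.safe_conj hn hkY (D.safe_triple hn p0_pt p1_pt.1 ha hb p1_pt.2 hne)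

/-- The component is the whole class. -/
theorem all_Om {m' : G} (hm' : Mem z m') : m' ∈ Om z := by
  by_contra hout
  obtain ⟨a, ha⟩ := D.fib_ex hn p0_pt
  set w := z * a with hw
  have hw2 : w * w = 1 := by
    rw [hw, show z * a * (z * a) = z * (a * z) * a by group, ha.2.1.eq,
      show z * (z * a) * a = z * z * (a * a) by group, D.z_sq, D.mem_sq ha.1, one_mul]
  have hwne : w ≠ 1 := fun e => D.fib_ne_z p0_pt ha (by
    rw [hw, mul_eq_one_iff_eq_inv, D.mem_inv ha.1] at e; exact e.symm)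
  have how : orderOf w = 2 := orderOf_eq_prime (by rw [pow_two]; exact hw2) hwne
  have hom' := D.orderOf_mem hn hm'
  have hwz : Commute w z := (Commute.refl z).mul_left ha.2.1
  by_cases hodd : Odd (orderOf (w * m'))
  · obtain ⟨i, hi⟩ := hodd
    set r := w * m' with hr
    have hwinv := inv_eq_of_mul_eq_one_right hw2
    have hm2 := D.mem_sq hm'
    have hinv : w * r * w⁻¹ = r⁻¹ := by
      rw [hr, hwinv, _root_.mul_inv_rev, hwinv, D.mem_inv hm',
        show w * (w * m') * w = w * w * (m' * w) by group, hw2, one_mul]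
    have hp := conj_pow (a := w) (b := r) (i := i + 1)
    rw [hinv, inv_pow, eq_comm, mul_inv_eq_iff_eq_mul] at hp
    have e : r ^ (i + 1) * m' * (r ^ (i + 1))⁻¹ = w := by
      have h1 : r ^ (i + 1) * r ^ (i + 1) = r := by
        rw [← pow_add, show i + 1 + (i + 1) = (2 * i + 1) + 1 by ring, pow_succ, ← hi, pow_orderOf_eq_one,
          one_mul]
      have h2 : m' = w * r := by rw [hr, ← mul_assoc, hw2, one_mul]
      rw [mul_inv_eq_iff_eq_mul, hp]
      calc r ^ (i + 1) * m' = r ^ (i + 1) * (w * r) := by rw [h2]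
        _ = r ^ (i + 1) * (w * (r ^ (i + 1) * r ^ (i + 1))) := by rw [h1]
        _ = r ^ (i + 1) * (w * r ^ (i + 1)) * r ^ (i + 1) := by group
        _ = r ^ (i + 1) * ((r ^ (i + 1))⁻¹ * w) * r ^ (i + 1) := by rw [hp]
        _ = w * r ^ (i + 1) := by group
        _ = _ := hp
    have hmw : Mem z w := e ▸ hm'.conj _
    rcases D.cases_mem hmw hwz with e | ⟨r', hr', fw⟩
    · rw [hw, mul_eq_left] at e
      have := D.orderOf_mem hn ha.1
      rw [e, orderOf_one] at this
      exact absurd this (by norm_num)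
    have et : tvp p0 = tvp r' := by
      rw [← fw.2.2, hw, D.ph_mul _ _ (Commute.refl z) ha.2.1, D.ph_z, one_mul, ha.2.2]
    have fw' : w ∈ D.fib p0 := show w ∈ D.cls (tvp p0) by rw [et]; exact fw
    have e3 := (D.pt_facts p0_pt ha).2.2.2 w fw' (by
      rw [hw, ← mul_assoc, ha.2.1.eq, mul_assoc, D.mem_sq ha.1, mul_one, D.pr_z])
    rw [hw, mul_eq_right] at e3
    exact D.z_ne e3
  · rw [Nat.not_odd_iff_even] at hodd
    obtain ⟨i, hi⟩ := hodd
    set r := w * m' with hr
    have hpos := orderOf_pos r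
    set v := r ^ i with hv
    have hv2 : v * v = 1 := by rw [hv, ← pow_add, ← hi, pow_orderOf_eq_one]
    have hv1 : v ≠ 1 := fun e => by
      have := Nat.le_of_dvd (by omega) (orderOf_dvd_of_pow_eq_one e)
      omega
    have hwinv := inv_eq_of_mul_eq_one_right hw2
    have hinv : w * r * w⁻¹ = r⁻¹ := by
      rw [hr, hwinv, _root_.mul_inv_rev, hwinv, D.mem_inv hm',
        show w * (w * m') * w = w * w * (m' * w) by group, hw2, one_mul]
    have hcw : Commute w v := mul_inv_eq_iff_eq_mul.1 (by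
      rw [hv, ← conj_pow, hinv, inv_pow, ← hv, inv_eq_of_mul_eq_one_right hv2])
    have hcm : Commute v m' := by
      have := hcw.symm.mul_right ((Commute.refl r).pow_left i)
      rwa [hr, ← mul_assoc, hw2, one_mul] at this
    have hvY : v ∈ closure (Om z) := D.cent_za hn p0_pt ha hcw.symm
    obtain ⟨m, hm, hcvm⟩ := D.exists_fixed_point hn hv2 fun x hx => D.Y_stab hn hvY hx
    obtain ⟨y, hy, e⟩ := D.Om_class hn m hm z (z_Om z)
    have hs : Safe z (y * v * y⁻¹) := D.safe_cent hn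
      (by have := (ThreeT.commute_conj_iff y v m).2 hcvm; rwa [e] at this)
      (by rw [show y * v * y⁻¹ * (y * v * y⁻¹) = y * (v * v) * y⁻¹ by group, hv2]; group)
      (fun e' => hv1 (conj_eq_one_iff.1 e'))
    have hs' := D.safe_conj hn (inv_mem hy) hs
    rw [show y⁻¹ * (y * v * y⁻¹) * y⁻¹⁻¹ = v by group] at hs'
    exact hout (hs' m' hm' hcm)

theorem Y_top : closure (Om z) = ⊤ :=
  eq_top_iff.2 fun g _ => D.Y_of_move hn (z_Om z) (D.all_Om hn ⟨g, rfl⟩)

/-- With a neighbour of the centre the group is the six-dimensional unitary group. -/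
theorem iso_of_nb : ∃ (K : Type) (_ : Field K) (_ : Fintype K), Fintype.card K = 4 ∧
    Nonempty (G ≃* Cfsg.PSU 6 K 2) := by
  obtain ⟨K, i1, i2, hK, ⟨e⟩⟩ := D.exists_model hn
  exact ⟨K, i1, i2, hK, ⟨(Subgroup.topEquiv.symm.trans (MulEquiv.subgroupCongr (D.Y_top hn).symm)).trans e⟩⟩

end Cd

end CfsgLib.U62Cent
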