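import Cfsg.Agent.U62Cent.TriFour

/-!
The reducible case: the centre commutes with none of its other conjugates.
-/

set_option autoImplicit false
set_option maxRecDepth 100000
set_option maxHeartbeats 1000000
set_option linter.style.haveILetI false
set_option linter.unusedSectionVars false

namespace CfsgLib.U62Cent

open CfsgLib Subgroup

universe v

variable {V : Type v} [AddCommGroup V] [Module (ZMod 2) V]

theorem zmod2_cases : ∀ a : ZMod 2, a = 0 ∨ a = 1 := by decide

namespace Rep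

variable {R : Rep V} (hT : R.IsTri)

include hT

/-- Two distinct vectors of the fixed space are not orthogonal. -/
theorem X0_pair {x y : V} (hx : x ∈ R.X0) (hy : y ∈ R.X0) (hx0 : x ≠ 0) (hy0 : y ≠ 0) (hxy : x ≠ y) :
    R.B x y ≠ 0 := by
  classical
  haveI := R.finite
  intro h
  have hsum : x + y ≠ 0 := fun e => hxy (eq_of_sum_zero e)
  have hsx : x + y ≠ x := fun e => hy0 (add_eq_left.1 e)
  have hsy : x + y ≠ y := fun e => hx0 (add_eq_right.1 e)
  have hall : ({0, x, y, x + y} : Set V) = (R.X0 : Set V) := by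
    refine Set.eq_of_subset_of_ncard_le ?_ (le_of_eq ?_) (Set.toFinite _)
    · rintro w (rfl | rfl | rfl | rfl)
      exacts [R.X0.zero_mem, hx, hy, R.X0.add_mem hx hy]
    · rw [Set.ncard_insert_of_notMem (by simp [hx0.symm, hy0.symm, hsum.symm]),
        Set.ncard_insert_of_notMem (by simp [hxy, hsx.symm]), Set.ncard_pair hsy.symm, ← Nat.card_coe_set_eq]
      exact hT.2.1
  refine hx0 (R.nondeg x fun v => ?_)
  show R.B x v = 0
  have hP : R.B x (v + R.e0 v) = 0 := (perp_iff hT _).2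
    (by rw [map_add, R.e0_X0 (R.e0_mem v), two_self]) x hx
  rw [R.B_add_right] at hP
  have he : R.B x (R.e0 v) = 0 := by
    have hm : R.e0 v ∈ ({0, x, y, x + y} : Set V) := by rw [hall]; exact R.e0_mem v
    rcases hm with e | e | e | e <;> rw [e]
    exacts [R.B_zero x, R.B_smul_self x, h, by rw [R.B_add_right, R.B_smul_self, h, add_zero]]
  rwa [he, add_zero] at hP

/-- The fixed space has an anisotropic vector and a second one. -/
theorem X0_vectors : ∃ x ∈ R.X0, x ≠ 0 ∧ R.q x = 1 ∧ ∃ y ∈ R.X0, y ≠ 0 ∧ y ≠ x := by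
  classical
  haveI := R.finite
  have h4 : (R.X0 : Set V).ncard = 4 := by rw [← Nat.card_coe_set_eq]; exact hT.2.1
  obtain ⟨x, hx, hx0⟩ := Set.exists_ne_of_one_lt_ncard (s := (R.X0 : Set V)) (by omega) 0
  obtain ⟨y, hy, hy'⟩ := Set.exists_mem_notMem_of_ncard_lt_ncard (s := ({0, x} : Set V)) (t := (R.X0 : Set V))
    (by rw [h4, Set.ncard_pair hx0.symm]; norm_num)
  simp only [Set.mem_insert_iff, Set.mem_singleton_iff, not_or] at hy'
  by_cases qx : R.q x = 1
  · exact ⟨x, hx, hx0, qx, y, hy, hy'.1, hy'.2⟩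
  by_cases qy : R.q y = 1
  · exact ⟨y, hy, hy'.1, qy, x, hx, hx0, Ne.symm hy'.2⟩
  have hs : x + y ≠ 0 := fun e => hy'.2 (eq_of_sum_zero e).symm
  refine ⟨x + y, R.X0.add_mem hx hy, hs, ?_, x, hx, hx0, fun e => hy'.1 (add_eq_left.1 e.symm)⟩
  rw [R.q_add, (zmod2_cases _).resolve_right qx, (zmod2_cases _).resolve_right qy,
    (zmod2_cases _).resolve_left (X0_pair hT hx hy hx0 hy'.1 (Ne.symm hy'.2))]
  rfl

/-- An involution is determined by its commutator space. -/
theorem image_uniq {f g : U4} (hf : f * f = 1) (hg : g * g = 1) (hg1 : g ≠ 1)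
    (h : ∀ w, ∃ w', R.r g w' + w' = R.r f w + w) : f = 1 ∨ f = g := by
  classical
  haveI := R.finite
  by_contra hcon
  push Not at hcon
  obtain ⟨hf1, hfg⟩ := hcon
  let W : U4 → Set V := fun a => Set.range fun w => R.r a w + w
  have hcard : ∀ a : U4, a * a = 1 → a ≠ 1 → (W a).ncard = 4 := fun a ha ha1 => by
    rw [show W a = (LinearMap.range ((R.r a).toLinearMap + LinearMap.id) : Set V) from Set.ext fun x => Iff.rfl,
      ← Nat.card_coe_set_eq]
    exact tri_invol hT a ha ha1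
  have hsame : ∀ a : U4, a * a = 1 → a ≠ 1 → W a ⊆ W g → W a = W g := fun a ha ha1 hsub =>
    Set.eq_of_subset_of_ncard_le hsub (by rw [hcard a ha ha1, hcard g hg hg1]) (Set.toFinite _)
  have hfW : W f = W g := hsame f hf hf1 (by rintro _ ⟨w, rfl⟩; exact h w)
  have fixW : ∀ x ∈ W g, R.r f x = x := by
    intro x hx
    rw [← hfW] at hx
    obtain ⟨w, rfl⟩ := hx
    show R.r f (R.r f w + w) = R.r f w + w
    rw [map_add, R.r_invol hf, add_comm]
  have gixW : ∀ x ∈ W g, R.r g x = x := by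
    rintro _ ⟨w, rfl⟩
    show R.r g (R.r g w + w) = R.r g w + w
    rw [map_add, R.r_invol hg, add_comm]
  set c := g * f with hc
  have eC : ∀ w, R.r c w + w = (R.r g w + w) + (R.r f w + w) := fun w => by
    have e1 : R.r g (R.r f w + w) = R.r f w + w := gixW _ (by rw [← hfW]; exact ⟨w, rfl⟩)
    rw [map_add] at e1
    rw [hc, R.r_mul, eq_sub_of_add_eq e1]
    have e2 := two_self w
    have e3 : ∀ a : V, -a = a := fun a => neg_eq_of_add_eq_zero_left (two_self a)
    rw [sub_eq_add_neg, e3]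
    calc R.r f w + w + R.r g w + w = R.r g w + w + (R.r f w + w) := by abel
      _ = _ := rfl
  have addW : ∀ a ∈ W g, ∀ b ∈ W g, a + b ∈ W g := by
    rintro _ ⟨a, rfl⟩ _ ⟨b, rfl⟩
    exact ⟨a + b, by show R.r g (a + b) + (a + b) = _; rw [map_add]; exact add_add_add_comm _ _ _ _⟩
  have hCW : W c ⊆ W g := by
    rintro _ ⟨w, rfl⟩
    show R.r c w + w ∈ W g
    rw [eC]
    exact addW _ ⟨w, rfl⟩ _ (by rw [← hfW]; exact ⟨w, rfl⟩)
  have cfix : ∀ x ∈ W g, R.r c x = x := fun x hx => by rw [hc, R.r_mul, fixW x hx, gixW x hx]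
  have hc2 : c * c = 1 := R.inj (LinearEquiv.ext fun w => by
    rw [R.r_mul, R.r_one]
    have e : R.r c (R.r c w + w) = R.r c w + w := cfix _ (hCW ⟨w, rfl⟩)
    rw [map_add, add_comm (R.r c w) w] at e
    exact add_right_cancel e)
  have hc1 : c ≠ 1 := fun e => hfg (by
    have := congrArg (g * ·) e
    simp only [hc, mul_one] at this
    rwa [← mul_assoc, hg, one_mul] at this)
  have kerF : ∀ a : U4, a * a = 1 → W a = W g → ∀ w, R.r a w = w → R.r g w = w := by
    intro a ha hWa w hw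
    refine R.fix_of_perp hg fun w' => ?_
    obtain ⟨w'', e⟩ : R.r g w' + w' ∈ W a := by rw [hWa]; exact ⟨w', rfl⟩
    rw [← show R.r a w'' + w'' = R.r g w' + w' from e]
    exact R.perp_of_fix ha hw w''
  have value : ∀ w, R.r g w ≠ w → ∀ x ∈ W g, R.B x w = R.q x := by
    intro w hw x hx
    have key : ∀ a : U4, R.B (R.r a w + w) w = R.q (R.r a w + w) := fun a => by
      rw [R.q_add, R.inv, R.B_add_left, R.B_smul_self, add_zero, two_self, zero_add]
    set a := R.r g w + w with hadef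
    set b := R.r f w + w with hbdef
    have ha : a ≠ 0 := fun e => hw (eq_of_sum_zero e)
    have hb : b ≠ 0 := fun e => hw (kerF f hf hfW w (eq_of_sum_zero e))
    have hab : a + b ≠ 0 := fun e => hw (kerF c hc2 (hsame c hc2 hc1 hCW) w (eq_of_sum_zero ((eC w).trans e)))
    have hne : a ≠ b := fun e => hab (by rw [e, two_self])
    have hbW : b ∈ W g := by rw [← hfW]; exact ⟨w, rfl⟩
    have hsa : a + b ≠ a := fun e => hb (add_eq_left.1 e)
    have hsb : a + b ≠ b := fun e => ha (add_eq_right.1 e)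
    have hall : ({0, a, b, a + b} : Set V) = W g := by
      refine Set.eq_of_subset_of_ncard_le ?_ (le_of_eq ?_) (Set.toFinite _)
      · rintro t (rfl | rfl | rfl | rfl)
        exacts [⟨0, by simp⟩, ⟨w, rfl⟩, hbW, addW _ ⟨w, rfl⟩ _ hbW]
      · rw [Set.ncard_insert_of_notMem (by simp [ha.symm, hb.symm, hab.symm]),
          Set.ncard_insert_of_notMem (by simp [hne, hsa.symm]), Set.ncard_pair hsb.symm, hcard g hg hg1]
    have horth : R.B a b = 0 := by
      obtain ⟨w', e⟩ := hbW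
      rw [hadef, ← e]
      exact R.image_iso hg _ _
    rw [← hall] at hx
    rcases hx with e | e | e | e <;> rw [e]
    · rw [R.B_zero_left, map_zero]
    · exact key g
    · exact key f
    · rw [R.B_add_left, R.q_add, horth, add_zero, hadef, hbdef, key, key]
  obtain ⟨w1, hw1⟩ := R.exists_moved hg1
  obtain ⟨_, ⟨w2, rfl⟩, h2⟩ := Set.exists_mem_notMem_of_ncard_lt_ncard (t := W g)
    (s := ({0, R.r g w1 + w1} : Set V)) (by
      rw [hcard g hg hg1]
      exact lt_of_le_of_lt ((Set.ncard_insert_le _ _).trans (Nat.succ_le_succ (Set.ncard_singleton _).le))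
        (by norm_num))
  simp only [Set.mem_insert_iff, Set.mem_singleton_iff, not_or] at h2
  have hw2 : R.r g w2 ≠ w2 := fun e => h2.1 (by rw [e, two_self])
  refine h2.2 ?_
  have hfix : R.r g (w1 + w2) = w1 + w2 := R.fix_of_perp hg fun w => by
    rw [R.B_add_right, value w1 hw1 _ ⟨w, rfl⟩, value w2 hw2 _ ⟨w, rfl⟩, two_self]
  refine (eq_of_sum_zero ?_).symm
  rw [map_add] at hfix
  calc R.r g w1 + w1 + (R.r g w2 + w2) = (R.r g w1 + R.r g w2) + (w1 + w2) := by abel
    _ = 0 := by rw [hfix, two_self]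

/-- The fixed vectors of an involution. -/
theorem card_fix {g : U4} (hg : g * g = 1) (hg1 : g ≠ 1) : Nat.card {v : V // R.r g v = v} = 64 := by
  haveI := R.finite
  set L := (R.r g).toLinearMap + LinearMap.id with hL
  have e : Nat.card L.ker = Nat.card {v : V // R.r g v = v} :=
    Nat.card_congr (Equiv.subtypeEquivRight fun v => by
      rw [LinearMap.mem_ker]
      show R.r g v + v = 0 ↔ _
      exact ⟨eq_of_sum_zero, fun h => by rw [h, two_self]⟩)
  have h1 := L.ker.card_eq_card_quotient_mul_card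
  rw [Nat.card_congr L.quotKerEquivRange.toEquiv, tri_invol hT g hg hg1, R.card, e] at h1
  omega

end Rep

variable {G : Type*} [Group G] [Finite G] {z : G} {R : Rep V}

namespace Cd

variable (D : Cd z R) (hT : R.IsTri)

include D hT

/-- Any element of order four over the fixed space is moved by another conjugate; an involution there is fixed. -/
theorem exists_split {u : G} (Du : Cd u R) (hcu : Commute z u) (hz : z ∉ Du.J) :
    ∃ r a, r ∈ D.J ∧ D.pr r ∈ R.X0 ∧ r * r = z ∧ a ∈ D.J ∧ D.pr a ∈ R.X0 ∧ D.pr a ≠ 0 ∧ a * a = 1 ∧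
      Commute a u ∧ u * r * u⁻¹ = r * z ∧ r * a * r⁻¹ = a * z := by
  obtain ⟨x, hx, hx0, hq, y, hy, hy0, hyx⟩ := Rep.X0_vectors hT
  obtain ⟨r, hr, rfl⟩ := D.pr_surj x
  obtain ⟨t, ht, rfl⟩ := D.pr_surj y
  have hr2 : r * r = z := by
    have e := D.sq r hr
    rwa [hq, if_neg (by decide)] at e
  have hru : ¬ Commute r u := fun e => D.no_four hT Du hcu hz hr hx hr2 e
  have hur : u * r * u⁻¹ = r * z := (D.conj_fixed hT hcu.symm hr hx).resolve_left
    fun e => hru (mul_inv_eq_iff_eq_mul.1 e).symm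
  suffices H : ∀ a, a ∈ D.J → D.pr a ∈ R.X0 → D.pr a ≠ 0 → D.pr a ≠ D.pr r → Commute a u →
      ∃ r a, r ∈ D.J ∧ D.pr r ∈ R.X0 ∧ r * r = z ∧ a ∈ D.J ∧ D.pr a ∈ R.X0 ∧ D.pr a ≠ 0 ∧ a * a = 1 ∧
        Commute a u ∧ u * r * u⁻¹ = r * z ∧ r * a * r⁻¹ = a * z by
    by_cases htu : Commute t u
    · exact H t ht hy hy0 hyx htu
    · have hut : u * t * u⁻¹ = t * z := (D.conj_fixed hT hcu.symm ht hy).resolve_left
        fun e => htu (mul_inv_eq_iff_eq_mul.1 e).symm
      refine H (t * r) (mul_mem ht hr) (by rw [D.pr_mul _ ht _ hr]; exact R.X0.add_mem hy hx)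
        (fun e => hyx (eq_of_sum_zero (by rwa [← D.pr_mul _ ht _ hr])))
        (fun e => hy0 (add_eq_right.1 (by rwa [← D.pr_mul _ ht _ hr]))) ?_
      refine (mul_inv_eq_iff_eq_mul.1 ?_).symm
      calc u * (t * r) * u⁻¹ = (u * t * u⁻¹) * (u * r * u⁻¹) := by group
        _ = t * (z * r) * z := by rw [hut, hur]; group
        _ = t * r * (z * z) := by rw [← (D.J_comm r hr).eq]; group
        _ = t * r := by rw [D.z_sq, mul_one]
  intro a ha hX ha0 har hau
  refine ⟨r, a, hr, hx, hr2, ha, hX, ha0, ?_, hau, hur,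
    D.comm_z hr ha (Rep.X0_pair hT hx hX hx0 ha0 (Ne.symm har))⟩
  exact (D.sq_cases ha).resolve_right fun e => D.no_four hT Du hcu hz ha hX e hau

/-- The fixed involution lies in the other radical up to the centre. -/
theorem other_mem {u : G} (Du : Cd u R) (hcu : Commute z u) (hz : z ∉ Du.J) (hu : u ∉ D.J) {a : G}
    (ha : a ∈ D.J) (hX : D.pr a ∈ R.X0) (ha2 : a * a = 1) (hau : Commute a u) :
    a ∈ Du.J ∨ a * z ∈ Du.J := by
  obtain ⟨hf, hf1⟩ := D.zeta_facts Du hcu hz
  obtain ⟨r', -, hr', hX', -, -, -, -, -, -, hzr, -⟩ := Du.exists_split hT D hcu.symm hu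
  have hA : Du.ph a * Du.ph a = 1 := by rw [← Du.ph_mul _ _ hau hau, ha2, Du.ph_one]
  rcases Rep.image_uniq hT hA hf hf1 (fun w => R.range_of_perp hf fun v hv => by
    obtain ⟨i, hi, rfl⟩ := Du.pr_surj v
    rcases Du.eq_of_pr hi (Du.conj_mem hcu hi) (by rw [Du.pr_act z hcu i hi, hv]) with e | e
    · exact D.other_perp hT Du hcu hz ha hX hau hi (mul_inv_eq_iff_eq_mul.1 e).symm w
    · have hik : Commute (i * r') z := (mul_inv_eq_iff_eq_mul.1 (by
        calc z * (i * r') * z⁻¹ = (z * i * z⁻¹) * (z * r' * z⁻¹) := by group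
          _ = i * (u * r') * u := by rw [e, hzr]; group
          _ = i * r' * (u * u) := by rw [← (Du.J_comm r' hr').eq]; group
          _ = i * r' := by rw [Du.z_sq, mul_one])).symm
      have h := D.other_perp hT Du hcu hz ha hX hau (mul_mem hi hr') hik w
      have he : R.e0 (R.r (Du.ph a) w + w) = 0 := by rw [map_add, Rep.e0_r hT, two_self]
      rwa [Du.pr_mul _ hi _ hr', R.B_add_right, R.B_comm _ (Du.pr r'),
        (Rep.perp_iff hT _).2 he _ hX', add_zero] at h) with e | e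
  · exact Or.inl ((Du.ph_J a hau).1 e)
  · refine Or.inr ((Du.ph_J _ (hau.mul_left hcu)).1 ?_)
    rw [Du.ph_mul _ _ hau hcu, e, hf]

omit hT in
/-- A two-subgroup of the centraliser of the full order containing the radical. -/
theorem exists_S0 : ∃ S : Subgroup G, IsPGroup 2 S ∧ Nat.card S = 2 ^ 15 ∧ D.J ≤ S ∧ ∀ s ∈ S, Commute s z := by
  obtain ⟨Q⟩ : Nonempty (Sylow 2 U4) := inferInstance
  have hc : Nat.card (D.pre Q) = 2 ^ 15 := by rw [D.card_pre, sylow_card]; norm_num
  exact ⟨D.pre Q, IsPGroup.of_card hc, hc, fun j hj => ⟨D.J_comm j hj, by rw [D.ph_of_J hj]; exact one_mem _⟩,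
    fun s hs => hs.1⟩

omit hT in
/-- The elements of the centraliser centralising the radical. -/
theorem cent_radical {c : G} (hc : ∀ j ∈ D.J, Commute c j) : c = 1 ∨ c = z := by
  have hcz : Commute c z := hc z D.z_mem
  have h1 : D.ph c = 1 := R.inj (LinearEquiv.ext fun v => by
    obtain ⟨j, hj, rfl⟩ := D.pr_surj v
    rw [D.pr_fix hcz hj (hc j hj), R.r_one])
  have hJ := (D.ph_J c hcz).1 h1
  refine (D.pr_zero c hJ).1 (R.nondeg _ fun w => ?_)
  show R.B (D.pr c) w = 0
  obtain ⟨j, hj, rfl⟩ := D.pr_surj w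
  exact (D.comm_iff hJ hj).1 (hc j hj)

omit hT in
/-- Every two-subgroup is centralised by a conjugate of the centre. -/
theorem cover {T : Subgroup G} (hT' : IsPGroup 2 T) : ∃ x, Mem z x ∧ ∀ t ∈ T, Commute t x := by
  haveI : Fact (Nat.Prime 2) := ⟨Nat.prime_two⟩
  obtain ⟨S, hS⟩ := (IsPGroup.of_card (p := 2) (n := 9)
    (show Nat.card D.J = 2 ^ 9 by rw [D.card_J]; norm_num)).exists_le_sylow
  haveI : Nontrivial (S : Subgroup G) :=
    ⟨⟨⟨z, hS D.z_mem⟩, 1, fun e => D.z_ne (congrArg Subtype.val e)⟩⟩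
  haveI := S.isPGroup'.center_nontrivial
  obtain ⟨c, hc⟩ := exists_ne (1 : Subgroup.center (S : Subgroup G))
  have hcom : ∀ s ∈ (S : Subgroup G), Commute ((c : (S : Subgroup G)) : G) s := fun s hs =>
    (congrArg Subtype.val (mem_center_iff.1 c.2 ⟨s, hs⟩)).symm
  have hcz : ((c : (S : Subgroup G)) : G) = z :=
    (D.cent_radical fun j hj => hcom j (hS hj)).resolve_left fun e => hc (Subtype.ext (Subtype.ext e))
  obtain ⟨S', hS'⟩ := hT'.exists_le_sylow
  obtain ⟨g, hg⟩ := MulAction.exists_smul_eq G S S'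
  refine ⟨g * z * g⁻¹, ⟨g, rfl⟩, fun t ht => ?_⟩
  have ht' := hS' ht
  rw [← hg] at ht'
  obtain ⟨s, hs, rfl⟩ := ht'
  have := (hcom s hs).symm
  rw [hcz] at this
  exact this.map (MulAut.conj g).toMonoidHom

omit hT in
theorem small_two (hT : R.IsTri) {e : G} (he : Commute e z) (he2 : e * e = 1) (hne : D.ph e ≠ 1) {T : Subgroup G}
    (hT2 : IsPGroup 2 T) (hTz : ∀ t ∈ T, Commute t z) (hTe : ∀ t ∈ T, Commute t e) : Nat.card T ≤ 2 ^ 13 := by
  classical
  haveI : Fact (Nat.Prime 2) := ⟨Nat.prime_two⟩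
  haveI := R.finite
  let ψ : T →* U4 :=
    { toFun := fun t => D.ph t
      map_one' := D.ph_one
      map_mul' := fun a b => D.ph_mul _ _ (hTz a a.2) (hTz b b.2) }
  have hr : Nat.card ψ.range ≤ 64 := by
    obtain ⟨Q, hQ⟩ := (hT2.of_surjective ψ.rangeRestrict ψ.rangeRestrict_surjective).exists_le_sylow
    exact le_of_le_of_eq (Nat.le_of_dvd Nat.card_pos (Subgroup.card_dvd_of_le hQ)) (sylow_card Q)
  have hker : ∀ x : ψ.ker, (x.1 : G) ∈ D.J := fun x =>
    (D.ph_J _ (hTz _ x.1.2)).1 (MonoidHom.mem_ker.1 x.2)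
  let f : ψ.ker →* Multiplicative V :=
    { toFun := fun x => Multiplicative.ofAdd (D.pr x.1)
      map_one' := by rw [OneMemClass.coe_one, OneMemClass.coe_one, D.pr_one]; rfl
      map_mul' := fun a b => by
        simp only [Subgroup.coe_mul, D.pr_mul _ (hker a) _ (hker b), ofAdd_add] }
  have hf : Nat.card f.range ≤ 64 := by
    rw [← Rep.card_fix hT (g := D.ph e) (by rw [← D.ph_mul _ _ he he, he2, D.ph_one]) hne]
    refine Nat.card_le_card_of_injective (fun m : f.range => (⟨Multiplicative.toAdd m.1, ?_⟩ :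
      {v : V // R.r (D.ph e) v = v})) fun a b h => Subtype.ext (Multiplicative.toAdd.injective
        (congrArg (fun q : {v : V // R.r (D.ph e) v = v} => q.1) h :))
    obtain ⟨x, hx⟩ := m.2
    rw [← hx]
    exact D.pr_fix he (hker x) (hTe _ x.1.2).symm
  have hfk : Nat.card f.ker ≤ 2 := by
    refine le_of_le_of_eq (Nat.card_le_card_of_injective (fun x : f.ker => decide ((x.1.1 : G) = 1)) ?_) (by simp)
    intro a b h
    simp only [decide_eq_decide] at h
    refine Subtype.ext (Subtype.ext (Subtype.ext ?_))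
    have key : ∀ x : f.ker, (x.1.1 : G) = 1 ∨ (x.1.1 : G) = z := fun x =>
      (D.pr_zero _ (hker x.1)).1 (Multiplicative.ofAdd.injective ((MonoidHom.mem_ker.1 x.2).trans ofAdd_zero.symm))
    rcases key a with ea | ea <;> rcases key b with eb | eb
    · rw [ea, eb]
    · exact absurd ((h.1 ea).symm.trans eb).symm D.z_ne
    · exact absurd ((h.2 eb).symm.trans ea).symm D.z_ne
    · rw [ea, eb]
  have h1 := Subgroup.card_eq_card_quotient_mul_card_subgroup ψ.ker
  rw [Nat.card_congr (QuotientGroup.quotientKerEquivRange ψ).toEquiv] at h1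
  have h2 := Subgroup.card_eq_card_quotient_mul_card_subgroup f.ker
  rw [Nat.card_congr (QuotientGroup.quotientKerEquivRange f).toEquiv] at h2
  rw [h1, h2]
  calc _ ≤ 64 * (64 * 2) := Nat.mul_le_mul hr (Nat.mul_le_mul hf hfk)
    _ = 2 ^ 13 := by norm_num

/-- The centre commutes with none of its other conjugates. -/
theorem tri_isolated {u : G} (h : Mem z u) (hc : Commute u z) : u = z := by
  classical
  haveI : Fact (Nat.Prime 2) := ⟨Nat.prime_two⟩
  by_contra hne
  have hu : u ∉ D.J := fun q => hne (D.tri_mem_J hT h q)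
  obtain ⟨Du⟩ : Nonempty (Cd u R) := by obtain ⟨g, rfl⟩ := h; exact ⟨D.conj g⟩
  have hz : z ∉ Du.J := fun q => hne (Du.tri_mem_J hT h.symm q).symm
  obtain ⟨r, a0, hr, hrX, hr2, ha0, hX0, hne0, ha02, hau0, hur, hra0⟩ := D.exists_split hT Du hc.symm hz
  obtain ⟨a, ha, hX, hne', ha2, hau, hra, haJ⟩ :
      ∃ a, a ∈ D.J ∧ D.pr a ∈ R.X0 ∧ D.pr a ≠ 0 ∧ a * a = 1 ∧ Commute a u ∧ r * a * r⁻¹ = a * z ∧ a ∈ Du.J := by
    rcases D.other_mem hT Du hc.symm hz hu ha0 hX0 ha02 hau0 with q | q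
    · exact ⟨a0, ha0, hX0, hne0, ha02, hau0, hra0, q⟩
    · have hp : D.pr (a0 * z) = D.pr a0 := by rw [D.pr_mul _ ha0 _ D.z_mem, D.pr_z, add_zero]
      refine ⟨a0 * z, mul_mem ha0 D.z_mem, hp ▸ hX0, hp ▸ hne0, ?_, hau0.mul_left hc.symm, ?_, q⟩
      · calc a0 * z * (a0 * z) = a0 * (z * a0) * z := by group
          _ = a0 * a0 * (z * z) := by rw [← (D.J_comm a0 ha0).eq]; group
          _ = 1 := by rw [ha02, D.z_sq, one_mul]
      · rw [show r * (a0 * z) * r⁻¹ = r * a0 * r⁻¹ * (r * z * r⁻¹) by group, hra0, (D.J_comm r hr).eq,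
          mul_inv_cancel_right]
  have hnz : Du.pr a ≠ 0 := fun q => by
    rcases (Du.pr_zero a haJ).1 q with e | e
    · rw [e, D.pr_one] at hne'; exact hne' rfl
    · exact hu (e ▸ ha)
  obtain ⟨j, hj, hj0⟩ := Du.exists_partner hnz
  have hje : j * a * j⁻¹ = a * u := Du.comm_z hj haJ hj0
  set e := a * u with he
  have hez : Commute e z := (D.J_comm a ha).mul_left hc
  have he2 : e * e = 1 := by
    rw [he]
    calc a * u * (a * u) = a * (u * a) * u := by group
      _ = a * a * (u * u) := by rw [← hau.eq]; group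
      _ = 1 := by rw [ha2, Du.z_sq, one_mul]
  have hphe : D.ph e ≠ 1 := fun q => hu (by
    have := mul_mem (inv_mem ha) ((D.ph_J e hez).1 q)
    rwa [he, inv_mul_cancel_left] at this)
  obtain ⟨S, hS, hScard, -, hSz⟩ := D.exists_S0
  set A := S ⊓ centralizer ({a} : Set G) with hA
  have hmemA : ∀ s, s ∈ A ↔ s ∈ S ∧ Commute s a := fun s => by
    rw [hA, mem_inf, mem_centralizer_singleton_iff]; rfl
  have hAcard : 2 ^ 14 ≤ Nat.card A := by
    by_cases hall : ∀ s ∈ S, Commute s a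
    · have : A = S := le_antisymm inf_le_left fun s hs => (hmemA s).2 ⟨hs, hall s hs⟩
      rw [this, hScard]; norm_num
    push Not at hall
    obtain ⟨s0, hs0, hs0a⟩ := hall
    have e0 : s0 * a * s0⁻¹ = a * z := (D.conj_fixed hT (hSz s0 hs0) ha hX).resolve_left
      fun q => hs0a (mul_inv_eq_iff_eq_mul.1 q)
    let f : S → A × Bool := fun s => if h : Commute (s : G) a then (⟨s, (hmemA _).2 ⟨s.2, h⟩⟩, true)
      else (⟨s0⁻¹ * s, (hmemA _).2 ⟨mul_mem (inv_mem hs0) s.2, mul_inv_eq_iff_eq_mul.1 (by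
        have e1 : (s : G) * a * (s : G)⁻¹ = a * z := (D.conj_fixed hT (hSz s s.2) ha hX).resolve_left
          fun q => h (mul_inv_eq_iff_eq_mul.1 q)
        calc s0⁻¹ * s * a * (s0⁻¹ * s)⁻¹ = s0⁻¹ * ((s : G) * a * (s : G)⁻¹) * s0 := by group
          _ = s0⁻¹ * (s0 * a * s0⁻¹) * s0 := by rw [e1, e0]
          _ = a := by group)⟩⟩, false)
    have hf : Function.Injective f := by
      intro s t q
      simp only [f] at q
      by_cases h1 : Commute (s : G) a <;> by_cases h2 : Commute (t : G) a <;> simp [h1, h2] at q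
      · exact q
      · exact q
    have := Nat.card_le_card_of_injective f hf
    rw [hScard, Nat.card_prod, show Nat.card Bool = 2 by simp] at this
    omega
  set P := A.map (MulAut.conj j).toMonoidHom with hP
  have hP2 : IsPGroup 2 P := ((hS.to_le (inf_le_left : A ≤ S))).map _
  have hPcard : Nat.card P = Nat.card A := Subgroup.card_map_of_injective (MulAut.conj j).injective
  set E := centralizer ({e} : Set G) with hE
  have hPE : P ≤ E := by
    rintro _ ⟨s, hs, rfl⟩
    refine mem_centralizer_singleton_iff.2 ?_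
    have : Commute (j * s * j⁻¹) (j * a * j⁻¹) := ((hmemA s).1 hs).2.map (MulAut.conj j).toMonoidHom
    rw [hje] at this
    exact this
  have hre : Commute r e := by
    refine mul_inv_eq_iff_eq_mul.1 ?_
    have hru' : r * u * r⁻¹ = u * z := by
      have h1 : u * r = r * z * u := mul_inv_eq_iff_eq_mul.1 hur
      rw [mul_inv_eq_iff_eq_mul]
      calc r * u = r * z * u * z := by
            rw [mul_assoc (r * z) u z, hc.eq, ← mul_assoc, mul_assoc r z z, D.z_sq, mul_one]
        _ = u * r * z := by rw [h1]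
        _ = u * z * r := by rw [mul_assoc, (D.J_comm r hr).eq, ← mul_assoc]
    calc r * e * r⁻¹ = (r * a * r⁻¹) * (r * u * r⁻¹) := by rw [he]; group
      _ = a * (z * u) * z := by rw [hra, hru']; group
      _ = a * u * (z * z) := by rw [← hc.eq]; group
      _ = e := by rw [D.z_sq, mul_one]
  have hr4 : r ^ 2 ^ 2 = 1 := by
    calc r ^ 2 ^ 2 = (r * r) * (r * r) := by
          rw [show (2 : ℕ) ^ 2 = 2 + 2 by norm_num, pow_add, pow_two]
      _ = 1 := by rw [hr2, D.z_sq]
  have hR : IsPGroup 2 (zpowers r) := fun x => by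
    obtain ⟨k, hk⟩ := x.2
    refine ⟨2, Subtype.ext ?_⟩
    show (x : G) ^ 2 ^ 2 = 1
    rw [← hk]
    show (r ^ k) ^ 2 ^ 2 = 1
    rw [← zpow_natCast, ← zpow_mul, mul_comm, zpow_mul, zpow_natCast, hr4, one_zpow]
  have hrE : zpowers r ≤ E := zpowers_le.2 (mem_centralizer_singleton_iff.2 hre.eq)
  obtain ⟨T0, hT0⟩ := (hR.of_equiv (Subgroup.subgroupOfEquivOfLe hrE).symm).exists_le_sylow
  obtain ⟨T1, hT1⟩ := (hP2.of_equiv (Subgroup.subgroupOfEquivOfLe hPE).symm).exists_le_sylow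
  set T := (T0 : Subgroup E).map E.subtype with hTdef
  have hT2 : IsPGroup 2 T := T0.isPGroup'.map _
  have hTcard : 2 ^ 14 ≤ Nat.card T := by
    rw [Subgroup.card_map_of_injective E.subtype_injective, T0.card_eq_multiplicity, ← T1.card_eq_multiplicity]
    refine hAcard.trans (hPcard ▸ ?_)
    rw [← Nat.card_congr (Subgroup.subgroupOfEquivOfLe hPE).toEquiv]
    exact Nat.le_of_dvd Nat.card_pos (Subgroup.card_dvd_of_le hT1)
  have hTe : ∀ t ∈ T, Commute t e := by
    rintro _ ⟨t, -, rfl⟩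
    exact mem_centralizer_singleton_iff.1 t.2
  have hrT : r ∈ T := ⟨⟨r, hrE (mem_zpowers r)⟩, hT0 (mem_subgroupOf.2 (mem_zpowers r)), rfl⟩
  obtain ⟨x, hxm, hx⟩ := D.cover hT2
  have hxz : x ≠ z := fun q => by
    have := D.small_two hT hez he2 hphe hT2 (fun t ht => q ▸ hx t ht) hTe
    omega
  have hzx : Commute z x := hr2 ▸ (hx r hrT).mul_left (hx r hrT)
  obtain ⟨Dx⟩ : Nonempty (Cd x R) := by obtain ⟨g, rfl⟩ := hxm; exact ⟨D.conj g⟩
  refine D.no_four hT Dx hzx (fun q => hxz (Dx.tri_mem_J hT hxm.symm q).symm) hr hrX hr2 (hx r hrT)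

end Cd

end CfsgLib.U62Cent
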