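import Cfsg.Agent.U62Cent.Build
import Cfsg.Agent.U62Cent.Embed
import Cfsg.Agent.U62Cent.TriIsolated
import Cfsg.Agent.FiLarge.Model
import Cfsg.Agent.Invol.IsolatedApps

/-!
An involution centraliser with extraspecial radical of order 512 over the symplectic group in four variables over
three elements.
-/

set_option autoImplicit false
set_option maxRecDepth 100000
set_option maxHeartbeats 1000000
set_option linter.style.haveILetI false

namespace CfsgLib.U62Cent

open CfsgLib Subgroup

universe u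

/-- The two outcomes for a radical with quotient the unitary group. -/
theorem main {G : Type u} [Group G] [Finite G] {z : G} (hz : orderOf z = 2)
    (Q : Subgroup (centralizer ({z} : Set G))) [Q.Normal] (hQ : Cfsg.IsExtraspecial 2 Q)
    (hc : Nat.card Q = 2 ^ 9) (hself : centralizer (Q : Set (centralizer ({z} : Set G))) ≤ Q)
    (e : (centralizer ({z} : Set G)) ⧸ Q ≃* U4) :
    (∃ (K : Type) (_ : Field K) (_ : Fintype K), Fintype.card K = 4 ∧ Nonempty (G ≃* Cfsg.PSU 6 K 2)) ∨
      centralizer ({z} : Set G) ⊔ Cfsg.oddCore G = ⊤ := by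
  classical
  obtain ⟨V, _, _, R, D, -⟩ := exists_cd hz Q hQ hc hself e
  have concl : (∀ x, Mem z x → Commute x z → x = z) → centralizer ({z} : Set G) ⊔ Cfsg.oddCore G = ⊤ := by
    intro h
    have hiso : Cfsg.IsIsolatedInvolution z := ⟨hz, fun g hg => h _ ⟨g, rfl⟩ hg.symm⟩
    refine eq_top_iff.2 fun g _ => ?_
    obtain ⟨o, ho, c, hc', rfl⟩ := IsoApps.exists_mul hiso g
    exact mul_mem (mem_sup_right ho) (mem_sup_left hc')
  rcases R.shapes with hN | hT
  · obtain ⟨D4⟩ := D.exists_natural hN
    by_cases hn : HasNb z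
    · exact Or.inl (D4.iso_of_nb hn)
    · refine Or.inr (concl fun x hx hcx => ?_)
      by_contra hne
      exact hn ⟨x, hx, hcx, hne⟩
  · exact Or.inr (concl fun x hx hcx => D.tri_isolated hT hx hcx)

/-- The same with the symplectic group as quotient and any field of four elements. -/
theorem main_psp {G : Type u} [Group G] [Finite G] {z : G} (hz : orderOf z = 2)
    {F : Type*} [Field F] [Fintype F] (hF : Fintype.card F = 3) {K : Type*} [Field K] [Fintype K]
    (hK : Fintype.card K = 4) (Q : Subgroup (centralizer ({z} : Set G))) [Q.Normal]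
    (hQ : Cfsg.IsExtraspecial 2 Q) (hc : Nat.card Q = 2 ^ 9)
    (hself : centralizer (Q : Set (centralizer ({z} : Set G))) ≤ Q)
    (e : (centralizer ({z} : Set G)) ⧸ Q ≃* Cfsg.PSp 2 F) :
    Nonempty (G ≃* Cfsg.PSU 6 K 2) ∨ centralizer ({z} : Set G) ⊔ Cfsg.oddCore G = ⊤ := by
  obtain ⟨φ⟩ := nonempty_psp_iso hF
  rcases main hz Q hQ hc hself (e.trans φ.symm) with ⟨K', _, _, hK', ⟨ψ⟩⟩ | h
  · exact Or.inl ⟨ψ.trans (FiLarge.psuCongr (FiniteField.ringEquivOfCardEq (hK'.trans hK.symm)))⟩
  · exact Or.inr h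

end CfsgLib.U62Cent
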