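import Cfsg.Agent.FiLarge.Chz.Transfer

/-!
The Thompson transfer lemma with an extremal conjugate, for an element of order dividing four.
-/

set_option autoImplicit false
set_option linter.unusedSectionVars false
set_option linter.deprecated false
set_option linter.style.haveILetI false

namespace CfsgLib.U62Cent

open Subgroup MulAction CfsgLib.ThompsonTransfer
open CfsgLib.FiLarge.Chz (mem_of_rel)

variable {G : Type*} [Group G]

/-- The fixed cosets of an element with value outside fall into orbits of length divisible by four. -/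
theorem four_dvd_fixed [Finite G] (P Q : Subgroup G) (hQP : Q ≤ P) (hQi : Q.relIndex P = 2) (w : G)
    (h4 : ∀ g : G, g⁻¹ * w * g ∈ P → g⁻¹ * w * g ∉ Q →
      4 ∣ (P.map (MulAut.conj g).toMonoidHom ⊓ centralizer ({w} : Set G)).relIndex (centralizer ({w} : Set G))) :
    4 ∣ Nat.card {x : G ⧸ P // w • x = x ∧ x.out⁻¹ * w * x.out ∉ Q} := by
  classical
  let F := {x : G ⧸ P // w • x = x ∧ x.out⁻¹ * w * x.out ∉ Q}
  set C := centralizer ({w} : Set G)
  letI : MulAction C F :=
    { smul := fun c x => ⟨(c : G) • x.1, by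
        have hc : Commute (c : G) w := mem_centralizer_singleton_iff.1 c.2
        refine ⟨by rw [smul_smul, ← hc.eq, ← smul_smul, x.2.1], ?_⟩
        obtain ⟨p, hp⟩ : ∃ p : P, ((c : G) • x.1).out = (c : G) * x.1.out * p := by
          have h : ((c : G) • x.1) = QuotientGroup.mk ((c : G) * x.1.out) := by
            conv_lhs => rw [← QuotientGroup.out_eq' x.1]
            rfl
          rw [h]
          exact QuotientGroup.mk_out_eq_mul P ((c : G) * x.1.out)
        rw [hp, show ((c : G) * x.1.out * p)⁻¹ * w * ((c : G) * x.1.out * p) =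
          (p : G)⁻¹ * (x.1.out⁻¹ * ((c : G)⁻¹ * (w * c)) * x.1.out) * p by group, ← hc.eq, inv_mul_cancel_left]
        intro hmem
        refine x.2.2 ?_
        have h := mem_of_rel hQP hQi hmem (inv_mem p.2)
        simpa [mul_assoc] using h⟩
      one_smul := fun x => Subtype.ext (one_smul G x.1)
      mul_smul := fun c d x => Subtype.ext (mul_smul (c : G) (d : G) x.1) }
  haveI : Fintype (Quotient (orbitRel C F)) := Fintype.ofFinite _
  rw [show Nat.card F = ∑ q : Quotient (orbitRel C F), Nat.card (orbit C q.out) by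
    rw [Nat.card_congr (selfEquivSigmaOrbits C F), Nat.card_sigma]]
  refine Finset.dvd_sum fun q _ => ?_
  set x := q.out
  have hstab : stabilizer C x = (P.map (MulAut.conj x.1.out).toMonoidHom ⊓ C).subgroupOf C := by
    ext c
    rw [mem_stabilizer_iff, mem_subgroupOf, mem_inf]
    have h1 : c • x = x ↔ (c : G) • x.1 = x.1 := ⟨fun h => congrArg Subtype.val h, fun h => Subtype.ext h⟩
    rw [h1]
    have h2 : (c : G) • x.1 = x.1 ↔ x.1.out⁻¹ * (c : G) * x.1.out ∈ P := by
      conv_lhs => rw [← QuotientGroup.out_eq' x.1]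
      show ((QuotientGroup.mk ((c : G) * x.1.out) : G ⧸ P) = QuotientGroup.mk x.1.out) ↔ _
      rw [QuotientGroup.eq, ← inv_mem_iff]
      simp [mul_assoc]
    rw [h2]
    constructor
    · intro h
      exact ⟨⟨_, h, by simp [mul_assoc]⟩, c.2⟩
    · rintro ⟨⟨p, hp, e⟩, -⟩
      have e' : x.1.out * p * x.1.out⁻¹ = (c : G) := e
      rw [← e']
      simpa [mul_assoc] using hp
  have h3 := MulAction.index_stabilizer C x
  rw [hstab] at h3
  have hP : x.1.out⁻¹ * w * x.1.out ∈ P := by
    have h : (QuotientGroup.mk (w * x.1.out) : G ⧸ P) = QuotientGroup.mk x.1.out := by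
      show w • (QuotientGroup.mk x.1.out : G ⧸ P) = QuotientGroup.mk x.1.out
      rw [QuotientGroup.out_eq', x.2.1]
    rw [eq_comm, QuotientGroup.eq] at h
    simpa only [mul_assoc] using h
  have h := h4 _ hP x.2.2
  rw [Subgroup.relIndex, h3, ← Nat.card_coe_set_eq] at h
  exact h

/-- An element of order dividing four, the conjugates of whose square outside the subgroup of index two have
centraliser orbits of length divisible by four, lies outside a normal subgroup of index two or has an extremal
conjugate in that subgroup. -/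
theorem extremal_transfer_four [Finite G] (P Q : Subgroup G) (hP : Odd P.index) (hQP : Q ≤ P) (hQi : Q.relIndex P = 2)
    {u : G} (hu : u ^ 4 = 1) (hsq : ∀ g : G, g⁻¹ * u ^ 2 * g ∈ P → g⁻¹ * u ^ 2 * g ∉ Q →
      4 ∣ (P.map (MulAut.conj g).toMonoidHom ⊓ centralizer ({u ^ 2} : Set G)).relIndex
        (centralizer ({u ^ 2} : Set G))) :
    (∃ M : Subgroup G, M.Normal ∧ M.index = 2 ∧ u ∉ M) ∨
      ∃ g : G, g⁻¹ * u * g ∈ Q ∧
        Odd ((P.map (MulAut.conj g).toMonoidHom ⊓ centralizer ({u} : Set G)).relIndex (centralizer ({u} : Set G))) := by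
  classical
  refine or_iff_not_imp_left.2 fun hM => ?_
  set φ := parity (Q.subgroupOf P) hQi with hφ
  haveI : P.FiniteIndex := inferInstance
  set a : Multiplicative (ZMod 2) := Multiplicative.ofAdd 1 with ha
  have ha1 : a ≠ 1 := by decide
  have ha2 : a * a = 1 := by decide
  haveI : Fintype (Quotient (orbitRel (zpowers u) (G ⧸ P))) := Fintype.ofFinite _
  let per : Quotient (orbitRel (zpowers u) (G ⧸ P)) → ℕ := fun q => Function.minimalPeriod (u • ·) q.out
  let good : Quotient (orbitRel (zpowers u) (G ⧸ P)) → Prop := fun q => q.out.out⁻¹ * u * q.out.out ∈ Q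
  let good2 : Quotient (orbitRel (zpowers u) (G ⧸ P)) → Prop := fun q => q.out.out⁻¹ * u ^ 2 * q.out.out ∈ Q
  have hper : ∀ q, per q = 1 ∨ per q = 2 ∨ per q = 4 := fun q => by
    have h4 : per q ∣ 2 ^ 2 := by
      refine Function.IsPeriodicPt.minimalPeriod_dvd ?_
      show (u • ·)^[4] q.out = q.out
      simp only [smul_iterate, hu, one_smul]
    obtain ⟨i, hi, e⟩ := (Nat.dvd_prime_pow Nat.prime_two).1 h4
    rw [e]
    interval_cases i <;> simp
  have hone : MonoidHom.transfer φ u = 1 := by
    by_contra hne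
    refine hM ⟨(MonoidHom.transfer φ).ker, inferInstance, ?_, fun h => hne (MonoidHom.mem_ker.1 h)⟩
    rw [index_ker]
    have h2 : Nat.card (MonoidHom.transfer φ).range ∣ 2 := by
      have h := (MonoidHom.transfer φ).range.card_subgroup_dvd_card
      rwa [show Nat.card (Multiplicative (ZMod 2)) = 2 by simp] at h
    refine ((Nat.dvd_prime Nat.prime_two).1 h2).resolve_left fun h => hne ?_
    have h3 : MonoidHom.transfer φ u ∈ (MonoidHom.transfer φ).range := ⟨u, rfl⟩
    rw [card_eq_one.1 h, mem_bot] at h3
    exact h3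
  have hprod : MonoidHom.transfer φ u =
      ∏ q : Quotient (orbitRel (zpowers u) (G ⧸ P)), a ^ ((if per q = 1 ∧ ¬ good q then 1 else 0) +
        if per q = 2 ∧ ¬ good2 q then 1 else 0) := by
    rw [MonoidHom.transfer_eq_prod_quotient_orbitRel_zpowers_quot φ u]
    refine Finset.prod_congr rfl fun q _ => ?_
    rcases hper q with e | e | e
    · have e' : Function.minimalPeriod (u • ·) q.out = 1 := e
      rw [if_neg (fun h : per q = 2 ∧ _ => absurd (e.symm.trans h.1) (by norm_num)), add_zero]
      by_cases hg : good q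
      · refine (parity_apply_mem hQi ?_).trans (by rw [if_neg (fun h => h.2 hg), pow_zero])
        rw [mem_subgroupOf]
        simp only [e', pow_one]
        exact hg
      · refine (parity_apply_not_mem hQi fun hmem => hg ?_).trans (by rw [if_pos ⟨e, hg⟩, pow_one])
        rw [mem_subgroupOf] at hmem
        simp only [e', pow_one] at hmem
        exact hmem
    · have e' : Function.minimalPeriod (u • ·) q.out = 2 := e
      rw [if_neg (fun h : per q = 1 ∧ _ => absurd (e.symm.trans h.1) (by norm_num)), zero_add]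
      by_cases hg : good2 q
      · refine (parity_apply_mem hQi ?_).trans (by rw [if_neg (fun h => h.2 hg), pow_zero])
        rw [mem_subgroupOf]
        simp only [e']
        exact hg
      · refine (parity_apply_not_mem hQi fun hmem => hg ?_).trans (by rw [if_pos ⟨e, hg⟩, pow_one])
        rw [mem_subgroupOf] at hmem
        simp only [e'] at hmem
        exact hmem
    · have e' : Function.minimalPeriod (u • ·) q.out = 4 := e
      rw [if_neg (fun h : per q = 1 ∧ _ => absurd (e.symm.trans h.1) (by norm_num)),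
        if_neg (fun h : per q = 2 ∧ _ => absurd (e.symm.trans h.1) (by norm_num)), add_zero, pow_zero]
      refine parity_apply_mem hQi ?_
      rw [mem_subgroupOf]
      simp [e', hu]
  rw [Finset.prod_pow_eq_pow_sum, Finset.sum_add_distrib, ← Finset.card_filter, ← Finset.card_filter, hone] at hprod
  have hbad2 : Even (Finset.univ.filter fun q => per q = 2 ∧ ¬ good2 q).card := by
    set bad2 := Finset.univ.filter fun q => per q = 2 ∧ ¬ good2 q
    have hdvd := four_dvd_fixed P Q hQP hQi (u ^ 2) hsq
    let F2 := {x : G ⧸ P // u ^ 2 • x = x ∧ x.out⁻¹ * u ^ 2 * x.out ∉ Q}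
    have hP2 : ∀ x : G ⧸ P, u • x = x → x.out⁻¹ * u ^ 2 * x.out ∈ Q := fun x hx => by
      have h : (QuotientGroup.mk (u * x.out) : G ⧸ P) = QuotientGroup.mk x.out := by
        show u • (QuotientGroup.mk x.out : G ⧸ P) = QuotientGroup.mk x.out
        rw [QuotientGroup.out_eq', hx]
      rw [eq_comm, QuotientGroup.eq] at h
      have hsqQ := Subgroup.sq_mem_of_index_two (H := Q.subgroupOf P) hQi ⟨_, h⟩
      rw [mem_subgroupOf, SubmonoidClass.coe_pow] at hsqQ
      convert hsqQ using 1
      simp [pow_two, mul_assoc]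
    have hconj : ∀ x : G ⧸ P, u ^ 2 • x = x →
        ((u • x).out⁻¹ * u ^ 2 * (u • x).out ∈ Q ↔ x.out⁻¹ * u ^ 2 * x.out ∈ Q) := by
      intro x _
      obtain ⟨p, hp⟩ : ∃ p : P, (u • x).out = u * x.out * p := by
        have h : u • x = QuotientGroup.mk (u * x.out) := by
          conv_lhs => rw [← QuotientGroup.out_eq' x]
          rfl
        rw [h]
        exact QuotientGroup.mk_out_eq_mul P (u * x.out)
      have e : (u • x).out⁻¹ * u ^ 2 * (u • x).out = (p : G)⁻¹ * (x.out⁻¹ * u ^ 2 * x.out) * p := by
        rw [hp, pow_two]; group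
      rw [e]
      refine ⟨fun h => ?_, fun h => mem_of_rel hQP hQi h p.2⟩
      have := mem_of_rel hQP hQi h (inv_mem p.2)
      simpa [mul_assoc] using this
    have hiff : ∀ x : G ⧸ P, u ^ 2 • x = x → ∀ y,
        Quotient.mk (orbitRel (zpowers u) (G ⧸ P)) y = Quotient.mk _ x → y = x ∨ y = u • x := by
      intro x hx y hy
      obtain ⟨⟨w, k, rfl⟩, rfl⟩ := Quotient.exact hy
      have hst : ∀ i : ℤ, (u ^ 2) ^ i • x = x := fun i => by
        have hz : zpowers (u ^ 2) ≤ stabilizer G x := by rw [zpowers_le]; exact hx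
        exact hz ⟨i, rfl⟩
      rcases Int.even_or_odd' k with ⟨i, rfl | rfl⟩
      · refine Or.inl ?_
        show u ^ (2 * i) • x = x
        rw [zpow_mul, zpow_two, ← pow_two]; exact hst i
      · refine Or.inr ?_
        show u ^ (2 * i + 1) • x = u • x
        rw [add_comm, zpow_add, zpow_one, mul_smul, zpow_mul, zpow_two, ← pow_two]
        exact congrArg (u • ·) (hst i)
    have hF : Nat.card F2 = bad2.card * 2 := by
      let f : bad2 × Fin 2 → F2 := fun p =>
        have h := (Finset.mem_filter.1 p.1.2).2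
        have hfix : u ^ 2 • p.1.1.out = p.1.1.out := by
          have h' := Function.isPeriodicPt_minimalPeriod (u • ·) p.1.1.out
          rw [show Function.minimalPeriod (u • ·) p.1.1.out = 2 from h.1] at h'
          simpa only [Function.IsPeriodicPt, Function.IsFixedPt, smul_iterate] using h'
        if p.2 = 0 then ⟨p.1.1.out, hfix, h.2⟩
        else ⟨u • p.1.1.out, by rw [smul_smul, ← pow_succ, pow_succ', mul_smul, hfix],
          fun hm => h.2 ((hconj _ hfix).1 hm)⟩
      have hne : ∀ x : F2, u • x.1 ≠ x.1 := fun x hx => x.2.2 (hP2 x.1 hx)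
      have hclass : ∀ p, Quotient.mk (orbitRel (zpowers u) (G ⧸ P)) (f p).1 = p.1.1 := fun p => by
        by_cases h : p.2 = 0
        · simp only [f, if_pos h]; exact Quotient.out_eq _
        · simp only [f, if_neg h]
          refine Eq.trans ?_ (Quotient.out_eq p.1.1)
          exact Quotient.sound ⟨⟨u, mem_zpowers u⟩, rfl⟩
      rw [← Nat.card_eq_of_bijective f ⟨fun p p' e => ?_, fun x => ?_⟩, Nat.card_prod, Nat.card_eq_finsetCard,
        Nat.card_eq_fintype_card, Fintype.card_fin]
      · have h1 : p.1 = p'.1 := Subtype.ext ((hclass p).symm.trans (e ▸ hclass p'))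
        refine Prod.ext h1 ?_
        obtain ⟨p1, p2⟩ := p
        obtain ⟨p1', p2'⟩ := p'
        obtain rfl : p1 = p1' := h1
        have hn : u • p1.1.out ≠ p1.1.out := fun hx => (Finset.mem_filter.1 p1.2).2.2 (hP2 _ hx)
        have e' := congrArg Subtype.val e
        fin_cases p2 <;> fin_cases p2' <;> simp [f] at e' ⊢ <;>
          first | exact hn e' | exact hn e'.symm
      · obtain ⟨x, hx2, hxQ⟩ := x
        set q := Quotient.mk (orbitRel (zpowers u) (G ⧸ P)) x
        have hq : q ∈ bad2 := by
          refine Finset.mem_filter.2 ⟨Finset.mem_univ _, ?_⟩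
          rcases hiff x hx2 q.out (Quotient.out_eq q) with e | e
          · refine ⟨Function.minimalPeriod_eq_prime (p := 2) ?_ ?_, ?_⟩
            · rw [e]; simpa only [Function.IsPeriodicPt, Function.IsFixedPt, smul_iterate] using hx2
            · rw [e]; exact hne ⟨x, hx2, hxQ⟩
            · show ¬ _ ∈ Q
              rw [e]; exact hxQ
          · have hux : u ^ 2 • u • x = u • x := by rw [smul_smul, ← pow_succ, pow_succ', mul_smul, hx2]
            refine ⟨Function.minimalPeriod_eq_prime (p := 2) ?_ ?_, ?_⟩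
            · rw [e]; simpa only [Function.IsPeriodicPt, Function.IsFixedPt, smul_iterate] using hux
            · rw [e]; exact fun h => hne ⟨x, hx2, hxQ⟩ (MulAction.injective u h)
            · show ¬ _ ∈ Q
              rw [e]; exact fun hm => hxQ ((hconj x hx2).1 hm)
        rcases hiff x hx2 q.out (Quotient.out_eq q) with e | e
        · exact ⟨(⟨q, hq⟩, 0), Subtype.ext (by simp [f, e])⟩
        · refine ⟨(⟨q, hq⟩, 1), Subtype.ext ?_⟩
          simp only [f, if_neg (show (1 : Fin 2) ≠ 0 by decide), e]
          rw [smul_smul, ← pow_two]; exact hx2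
    rw [hF] at hdvd
    exact even_iff_two_dvd.2 (by omega)
  obtain ⟨k2, hk2⟩ := hbad2
  rw [hk2, pow_add, ← two_mul, pow_mul, sq, ha2, one_pow, mul_one] at hprod
  set bad := Finset.univ.filter fun q => per q = 1 ∧ ¬ good q
  set gd := Finset.univ.filter fun q => per q = 1 ∧ good q
  have hbad : Even bad.card := by
    rcases Nat.even_or_odd bad.card with h | ⟨k, hk⟩
    · exact h
    · rw [hk, pow_succ, pow_mul, sq, ha2, one_pow, one_mul] at hprod
      exact absurd hprod.symm ha1
  have hgd : Odd gd.card := by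
    have hsum := index_eq_sum_minimalPeriod P u
    rw [← Finset.sum_filter_add_sum_filter_not Finset.univ (fun q => per q = 1)] at hsum
    have h1 : (∑ q ∈ Finset.univ.filter (fun q => per q = 1), per q) = bad.card + gd.card := by
      rw [Finset.sum_congr rfl fun q hq => (Finset.mem_filter.1 hq).2, Finset.sum_const, smul_eq_mul, mul_one,
        ← Finset.card_union_of_disjoint]
      · congr 1
        ext q
        simp only [bad, gd, Finset.mem_union, Finset.mem_filter, Finset.mem_univ, true_and]
        tauto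
      · exact Finset.disjoint_left.2 fun q h h' => (Finset.mem_filter.1 h).2.2 (Finset.mem_filter.1 h').2.2
    have h2 : Even (∑ q ∈ Finset.univ.filter (fun q => ¬ per q = 1), per q) := by
      refine Finset.even_sum _ fun q hq => ?_
      rcases (hper q).resolve_left (Finset.mem_filter.1 hq).2 with e | e <;> rw [e]
      exacts [even_two, ⟨2, rfl⟩]
    have h3 : P.index = bad.card + gd.card + ∑ q ∈ Finset.univ.filter (fun q => ¬ per q = 1), per q := by
      rw [← h1]; exact hsum
    rw [h3, Nat.odd_add] at hP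
    have h4 := hP.2 h2
    rw [Nat.odd_add'] at h4
    exact h4.2 hbad
  -- the fixed cosets with value in the subgroup
  let F := {x : G ⧸ P // u • x = x ∧ x.out⁻¹ * u * x.out ∈ Q}
  have hF : Nat.card F = gd.card := by
    have hsingle : ∀ x : G ⧸ P, u • x = x →
        ∀ y, Quotient.mk (orbitRel (zpowers u) (G ⧸ P)) y = Quotient.mk _ x → y = x := by
      intro x hx y hy
      obtain ⟨⟨w, hw⟩, rfl⟩ := Quotient.exact hy
      have hst : zpowers u ≤ stabilizer G x := by rw [zpowers_le]; exact hx
      exact hst hw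
    rw [← Nat.card_eq_finsetCard]
    refine Nat.card_eq_of_bijective (fun x : F => (⟨Quotient.mk _ x.1, Finset.mem_filter.2 ⟨Finset.mem_univ _, ?_⟩⟩ : gd))
      ⟨fun x y e => ?_, fun q => ?_⟩
    · have ho := hsingle x.1 x.2.1 _ (Quotient.out_eq (Quotient.mk (orbitRel (zpowers u) (G ⧸ P)) x.1))
      refine ⟨?_, ?_⟩
      · show Function.minimalPeriod (u • ·) _ = 1
        rw [ho]
        exact Function.minimalPeriod_eq_one_iff_isFixedPt.2 x.2.1
      · show _ ∈ Q
        rw [ho]
        exact x.2.2
    · exact Subtype.ext (hsingle y.1 y.2.1 x.1 (congrArg Subtype.val e))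
    · obtain ⟨h1, h2⟩ := (Finset.mem_filter.1 q.2).2
      exact ⟨⟨q.1.out, Function.minimalPeriod_eq_one_iff_isFixedPt.1 h1, h2⟩, Subtype.ext (Quotient.out_eq q.1)⟩
  rw [← hF] at hgd
  -- an orbit of odd length
  set C := centralizer ({u} : Set G)
  letI : MulAction C F :=
    { smul := fun c x => ⟨(c : G) • x.1, by
        have hc : Commute (c : G) u := mem_centralizer_singleton_iff.1 c.2
        refine ⟨by rw [smul_smul, ← hc.eq, ← smul_smul, x.2.1], ?_⟩
        obtain ⟨p, hp⟩ : ∃ p : P, ((c : G) • x.1).out = (c : G) * x.1.out * p := by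
          have h : ((c : G) • x.1) = QuotientGroup.mk ((c : G) * x.1.out) := by
            conv_lhs => rw [← QuotientGroup.out_eq' x.1]
            rfl
          rw [h]
          exact QuotientGroup.mk_out_eq_mul P ((c : G) * x.1.out)
        rw [hp, show ((c : G) * x.1.out * p)⁻¹ * u * ((c : G) * x.1.out * p) =
          (p : G)⁻¹ * (x.1.out⁻¹ * ((c : G)⁻¹ * (u * c)) * x.1.out) * p by group, ← hc.eq, inv_mul_cancel_left]
        exact mem_of_rel hQP hQi x.2.2 p.2⟩
      one_smul := fun x => Subtype.ext (one_smul G x.1)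
      mul_smul := fun c d x => Subtype.ext (mul_smul (c : G) (d : G) x.1) }
  haveI : Fintype (Quotient (orbitRel C F)) := Fintype.ofFinite _
  have hdec : Nat.card F = ∑ w : Quotient (orbitRel C F), Nat.card (orbit C w.out) := by
    rw [Nat.card_congr (selfEquivSigmaOrbits C F), Nat.card_sigma]
  obtain ⟨w, hw⟩ : ∃ w : Quotient (orbitRel C F), Odd (Nat.card (orbit C w.out)) := by
    by_contra hno
    push Not at hno
    rw [hdec] at hgd
    exact Nat.not_even_iff_odd.2 hgd (Finset.even_sum _ fun w _ => Nat.not_odd_iff_even.1 (hno w))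
  set x := w.out
  refine ⟨x.1.out, x.2.2, ?_⟩
  have hstab : stabilizer C x = (P.map (MulAut.conj x.1.out).toMonoidHom ⊓ C).subgroupOf C := by
    ext c
    rw [mem_stabilizer_iff, mem_subgroupOf, mem_inf]
    have h1 : c • x = x ↔ (c : G) • x.1 = x.1 := ⟨fun h => congrArg Subtype.val h, fun h => Subtype.ext h⟩
    rw [h1]
    have h2 : (c : G) • x.1 = x.1 ↔ x.1.out⁻¹ * (c : G) * x.1.out ∈ P := by
      conv_lhs => rw [← QuotientGroup.out_eq' x.1]
      show ((QuotientGroup.mk ((c : G) * x.1.out) : G ⧸ P) = QuotientGroup.mk x.1.out) ↔ _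
      rw [QuotientGroup.eq, ← inv_mem_iff]
      simp [mul_assoc]
    rw [h2]
    constructor
    · intro h
      exact ⟨⟨_, h, by simp [mul_assoc]⟩, c.2⟩
    · rintro ⟨⟨p, hp, e⟩, -⟩
      have e' : x.1.out * p * x.1.out⁻¹ = (c : G) := e
      rw [← e']
      simpa [mul_assoc] using hp
  have h3 := MulAction.index_stabilizer C x
  rw [hstab] at h3
  rw [Subgroup.relIndex, h3, ← Nat.card_coe_set_eq]
  exact hw

end CfsgLib.U62Cent
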