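import Cfsg.Agent.U62Cent.ExtFusion
import Cfsg.Agent.U62Cent.Transfer

/-!
In natural coordinates of extended type there is a normal subgroup of index two containing the radical and
missing part of the centraliser.
-/

set_option autoImplicit false
set_option maxRecDepth 100000
set_option maxHeartbeats 1000000
set_option linter.style.haveILetI false
set_option linter.unusedSectionVars false
set_option quotPrecheck false

open scoped Matrix

namespace CfsgLib.U62Cent

open CfsgLib Subgroup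
open CfsgLib.FiLarge (F4 om omp)
open CfsgLib.Unitary (suMat suMat_mul suMat_one su_ext su_preserves)

theorem tau_half : ∀ v : V4, ![v 1 * v 1, v 0 * v 0, v 3 * v 3, v 2 * v 2] = v →
    (∃ w : V4, w + ![w 1 * w 1, w 0 * w 0, w 3 * w 3, w 2 * w 2] = v) ∧ qn4 v = 0 ∧
      ∀ w : V4, ![w 1 * w 1, w 0 * w 0, w 3 * w 3, w 2 * w 2] = w → (h4 v w).im = 0 := by
  decide +kernel

theorem fix_basis_key : ∀ v : V4,
    let c : V4 := ![v 0 + v 1 * v 1, (v 0 + v 1 * v 1) * (v 0 + v 1 * v 1), v 2 + v 3 * v 3,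
      (v 2 + v 3 * v 3) * (v 2 + v 3 * v 3)]
    let a : V4 := v + om • c
    ![a 1 * a 1, a 0 * a 0, a 3 * a 3, a 2 * a 2] = a ∧
      ![c 1 * c 1, c 0 * c 0, c 3 * c 3, c 2 * c 2] = c ∧ v = a + om • c := by decide +kernel

theorem fix_basis (v : V4) : ∃ a b : V4, ![a 1 * a 1, a 0 * a 0, a 3 * a 3, a 2 * a 2] = a ∧
    ![b 1 * b 1, b 0 * b 0, b 3 * b 3, b 2 * b 2] = b ∧ v = a + om • b :=
  ⟨_, _, fix_basis_key v⟩

/-- The element of order three inverting the scalars on both blocks. -/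
noncomputable def dd : U4 := dE ![1, 2, 1, 2]

theorem dd_apply (x : V4) : suMat dd *ᵥ x = fun i => omp ((![1, 2, 1, 2] : Fin 4 → ZMod 3) i) * x i :=
  dE_apply (by decide) x

theorem dd_fix : ∀ v : V4, ![v 1 * v 1, v 0 * v 0, v 3 * v 3, v 2 * v 2] = v →
    ∃ w : V4, ![w 1 * w 1, w 0 * w 0, w 3 * w 3, w 2 * w 2] = w ∧
      ![(omp 2 * w 1) * (omp 2 * w 1), (omp 1 * w 0) * (omp 1 * w 0), (omp 2 * w 3) * (omp 2 * w 3),
        (omp 1 * w 2) * (omp 1 * w 2)] = ![omp 1 * w 0, omp 2 * w 1, omp 1 * w 2, omp 2 * w 3] ∧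
      w + ![omp 1 * w 0, omp 2 * w 1, omp 1 * w 2, omp 2 * w 3] = v := by decide +kernel

theorem dd_span : ∀ v : V4, ∃ w : V4, w + ![omp 1 * w 0, omp 2 * w 1, omp 1 * w 2, omp 2 * w 3] = v := by
  decide +kernel

theorem dd_vec (x : V4) : suMat dd *ᵥ x = ![omp 1 * x 0, omp 2 * x 1, omp 1 * x 2, omp 2 * x 3] := by
  rw [dd_apply]
  funext i
  fin_cases i <;> simp

theorem tau_dd : tauF * R4.r dd = R4.r dd * tauF := LinearEquiv.ext fun x => by
  show tauF (suMat dd *ᵥ x) = suMat dd *ᵥ tauF x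
  rw [dd_vec, dd_vec, tauF_apply, tauF_apply]
  have h : ∀ a : F4, omp 2 * a * (omp 2 * a) = omp 1 * (a * a) ∧ omp 1 * a * (omp 1 * a) = omp 2 * (a * a) := by
    decide +kernel
  funext i
  fin_cases i <;> simp [h]

/-- The two points of the mixing product. -/
def mp : V4 := ![0, 0, om, 1 + om]

/-- The second point of the mixing product. -/
def mq : V4 := ![om, 1 + om, 1 + om, om]

/-- The mixing map. -/
def mxv (x : V4) : V4 := (x + h4 x mq • mq) + h4 (x + h4 x mq • mq) mp • mp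

theorem mx_pts : IsPt4 mp ∧ IsPt4 mq ∧ tauF mp = mp ∧ tauF mq = mq := by
  refine ⟨by decide +kernel, by decide +kernel, ?_, ?_⟩ <;> rw [tauF_apply] <;> decide +kernel

/-- The mixing element. -/
noncomputable def mx : U4 := tvp mp * tvp mq

theorem mx_apply (x : V4) : suMat mx *ᵥ x = mxv x := by
  rw [mx, suMat_mul, ← Matrix.mulVec_mulVec, tvp_apply mx_pts.2.1, tvp_apply mx_pts.1]
  rfl

theorem tau_mx : tauF * R4.r mx = R4.r mx * tauF := by
  rw [mx, map_mul, ← mul_assoc, tauF_tvp mx_pts.1, mx_pts.2.2.1, mul_assoc, tauF_tvp mx_pts.2.1, mx_pts.2.2.2,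
    mul_assoc]

theorem mxv_cube : ∀ x : V4, mxv (mxv (mxv x)) = x := by decide +kernel

theorem mx_cube : mx ^ 3 = 1 := su_ext fun x => by
  rw [pow_succ, pow_two, suMat_mul, suMat_mul, ← Matrix.mulVec_mulVec, ← Matrix.mulVec_mulVec, mx_apply, mx_apply,
    mx_apply, mxv_cube, suMat_one, Matrix.one_mulVec]

theorem dd_cube : dd ^ 3 = 1 := by
  rw [pow_succ, pow_two, dd, ← dE_add (by decide) (by decide), ← dE_add (by decide) (by decide),
    show (![1, 2, 1, 2] : Fin 4 → ZMod 3) + ![1, 2, 1, 2] + ![1, 2, 1, 2] = 0 by decide, dE_zero]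

/-- The vector separating the two orbit relations. -/
def w1 : V4 := ![om, 0, 1, 0]

theorem w1_facts :
    let d : V4 → V4 := fun x => ![omp 1 * x 0, omp 2 * x 1, omp 1 * x 2, omp 2 * x 3]
    let t : V4 → V4 := fun x => ![x 1 * x 1, x 0 * x 0, x 3 * x 3, x 2 * x 2]
    t (w1 + d w1 + d (d w1)) = w1 + d w1 + d (d w1) ∧ t (w1 + mxv w1 + mxv (mxv w1)) = w1 + mxv w1 + mxv (mxv w1) ∧
      (h4 w1 (d w1 + t (d w1))).im ≠ (h4 w1 (mxv w1 + t (mxv w1))).im := by decide +kernel

theorem mx_mix : mxv ![1, 1 * 1, 0, 0] 2 ≠ 0 ∧ mxv ![0, 0, 1, 1 * 1] 0 ≠ 0 := by decide +kernel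

theorem fix_shape : ∀ v : V4, ![v 1 * v 1, v 0 * v 0, v 3 * v 3, v 2 * v 2] = v →
    v = ![v 0, v 0 * v 0, v 2, v 2 * v 2] ∧ (v 0 ≠ 0 ∨ v 2 ≠ 0 ∨ v = 0) := by decide +kernel

theorem om_pair_key : ∀ a b c d : F4, a + om * b = c + om * d → a + om * om * b = c + om * om * d → b = d := by
  decide +kernel

theorem e_vec_ne : (![1, 0, 0, 0] : V4) ≠ 0 := by decide +kernel

theorem block_gen : ∀ a b : F4, a ≠ 0 → b = 0 ∨ b = a ∨ b = om * a ∨ b = om * a + a := by decide +kernel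

/-- An element of the first block from any vector. -/
theorem block_step : ∀ a b : F4,
    (![omp 1 * a, omp 2 * (a * a), omp 0 * b, omp 0 * (b * b)] : V4) + ![a, a * a, b, b * b] =
      ![omp 2 * a, omp 1 * (a * a), 0, 0] := by decide +kernel

variable {G : Type*} [Group G] [Finite G] {z : G}

namespace Ce

variable (D : Ce z R4 tauF)

local notation "HH" => centralizer ({z} : Set G)

/-- The inner part of the centraliser. -/
def inner : Subgroup G where
  carrier := {a | Commute a z ∧ D.act a ∈ R4.r.range}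
  one_mem' := ⟨Commute.one_left z, by rw [D.act_one]; exact one_mem _⟩
  mul_mem' := fun {a b} ha hb => ⟨ha.1.mul_left hb.1, by rw [D.act_mul _ _ ha.1 hb.1]; exact mul_mem ha.2 hb.2⟩
  inv_mem' := fun {a} ha => ⟨ha.1.inv_left, by rw [D.act_inv ha.1]; exact inv_mem ha.2⟩

omit [Finite G] in
theorem mem_inner {a : G} : a ∈ D.inner ↔ Commute a z ∧ D.act a ∈ R4.r.range := Iff.rfl

omit [Finite G] in
theorem inner_le : D.inner ≤ HH := fun _ ha => mem_centralizer_singleton_iff.2 ha.1.eq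

omit [Finite G] in
theorem out_of_not {a : G} (ha : Commute a z) (hn : a ∉ D.inner) : ∃ u, D.act a = R4.r u * tauF := by
  obtain ⟨u, e | e⟩ := D.act_range a ha
  · exact absurd ⟨ha, u, e.symm⟩ hn
  · exact ⟨u, e⟩

omit [Finite G] in
theorem inner_index : D.inner.relIndex HH = 2 := by
  obtain ⟨a, ha, hat⟩ := D.act_out
  refine index_eq_two_iff.2 ⟨⟨a, mem_centralizer_singleton_iff.2 ha.eq⟩, fun b => ?_⟩
  have hb : Commute (b : G) z := mem_centralizer_singleton_iff.1 b.2
  simp only [mem_subgroupOf, Subgroup.coe_mul]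
  by_cases h : (b : G) ∈ D.inner
  · refine Or.inr ⟨h, fun h' => ?_⟩
    obtain ⟨u, hu⟩ := ((Subgroup.mul_mem_cancel_left D.inner h).1 h').2
    exact tauF_outer.out u (hat.symm.trans hu.symm)
  · refine Or.inl ⟨⟨hb.mul_left ha, ?_⟩, h⟩
    obtain ⟨u, hu⟩ := D.out_of_not hb h
    rw [D.act_mul _ _ hb ha, hu, hat, mul_assoc, tauF_sq, mul_one]
    exact ⟨u, rfl⟩

omit [Finite G] in
theorem inner_conj {g a : G} (hg : Commute g z) (ha : a ∈ D.inner) : g * a * g⁻¹ ∈ D.inner := by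
  obtain ⟨hac, x, hx⟩ := ha
  refine ⟨(hg.mul_left hac).mul_left hg.inv_left, ?_⟩
  rw [D.act_conj hg hac, ← hx]
  obtain ⟨u, e | e⟩ := D.act_range g hg
  · exact ⟨u * x * u⁻¹, by rw [e, map_mul, map_mul, map_inv]⟩
  · obtain ⟨x', hx'⟩ := tauF_outer.norm x
    refine ⟨u * x' * u⁻¹, ?_⟩
    rw [e, _root_.mul_inv_rev, tauF_outer.inv_eq, show R4.r u * tauF * R4.r x * (tauF * (R4.r u)⁻¹) =
      R4.r u * (tauF * R4.r x) * tauF * (R4.r u)⁻¹ by group, hx', map_mul, map_mul, map_inv,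
      show R4.r u * (R4.r x' * tauF) * tauF * (R4.r u)⁻¹ = R4.r u * R4.r x' * (tauF * tauF) * (R4.r u)⁻¹ by group,
      tauF_sq, mul_one]

omit [Finite G] in
theorem fix_of_comm {a j : G} (ha : Commute a z) (hat : D.act a = tauF) (hj : j ∈ D.J) (h : Commute a j) :
    tauF (D.pr j) = D.pr j := by
  have := D.pr_fix ha hj h
  rwa [hat] at this

/-- A standard outer element with square in the centre of the radical. -/
theorem exists_lift : ∃ a, Commute a z ∧ D.act a = tauF ∧ (a * a = 1 ∨ a * a = z) := by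
  obtain ⟨a, ha, hat⟩ := D.act_out
  have hsq : a * a ∈ D.J := (D.act_J _ (ha.mul_left ha)).1 (by rw [D.act_mul _ _ ha ha, hat, tauF_sq])
  have hfix := D.fix_of_comm ha hat hsq ((Commute.refl a).mul_right (Commute.refl a))
  obtain ⟨⟨w, hw⟩, -, -⟩ := tau_half (D.pr (a * a)) hfix
  obtain ⟨j, hj, hjw⟩ := D.pr_surj w
  have hjc := D.J_comm j hj
  refine ⟨j * a, hjc.mul_left ha, by rw [D.act_mul _ _ hjc ha, D.act_of_J hj, one_mul, hat], ?_⟩
  have hmem : j * (a * j * a⁻¹) ∈ D.J := mul_mem hj (D.conj_mem ha hj)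
  have e : j * a * (j * a) = j * (a * j * a⁻¹) * (a * a) := by group
  rw [e]
  refine (D.pr_zero _ (mul_mem hmem hsq)).1 ?_
  rw [D.pr_mul _ hmem _ hsq, D.pr_mul _ hj _ (D.conj_mem ha hj), D.pr_act a ha j hj, hat, hjw, tauF_apply, hw,
    two_self]

variable {a : G}

theorem conj_kk (ha : Commute a z) (hat : D.act a = tauF) (h2 : a * a = 1 ∨ a * a = z) {x : U4}
    (hx : tauF * R4.r x = R4.r x * tauF) {c : G} (hc : Commute c z) (hcx : D.act c = R4.r x) :
    ∃ k ∈ D.J, c * a * c⁻¹ = a * k ∧ tauF (D.pr k) = D.pr k := by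
  have hcac : Commute (c * a * c⁻¹) z := (hc.mul_left ha).mul_left hc.inv_left
  set k := a⁻¹ * (c * a * c⁻¹) with hk
  have hkJ : k ∈ D.J := (D.act_J _ (ha.inv_left.mul_left hcac)).1 (by
    rw [D.act_mul _ _ ha.inv_left hcac, D.act_conj hc ha, D.act_inv ha, hat, hcx, ← hx, mul_inv_cancel_right,
      inv_mul_cancel])
  refine ⟨k, hkJ, by rw [hk, mul_inv_cancel_left], ?_⟩
  have hsq : c * (a * a) * c⁻¹ = a * a := by
    rcases h2 with e | e <;> rw [e]
    · group
    · exact mul_inv_eq_iff_eq_mul.2 hc.eq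
  have e1 : a⁻¹ * k * a * k = 1 := by
    rw [hk, show a⁻¹ * (a⁻¹ * (c * a * c⁻¹)) * a * (a⁻¹ * (c * a * c⁻¹)) = (a * a)⁻¹ * (c * (a * a) * c⁻¹) by group,
      hsq, inv_mul_cancel]
  have hm : a⁻¹ * k * a ∈ D.J := by
    have := D.conj_mem ha.inv_left hkJ
    rwa [inv_inv] at this
  have e2 := D.pr_mul _ hm _ hkJ
  rw [e1, D.pr_one] at e2
  have e3 := D.pr_act _ ha.inv_left k hkJ
  rw [inv_inv, D.act_inv ha, hat, tauF_outer.inv_eq] at e3
  rw [e3] at e2
  exact eq_of_sum_zero e2.symm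

omit [Finite G] in
theorem fix_commute {j k : G} (hj : j ∈ D.J) (hk : k ∈ D.J) (hjf : tauF (D.pr j) = D.pr j)
    (hkf : tauF (D.pr k) = D.pr k) : Commute j k :=
  (D.comm_iff hj hk).2 (by rw [R4_B]; exact (tau_half _ hjf).2.2 _ hkf)

omit [Finite G] in
theorem fix_sq {j : G} (hj : j ∈ D.J) (hjf : tauF (D.pr j) = D.pr j) : j * j = 1 :=
  (D.invol_iff hj).2 (by rw [R4_q]; exact (tau_half _ hjf).2.1)

/-- The outer element centralises everything over its fixed space. -/
theorem cent_fix (ha : Commute a z) (hat : D.act a = tauF) (h2 : a * a = 1 ∨ a * a = z) {j : G} (hj : j ∈ D.J)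
    (hjf : tauF (D.pr j) = D.pr j) : Commute a j := by
  obtain ⟨c, hc, hcx⟩ := D.act_surj dd
  obtain ⟨k, hk, hcak, hkf⟩ := D.conj_kk ha hat h2 tau_dd hc hcx
  obtain ⟨w, hw, hdw, hsum⟩ := dd_fix (D.pr j) hjf
  obtain ⟨i, hi, hiw⟩ := D.pr_surj w
  have hif : tauF (D.pr i) = D.pr i := by rw [hiw]; exact hw
  set i' := c * i * c⁻¹ with hi'
  have hi'J : i' ∈ D.J := D.conj_mem hc hi
  have hi'p : D.pr i' = ![omp 1 * w 0, omp 2 * w 1, omp 1 * w 2, omp 2 * w 3] := by
    rw [hi', D.pr_act c hc i hi, hcx, R4_r, dd_vec, hiw]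
  have hi'f : tauF (D.pr i') = D.pr i' := by
    rw [hi'p, tauF_apply]
    exact hdw
  have haiJ : a * i * a⁻¹ ∈ D.J := D.conj_mem ha hi
  obtain ⟨ε, hεd, hε⟩ : ∃ ε, (ε = 1 ∨ ε = z) ∧ a * i * a⁻¹ = i * ε := by
    rcases D.eq_of_pr hi haiJ (by rw [D.pr_act a ha i hi, hat, hif]) with e | e
    · exact ⟨1, Or.inl rfl, by rw [mul_one]; exact e⟩
    · exact ⟨z, Or.inr rfl, e⟩
  have hεc : c * ε * c⁻¹ = ε := by
    rcases hεd with rfl | rfl
    · group
    · exact mul_inv_eq_iff_eq_mul.2 hc.eq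
  have hε2 : ε * ε = 1 := by
    rcases hεd with rfl | rfl
    exacts [one_mul 1, D.z_sq]
  have hεJ : ∀ y ∈ D.J, Commute ε y := fun y hy => by
    rcases hεd with rfl | rfl
    exacts [Commute.one_left y, (D.J_comm y hy).symm]
  have e1 : a * i' * a⁻¹ = i' * ε := by
    have hki : k * i' * k⁻¹ = i' := mul_inv_eq_iff_eq_mul.2 (D.fix_commute hk hi'J hkf hi'f).eq
    calc a * i' * a⁻¹ = a * (k * i' * k⁻¹) * a⁻¹ := by rw [hki]
      _ = (a * k) * i' * (a * k)⁻¹ := by group
      _ = c * (a * i * a⁻¹) * c⁻¹ := by rw [← hcak, hi']; group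
      _ = i' * (c * ε * c⁻¹) := by rw [hε, hi']; group
      _ = i' * ε := by rw [hεc]
  have e2 : a * (i * i') * a⁻¹ = i * i' := by
    calc a * (i * i') * a⁻¹ = (a * i * a⁻¹) * (a * i' * a⁻¹) := by group
      _ = i * (ε * i') * ε := by rw [hε, e1]; group
      _ = i * i' * (ε * ε) := by rw [(hεJ i' hi'J).eq]; group
      _ = i * i' := by rw [hε2, mul_one]
  have hc2 : Commute a (i * i') := mul_inv_eq_iff_eq_mul.1 e2
  rcases D.eq_of_pr (mul_mem hi hi'J) hj (by rw [D.pr_mul _ hi _ hi'J, hiw, hi'p, hsum]) with e | e <;> rw [e]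
  exacts [hc2, hc2.mul_right ha]

omit [Finite G] in
/-- An element acting trivially on the fixed space of the standard outer element. -/
theorem act_fix_cases {w : G} (hw : Commute w z) (h : ∀ v, tauF v = v → D.act w v = v) :
    D.act w = 1 ∨ D.act w = tauF := by
  obtain ⟨x, hx | hx⟩ := D.act_range w hw
  all_goals
    have hx1 : x = 1 := su_ext fun v => by
      obtain ⟨p, q, hp, hq, rfl⟩ := fix_basis v
      have h1 : suMat x *ᵥ p = p := by
        have := h p hp
        rw [hx] at this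
        first
          | exact this
          | (rw [LinearEquiv.mul_apply, show tauF p = p from hp] at this; exact this)
      have h2 : suMat x *ᵥ q = q := by
        have := h q hq
        rw [hx] at this
        first
          | exact this
          | (rw [LinearEquiv.mul_apply, show tauF q = q from hq] at this; exact this)
      rw [Matrix.mulVec_add, Matrix.mulVec_smul, h1, h2, suMat_one, Matrix.one_mulVec]
  · exact Or.inl (by rw [hx, hx1, map_one])
  · exact Or.inr (by rw [hx, hx1, map_one, one_mul])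

/-- An outer involution is centralised by a small part of the radical. -/
theorem cJ_lower {u : G} (hu : Commute u z) (h2 : D.act u * D.act u = 1) :
    16 ≤ Nat.card (D.cJ u) := by
  classical
  set f := D.act u
  let K : Subgroup G :=
    { carrier := {j | j ∈ D.J ∧ f (D.pr j) = D.pr j}
      one_mem' := ⟨one_mem _, by rw [D.pr_one, map_zero]⟩
      mul_mem' := fun {i j} hi hj => ⟨mul_mem hi.1 hj.1, by rw [D.pr_mul _ hi.1 _ hj.1, map_add, hi.2, hj.2]⟩
      inv_mem' := fun {i} hi => ⟨inv_mem hi.1, by rw [D.pr_inv hi.1, hi.2]⟩ }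
  have hval : ∀ j : K, u * j * u⁻¹ * (j : G)⁻¹ = 1 ∨ u * j * u⁻¹ * (j : G)⁻¹ = z := fun j => by
    rcases D.eq_of_pr j.2.1 (D.conj_mem hu j.2.1) (by rw [D.pr_act u hu _ j.2.1]; exact j.2.2.symm) with e | e <;>
      rw [e]
    · left; group
    · right; rw [(D.J_comm _ j.2.1).eq, mul_inv_cancel_right]
  let φ : K →* zpowers z :=
    { toFun := fun j => ⟨u * j * u⁻¹ * (j : G)⁻¹, by
        rcases hval j with e | e <;> rw [e]
        exacts [one_mem _, mem_zpowers z]⟩
      map_one' := Subtype.ext (by simp)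
      map_mul' := fun i j => Subtype.ext (by
        show u * (i * j : G) * u⁻¹ * (i * j : G)⁻¹ = u * i * u⁻¹ * (i : G)⁻¹ * (u * j * u⁻¹ * (j : G)⁻¹)
        have hε : ∀ y ∈ D.J, Commute (u * j * u⁻¹ * (j : G)⁻¹) y := fun y hy => by
          rcases hval j with e | e <;> rw [e]
          exacts [Commute.one_left y, (D.J_comm y hy).symm]
        calc u * (i * j : G) * u⁻¹ * (i * j : G)⁻¹
            = u * i * u⁻¹ * ((u * j * u⁻¹ * (j : G)⁻¹) * (i : G)⁻¹) := by group
          _ = u * i * u⁻¹ * ((i : G)⁻¹ * (u * j * u⁻¹ * (j : G)⁻¹)) := by rw [(hε _ (inv_mem i.2.1)).eq]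
          _ = _ := by group) }
  have hker : Nat.card φ.ker = Nat.card (D.cJ u) := Nat.card_congr
    { toFun := fun j => ⟨j.1.1, D.mem_cJ.2 ⟨j.1.2.1, by
        have h : u * j.1.1 * u⁻¹ * (j.1.1)⁻¹ = 1 := congrArg Subtype.val (MonoidHom.mem_ker.1 j.2)
        exact (mul_inv_eq_iff_eq_mul.1 (mul_inv_eq_one.1 h)).symm⟩⟩
      invFun := fun x => ⟨⟨x.1, (D.mem_cJ.1 x.2).1, D.pr_fix hu (D.mem_cJ.1 x.2).1 (D.mem_cJ.1 x.2).2.symm⟩,
        MonoidHom.mem_ker.2 (Subtype.ext (by
          show u * x.1 * u⁻¹ * (x.1)⁻¹ = 1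
          rw [← (D.mem_cJ.1 x.2).2.eq]; group))⟩
      left_inv := fun j => rfl
      right_inv := fun x => rfl }
  have h1 := Subgroup.card_eq_card_quotient_mul_card_subgroup φ.ker
  have hr : Nat.card (↥K ⧸ φ.ker) ≤ 2 := by
    rw [Nat.card_congr (QuotientGroup.quotientKerEquivRange φ).toEquiv]
    refine (Subgroup.card_le_card_group _).trans ?_
    rw [Nat.card_zpowers, D.orderOf_z]
  have hK : 32 ≤ Nat.card K := by
    let F := {v : V4 // f v = v}
    have hF : 256 ≤ Nat.card F * Nat.card F := by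
      let g : V4 →ₗ[ZMod 2] V4 := f.toLinearMap + LinearMap.id
      have hle : Nat.card (LinearMap.range g) ≤ Nat.card F := Nat.card_le_card_of_injective
        (fun v : LinearMap.range g => (⟨v.1, by
          obtain ⟨w, hw⟩ := v.2
          have hw' : f w + w = v.1 := hw
          rw [← hw', map_add, ← LinearEquiv.mul_apply, h2]
          show w + f w = _
          rw [add_comm]⟩ : F)) fun a b e => Subtype.ext (congrArg (fun x : F => x.1) e)
      have hker' : Nat.card (LinearMap.ker g) = Nat.card F := Nat.card_congr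
        (Equiv.subtypeEquivRight fun v => by
          rw [LinearMap.mem_ker]
          show f v + v = 0 ↔ f v = v
          exact ⟨eq_of_sum_zero, fun e => by rw [e, two_self]⟩)
      have hc := Submodule.card_eq_card_quotient_mul_card (LinearMap.ker g)
      rw [Nat.card_congr g.quotKerEquivRange.toEquiv, hker', R4.card] at hc
      rw [hc]
      exact Nat.mul_le_mul_left _ hle
    have hKF : Nat.card F * 2 ≤ Nat.card K := by
      have hs : ∀ v : F, ∃ j, j ∈ D.J ∧ D.pr j = v.1 := fun v => by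
        obtain ⟨j, hj, e⟩ := D.pr_surj v.1; exact ⟨j, hj, e⟩
      choose j hjJ hjp using hs
      have hjz : ∀ v, D.pr (j v * z) = v.1 := fun v => by
        rw [D.pr_mul _ (hjJ v) _ D.z_mem, hjp, D.pr_z, add_zero]
      let g : F × Fin 2 → K := fun p => if p.2 = 0 then ⟨j p.1, hjJ _, by rw [hjp]; exact p.1.2⟩
        else ⟨j p.1 * z, mul_mem (hjJ _) D.z_mem, by rw [hjz]; exact p.1.2⟩
      have hg : Function.Injective g := fun p p' e => by
        obtain ⟨v, i⟩ := p
        obtain ⟨v', i'⟩ := p'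
        have e' := congrArg (fun x : K => D.pr (x : G)) e
        have hv : v = v' := by
          fin_cases i <;> fin_cases i' <;> simp [g, hjz, hjp] at e' <;> exact Subtype.ext e'
        subst hv
        have e'' := congrArg (fun x : K => (x : G)) e
        fin_cases i <;> fin_cases i' <;> simp [g, D.z_ne] at e'' ⊢
      have := Nat.card_le_card_of_injective g hg
      rwa [Nat.card_prod, Nat.card_fin] at this
    by_contra h
    have h15 : Nat.card F ≤ 15 := by omega
    have := Nat.mul_le_mul h15 h15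
    omega
  rw [hker] at h1
  have := Nat.mul_le_mul_right (Nat.card (D.cJ u)) hr
  omega

/-- The standard outer involution is no conjugate of the centre. -/
theorem not_member (ha : Commute a z) (hat : D.act a = tauF) (h2 : a * a = 1) (g : G) : g * z * g⁻¹ ≠ a := by
  intro hga
  subst hga
  set u := g * z * g⁻¹ with hu
  set Du := D.conj g
  have hnot : u ∉ D.J := fun h => tauF_outer.out 1 (hat.symm.trans (by rw [D.act_of_J h, map_one]))
  have hne : u ≠ z := fun e => hnot (by rw [e]; exact D.z_mem)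
  have hzu : z ∉ Du.J := by
    intro hz
    have e : g⁻¹ * (g * z * g⁻¹) * g⁻¹⁻¹ = z := by group
    have h := Du.no_fusion (g := g⁻¹) (by rw [e]; exact hz)
    rw [e] at h
    exact hne h.symm
  have hfix : ∀ v ∈ D.meetV Du, tauF v = v := by
    rintro v ⟨x, hx, hx', rfl⟩
    exact D.fix_of_comm ha hat hx (Du.J_comm x hx').symm
  -- the images of the radical
  have hdisp : ∀ j ∈ D.J, j * u * j⁻¹ * u ∈ D.J ∧ D.pr (j * u * j⁻¹ * u) = D.pr j + tauF (D.pr j) := fun j hj => by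
    have e : j * u * j⁻¹ * u = j * (u * j⁻¹ * u⁻¹) := by rw [inv_eq_of_mul_eq_one_right h2]; group
    rw [e]
    have hm := D.conj_mem ha (inv_mem hj)
    exact ⟨mul_mem hj hm, by rw [D.pr_mul _ hj _ hm, D.pr_act u ha _ (inv_mem hj), D.pr_inv hj, hat]⟩
  -- lifts of order three
  have hlift : ∀ x : U4, x ^ 3 = 1 → tauF * R4.r x = R4.r x * tauF →
      ∃ c, Commute c z ∧ Commute c u ∧ D.act c = R4.r x := by
    intro x hx3 hx
    obtain ⟨c, hc, hcx⟩ := D.act_surj x
    obtain ⟨k, hk, hck, hkf⟩ := D.conj_kk ha hat (Or.inl h2) hx hc hcx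
    obtain ⟨⟨w, hw⟩, -, -⟩ := tau_half _ hkf
    obtain ⟨j, hj, hjw⟩ := D.pr_surj w
    have hd := hdisp j hj
    have hcu : c * u * c⁻¹ = j * u * j⁻¹ ∨ c * u * c⁻¹ = j * u * j⁻¹ * z := by
      have hku : u * k = k * u := (D.cent_fix ha hat (Or.inl h2) hk hkf).eq
      have ej : j * u * j⁻¹ = j * u * j⁻¹ * u * u := by rw [mul_assoc _ u u, h2, mul_one]
      rcases D.eq_of_pr hd.1 hk (by rw [hd.2, hjw, tauF_apply, hw]) with e | e
      · left; rw [hck, hku, e, ← ej]
      · right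
        rw [hck, hku, e, mul_assoc _ z u, ← ha.eq, ← mul_assoc, ← ej]
    set c' := j⁻¹ * c
    have hc'z : Commute c' z := (D.J_comm j hj).inv_left.mul_left hc
    have hact : D.act c' = R4.r x := by
      rw [D.act_mul _ _ (D.J_comm j hj).inv_left hc, D.act_of_J (inv_mem hj), one_mul, hcx]
    rcases hcu with e | e
    · refine ⟨c', hc'z, mul_inv_eq_iff_eq_mul.1 ?_, hact⟩
      show j⁻¹ * c * u * (j⁻¹ * c)⁻¹ = u
      rw [show j⁻¹ * c * u * (j⁻¹ * c)⁻¹ = j⁻¹ * (c * u * c⁻¹) * j by group, e]; group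
    exfalso
    have e1 : c' * u * c'⁻¹ = u * z := by
      show j⁻¹ * c * u * (j⁻¹ * c)⁻¹ = u * z
      rw [show j⁻¹ * c * u * (j⁻¹ * c)⁻¹ = j⁻¹ * (c * u * c⁻¹) * j by group, e,
        show j⁻¹ * (j * u * j⁻¹ * z) * j = u * (j⁻¹ * (z * j)) by group, ← (D.J_comm j hj).eq, inv_mul_cancel_left]
    have hzc : c' * z * c'⁻¹ = z := mul_inv_eq_iff_eq_mul.2 hc'z.eq
    have e2 : c' * c' * u * (c' * c')⁻¹ = u := by
      rw [show c' * c' * u * (c' * c')⁻¹ = c' * (c' * u * c'⁻¹) * c'⁻¹ by group, e1,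
        show c' * (u * z) * c'⁻¹ = c' * u * c'⁻¹ * (c' * z * c'⁻¹) by group, e1, hzc, mul_assoc, D.z_sq, mul_one]
    have e3 : c' * c' * c' * u * (c' * c' * c')⁻¹ = u * z := by
      rw [show c' * c' * c' * u * (c' * c' * c')⁻¹ = c' * (c' * c' * u * (c' * c')⁻¹) * c'⁻¹ by group, e2, e1]
    have hk3 : c' * c' * c' ∈ D.J := (D.act_J _ ((hc'z.mul_left hc'z).mul_left hc'z)).1 (by
      rw [D.act_mul _ _ (hc'z.mul_left hc'z) hc'z, D.act_mul _ _ hc'z hc'z, hact, ← map_mul, ← map_mul,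
        ← pow_two, ← pow_succ, hx3, map_one])
    generalize c' * c' * c' = y at e3 hk3
    have hdy := hdisp y hk3
    have hyz : y * u * y⁻¹ * u = z := by rw [e3, mul_assoc u z u, ← ha.eq, ← mul_assoc, h2, one_mul]
    have hyf : tauF (D.pr y) = D.pr y := by
      have h := hdy.2
      rw [hyz, D.pr_z] at h
      exact (eq_of_sum_zero h.symm).symm
    have hyu : y * u * y⁻¹ = u := mul_inv_eq_iff_eq_mul.2 (D.cent_fix ha hat (Or.inl h2) hk3 hyf).eq.symm
    rw [hyu] at e3
    exact D.z_ne (mul_eq_left.1 e3.symm)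
  by_cases hbot : D.meetV Du = ⊥
  · -- no common part
    have hmem : ∀ {r}, r ∈ Du.cJ z → r ∈ D.J → r = 1 := fun {r} hr hrJ => by
      have hrJ' := (Du.mem_cJ.1 hr).1
      have h0 : D.pr r ∈ D.meetV Du := ⟨r, hrJ, hrJ', rfl⟩
      rw [hbot, AddSubgroup.mem_bot] at h0
      exact ((D.pr_zero r hrJ).1 h0).resolve_right fun e => hzu (e ▸ hrJ')
    have hinj : ∀ r r', r ∈ Du.cJ z → r' ∈ Du.cJ z → D.act r = D.act r' → r = r' := fun r r' hr hr' e => by
      have hrz := (Du.mem_cJ.1 hr).2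
      have hr'z := (Du.mem_cJ.1 hr').2
      exact inv_mul_eq_one.1 (hmem (mul_mem (inv_mem hr) hr') ((D.act_J _ (hrz.inv_left.mul_left hr'z)).1 (by
        rw [D.act_mul _ _ hrz.inv_left hr'z, D.act_inv hrz, e, inv_mul_cancel])))
    have hcases : ∀ r ∈ Du.cJ z, D.act r = 1 ∨ D.act r = tauF := fun r hr => by
      obtain ⟨hrJ, hrz⟩ := Du.mem_cJ.1 hr
      refine D.act_fix_cases hrz fun v hv => ?_
      obtain ⟨x, hx, rfl⟩ := D.pr_surj v
      have hxu : Commute x u := (D.cent_fix ha hat (Or.inl h2) hx hv).symm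
      have hm : r * x * r⁻¹ * x⁻¹ ∈ D.J := mul_mem (D.conj_mem hrz hx) (inv_mem hx)
      have hm' : r * x * r⁻¹ * x⁻¹ ∈ Du.J := by
        rw [show r * x * r⁻¹ * x⁻¹ = r * (x * r⁻¹ * x⁻¹) by group]
        exact mul_mem hrJ (Du.conj_mem hxu (inv_mem hrJ))
      have h0 : D.pr (r * x * r⁻¹ * x⁻¹) ∈ D.meetV Du := ⟨_, hm, hm', rfl⟩
      rw [hbot, AddSubgroup.mem_bot, D.pr_mul _ (D.conj_mem hrz hx) _ (inv_mem hx), D.pr_act r hrz x hx,
        D.pr_inv hx] at h0
      exact eq_of_sum_zero h0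
    have h16 := Du.cJ_lower (u := z) ha.symm (by
      have hzz : Commute z (g * z * g⁻¹) := ha.symm
      rw [← Du.act_mul z z hzz hzz, D.z_sq, Du.act_one])
    have hle : Nat.card (Du.cJ z) ≤ 2 := by
      classical
      have := Nat.card_le_card_of_injective (fun r : Du.cJ z => decide (D.act r = 1)) fun r r' e => by
        refine Subtype.ext (hinj _ _ r.2 r'.2 ?_)
        rcases hcases _ r.2 with h | h <;> rcases hcases _ r'.2 with h' | h' <;> simp [h, h'] at e ⊢
        all_goals first | exact e | exact e.symm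
      simpa using this
    omega
  -- the common part covers the fixed space
  have hinv : ∀ x : U4, x ^ 3 = 1 → tauF * R4.r x = R4.r x * tauF → ∀ v ∈ D.meetV Du,
      suMat x *ᵥ v ∈ D.meetV Du := fun x h3 hx v hv => by
    obtain ⟨c, hcz, hcu, hcx⟩ := hlift x h3 hx
    have := D.meetV_inv Du hcz hcu hv
    rwa [hcx, R4_r] at this
  have hdA : (dE ![1, 2, 0, 0]) ^ 3 = 1 ∧ tauF * R4.r (dE ![1, 2, 0, 0]) = R4.r (dE ![1, 2, 0, 0]) * tauF := by
    constructor
    · rw [pow_succ, pow_two, ← dE_add (by decide) (by decide), ← dE_add (by decide) (by decide),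
        show (![1, 2, 0, 0] : Fin 4 → ZMod 3) + ![1, 2, 0, 0] + ![1, 2, 0, 0] = 0 by decide, dE_zero]
    · refine LinearEquiv.ext fun x => ?_
      show tauF (suMat (dE ![1, 2, 0, 0]) *ᵥ x) = suMat (dE ![1, 2, 0, 0]) *ᵥ tauF x
      rw [dE_apply (by decide), dE_apply (by decide), tauF_apply, tauF_apply]
      have h : ∀ a : F4, omp 2 * a * (omp 2 * a) = omp 1 * (a * a) ∧ omp 1 * a * (omp 1 * a) = omp 2 * (a * a) := by
        decide +kernel
      funext i
      fin_cases i <;> simp [h, omp_vals.1]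
  have hdB : (dE ![0, 0, 1, 2]) ^ 3 = 1 ∧ tauF * R4.r (dE ![0, 0, 1, 2]) = R4.r (dE ![0, 0, 1, 2]) * tauF := by
    constructor
    · rw [pow_succ, pow_two, ← dE_add (by decide) (by decide), ← dE_add (by decide) (by decide),
        show (![0, 0, 1, 2] : Fin 4 → ZMod 3) + ![0, 0, 1, 2] + ![0, 0, 1, 2] = 0 by decide, dE_zero]
    · refine LinearEquiv.ext fun x => ?_
      show tauF (suMat (dE ![0, 0, 1, 2]) *ᵥ x) = suMat (dE ![0, 0, 1, 2]) *ᵥ tauF x
      rw [dE_apply (by decide), dE_apply (by decide), tauF_apply, tauF_apply]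
      have h : ∀ a : F4, omp 2 * a * (omp 2 * a) = omp 1 * (a * a) ∧ omp 1 * a * (omp 1 * a) = omp 2 * (a * a) := by
        decide +kernel
      funext i
      fin_cases i <;> simp [h, omp_vals.1]
  set M := D.meetV Du with hM
  have hA : ∀ v ∈ M, v 0 ≠ 0 → ∀ b : F4, ![b, b * b, 0, 0] ∈ M := by
    intro v hv h0 b
    have hs := (fix_shape v (hfix v hv)).1
    have h1 := hinv _ hdA.1 hdA.2 v hv
    have h2 := hinv _ hdA.1 hdA.2 _ h1
    have m1 := M.add_mem h1 hv
    rw [hs, dE_apply (by decide)] at m1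
    generalize v 0 = p at h0 m1
    generalize v 2 = q at m1
    rw [show (fun i => omp ((![1, 2, 0, 0] : Fin 4 → ZMod 3) i) * (![p, p * p, q, q * q] : V4) i) =
      ![omp 1 * p, omp 2 * (p * p), omp 0 * q, omp 0 * (q * q)] by funext i; fin_cases i <;> simp,
      block_step] at m1
    have m2 := hinv _ hdA.1 hdA.2 _ m1
    have m3 := hinv _ hdA.1 hdA.2 _ m2
    have key : ∀ b p : F4, p ≠ 0 → (![b, b * b, 0, 0] : V4) = 0 ∨
        (![b, b * b, 0, 0] : V4) = ![omp 2 * p, omp 1 * (p * p), 0, 0] ∨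
        (![b, b * b, 0, 0] : V4) = ![omp 1 * (omp 2 * p), omp 2 * (omp 1 * (p * p)), 0, 0] ∨
        (![b, b * b, 0, 0] : V4) = ![omp 1 * (omp 1 * (omp 2 * p)), omp 2 * (omp 2 * (omp 1 * (p * p))), 0, 0] := by
      decide +kernel
    have hv1 : ∀ r s : F4, suMat (dE ![1, 2, 0, 0]) *ᵥ (![r, s, 0, 0] : V4) = ![omp 1 * r, omp 2 * s, 0, 0] :=
      fun r s => by rw [dE_apply (by decide)]; funext i; fin_cases i <;> simp
    rcases key b p h0 with e | e | e | e <;> rw [e]
    · exact M.zero_mem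
    · exact m1
    · rw [hv1] at m2; exact m2
    · rw [hv1, hv1] at m3; exact m3
  have hB : ∀ v ∈ M, v 2 ≠ 0 → ∀ b : F4, ![0, 0, b, b * b] ∈ M := by
    intro v hv h0 b
    have hs := (fix_shape v (hfix v hv)).1
    have h1 := hinv _ hdB.1 hdB.2 v hv
    have m1 := M.add_mem h1 hv
    rw [hs, dE_apply (by decide)] at m1
    generalize v 0 = q at m1
    generalize v 2 = p at h0 m1
    have step : ∀ q p : F4, (![omp 0 * q, omp 0 * (q * q), omp 1 * p, omp 2 * (p * p)] : V4) + ![q, q * q, p, p * p] =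
        ![0, 0, omp 2 * p, omp 1 * (p * p)] := by decide +kernel
    rw [show (fun i => omp ((![0, 0, 1, 2] : Fin 4 → ZMod 3) i) * (![q, q * q, p, p * p] : V4) i) =
      ![omp 0 * q, omp 0 * (q * q), omp 1 * p, omp 2 * (p * p)] by funext i; fin_cases i <;> simp,
      step] at m1
    have m2 := hinv _ hdB.1 hdB.2 _ m1
    have m3 := hinv _ hdB.1 hdB.2 _ m2
    have key : ∀ b p : F4, p ≠ 0 → (![0, 0, b, b * b] : V4) = 0 ∨
        (![0, 0, b, b * b] : V4) = ![0, 0, omp 2 * p, omp 1 * (p * p)] ∨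
        (![0, 0, b, b * b] : V4) = ![0, 0, omp 1 * (omp 2 * p), omp 2 * (omp 1 * (p * p))] ∨
        (![0, 0, b, b * b] : V4) = ![0, 0, omp 1 * (omp 1 * (omp 2 * p)), omp 2 * (omp 2 * (omp 1 * (p * p)))] := by
      decide +kernel
    have hv1 : ∀ r s : F4, suMat (dE ![0, 0, 1, 2]) *ᵥ (![0, 0, r, s] : V4) = ![0, 0, omp 1 * r, omp 2 * s] :=
      fun r s => by rw [dE_apply (by decide)]; funext i; fin_cases i <;> simp
    rcases key b p h0 with e | e | e | e <;> rw [e]
    · exact M.zero_mem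
    · exact m1
    · rw [hv1] at m2; exact m2
    · rw [hv1, hv1] at m3; exact m3
  have hmx := hinv mx mx_cube tau_mx
  have hall : (∀ b : F4, ![b, b * b, 0, 0] ∈ M) ∧ ∀ b : F4, ![0, 0, b, b * b] ∈ M := by
    obtain ⟨v, hv, hv0⟩ : ∃ v ∈ M, v ≠ 0 := by
      by_contra h
      push Not at h
      exact hbot ((AddSubgroup.eq_bot_iff_forall _).2 h)
    rcases (fix_shape v (hfix v hv)).2 with h | h | h
    · have hA' := hA v hv h
      have hm := hmx _ (hA' 1)
      rw [mx_apply] at hm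
      exact ⟨hA', hB _ hm mx_mix.1⟩
    · have hB' := hB v hv h
      have hm := hmx _ (hB' 1)
      rw [mx_apply] at hm
      exact ⟨hA _ hm mx_mix.2, hB'⟩
    · exact absurd h hv0
  have hfull : ∀ v : V4, tauF v = v → v ∈ M := fun v hv => by
    rw [(fix_shape v hv).1, show (![v 0, v 0 * v 0, v 2, v 2 * v 2] : V4) =
      ![v 0, v 0 * v 0, 0, 0] + ![0, 0, v 2, v 2 * v 2] by funext i; fin_cases i <;> simp]
    exact M.add_mem (hall.1 _) (hall.2 _)
  -- the indicator of the common part on the images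
  have hdich : ∀ j ∈ D.J, j * u * j⁻¹ * u ∈ Du.J ∨ j * u * j⁻¹ * u * z ∈ Du.J := fun j hj => by
    obtain ⟨x, hx, hx', hxp⟩ := hfull (D.pr (j * u * j⁻¹ * u)) (by
      rw [(hdisp j hj).2, map_add, show tauF (tauF (D.pr j)) = D.pr j from tauF.left_inv _, add_comm])
    rcases D.eq_of_pr hx (hdisp j hj).1 hxp with e | e
    · exact Or.inl (e ▸ hx')
    · exact Or.inr (by rw [e, mul_assoc x z z, D.z_sq, mul_one]; exact hx')
  classical
  let χ : G → ZMod 2 := fun j => if j * u * j⁻¹ * u ∈ Du.J then 0 else 1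
  have hzd : ∀ y, y ∈ Du.J → y * z ∉ Du.J := fun y hy h => hzu (by
    have := mul_mem (inv_mem hy) h
    rwa [inv_mul_cancel_left] at this)
  have hval : ∀ j ∈ D.J, ∃ y ∈ Du.J, j * u * j⁻¹ * u = y * (if χ j = 0 then 1 else z) := fun j hj => by
    by_cases h : j * u * j⁻¹ * u ∈ Du.J
    · exact ⟨_, h, by simp [χ, h]⟩
    · refine ⟨_, (hdich j hj).resolve_left h, ?_⟩
      rw [show χ j = 1 from if_neg h, if_neg one_ne_zero, mul_assoc (j * u * j⁻¹ * u) z z, D.z_sq, mul_one]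
  have hpz : ∀ e : ZMod 2, Commute (if e = 0 then (1 : G) else z) z := fun e => by
    split_ifs
    exacts [Commute.one_left z, Commute.refl z]
  have hmulZ : ∀ e e' : ZMod 2, (if e = 0 then (1 : G) else z) * (if e' = 0 then 1 else z) =
      if e + e' = 0 then 1 else z := fun e e' => by
    rcases (by decide : ∀ c : ZMod 2, c = 0 ∨ c = 1) e with rfl | rfl <;>
      rcases (by decide : ∀ c : ZMod 2, c = 0 ∨ c = 1) e' with rfl | rfl <;>
      simp [show (1 : ZMod 2) + 1 = 0 by decide, D.z_sq]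
  have hiff : ∀ j (e : ZMod 2) (y : G), y ∈ Du.J → j * u * j⁻¹ * u = y * (if e = 0 then 1 else z) → χ j = e := by
    intro j e y hy he
    rcases (by decide : ∀ c : ZMod 2, c = 0 ∨ c = 1) e with rfl | rfl
    · simp only [χ]; rw [if_pos (by rw [he, if_pos rfl, mul_one]; exact hy)]
    · simp only [χ]; rw [if_neg (by rw [he, if_neg one_ne_zero]; exact hzd y hy)]
  have hadd : ∀ i ∈ D.J, ∀ j ∈ D.J,
      χ (i * j) = χ i + χ j + R4.B (D.pr i) (D.pr j + tauF (D.pr j)) := by
    intro i hi j hj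
    obtain ⟨yi, hyi, ei⟩ := hval i hi
    obtain ⟨yj, hyj, ej⟩ := hval j hj
    obtain ⟨hdj, hdjp⟩ := hdisp j hj
    have hzi : Commute z i := (D.J_comm i hi).symm
    set β := R4.B (D.pr i) (D.pr j + tauF (D.pr j)) with hβ
    have ecomm : i * (j * u * j⁻¹ * u) * i⁻¹ = (j * u * j⁻¹ * u) * (if β = 0 then 1 else z) := by
      by_cases hb : β = 0
      · rw [if_pos hb, mul_one]
        refine mul_inv_eq_iff_eq_mul.2 ((D.comm_iff hi hdj).2 ?_).eq
        rw [hdjp]; exact hb
      · rw [if_neg hb, D.comm_z hi hdj (by rw [hdjp]; exact hb)]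
    have hεu : ∀ e : ZMod 2, Commute (if e = 0 then (1 : G) else z) u := fun e => by
      split_ifs
      exacts [Commute.one_left u, ha.symm]
    have hyju : Commute yj u := Du.J_comm yj hyj
    have hεy : ∀ e : ZMod 2, Commute (if e = 0 then (1 : G) else z) yi := fun e => by
      split_ifs
      · exact Commute.one_left yi
      · have hyiz : Commute yi z := by
          have h1 : Commute (i * u * i⁻¹ * u) z := D.J_comm _ (hdisp i hi).1
          rw [ei] at h1
          have h2' := h1.mul_left (hpz (χ i))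
          rwa [mul_assoc, hmulZ, show χ i + χ i = 0 from (by decide : ∀ c : ZMod 2, c + c = 0) _, if_pos rfl,
            mul_one] at h2'
        exact hyiz.symm
    refine hiff _ _ (yj * yi) (mul_mem hyj hyi) ?_
    calc i * j * u * (i * j)⁻¹ * u = (i * (j * u * j⁻¹ * u) * i⁻¹) * (i * u⁻¹ * i⁻¹ * u) := by group
      _ = (yj * (if χ j = 0 then 1 else z)) * (if β = 0 then 1 else z) * (yi * (if χ i = 0 then 1 else z)) := by
          rw [ecomm, ej, inv_eq_of_mul_eq_one_right h2, ei]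
      _ = yj * ((if χ j = 0 then 1 else z) * (if β = 0 then 1 else z) * yi) * (if χ i = 0 then 1 else z) := by
          group
      _ = yj * yi * ((if χ j = 0 then 1 else z) * (if β = 0 then 1 else z) * (if χ i = 0 then 1 else z)) := by
          rw [((hεy _).mul_left (hεy _)).eq]; group
      _ = yj * yi * (if χ i + χ j + β = 0 then 1 else z) := by
          rw [hmulZ, hmulZ, show χ j + β + χ i = χ i + χ j + β by ring]
  have hconst : ∀ i ∈ D.J, ∀ j ∈ D.J, tauF (D.pr i + D.pr j) = D.pr i + D.pr j → χ i = χ j := by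
    intro i hi j hj hij
    have hk : i⁻¹ * j ∈ D.J := mul_mem (inv_mem hi) hj
    have hkf : tauF (D.pr (i⁻¹ * j)) = D.pr (i⁻¹ * j) := by
      rw [D.pr_mul _ (inv_mem hi) _ hj, D.pr_inv hi]; exact hij
    have hku : Commute u (i⁻¹ * j) := D.cent_fix ha hat (Or.inl h2) hk hkf
    have e : j * u * j⁻¹ * u = i * u * i⁻¹ * u := by
      have hki : (i⁻¹ * j) * u * (i⁻¹ * j)⁻¹ = u := mul_inv_eq_iff_eq_mul.2 hku.eq.symm
      calc j * u * j⁻¹ * u = i * ((i⁻¹ * j) * u * (i⁻¹ * j)⁻¹) * i⁻¹ * u := by group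
        _ = _ := by rw [hki]
    simp only [χ, e]
  have hcinv : ∀ c, Commute c z → Commute c u → ∀ j ∈ D.J, χ (c * j * c⁻¹) = χ j := by
    intro c hcz hcu j hj
    obtain ⟨y, hy, e⟩ := hval j hj
    refine hiff _ _ (c * y * c⁻¹) (Du.conj_mem hcu hy) ?_
    have hcu' : c⁻¹ * u * c = u := by rw [hcu.inv_left.eq, inv_mul_cancel_right]
    have hεc : c * (if χ j = 0 then (1 : G) else z) * c⁻¹ = if χ j = 0 then 1 else z := by
      split_ifs
      · group
      · exact mul_inv_eq_iff_eq_mul.2 hcz.eq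
    calc c * j * c⁻¹ * u * (c * j * c⁻¹)⁻¹ * u = c * (j * (c⁻¹ * u * c) * j⁻¹ * (c⁻¹ * u * c)) * c⁻¹ := by group
      _ = c * (j * u * j⁻¹ * u) * c⁻¹ := by rw [hcu']
      _ = c * y * c⁻¹ * (c * (if χ j = 0 then (1 : G) else z) * c⁻¹) := by rw [e]; group
      _ = _ := by rw [hεc]
  have hrel : ∀ x : U4, x ^ 3 = 1 → tauF * R4.r x = R4.r x * tauF →
      tauF (w1 + suMat x *ᵥ w1 + suMat x *ᵥ (suMat x *ᵥ w1)) =
        w1 + suMat x *ᵥ w1 + suMat x *ᵥ (suMat x *ᵥ w1) →
      ∀ j ∈ D.J, D.pr j = w1 → χ j = R4.B w1 (suMat x *ᵥ w1 + tauF (suMat x *ᵥ w1)) := by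
    intro x h3 hx hsum j hj hjp
    obtain ⟨c, hcz, hcu, hcx⟩ := hlift x h3 hx
    set j1 := c * j * c⁻¹
    set j2 := c * j1 * c⁻¹
    have hj1 := D.conj_mem hcz hj
    have hj2 := D.conj_mem hcz hj1
    have p1 : D.pr j1 = suMat x *ᵥ w1 := by rw [D.pr_act c hcz j hj, hcx, R4_r, hjp]
    have p2 : D.pr j2 = suMat x *ᵥ (suMat x *ᵥ w1) := by rw [D.pr_act c hcz j1 hj1, hcx, R4_r, p1]
    have e1 : χ j1 = χ j := hcinv c hcz hcu j hj
    have e2 : χ j2 = χ j := (hcinv c hcz hcu j1 hj1).trans e1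
    have e3 := hconst _ (mul_mem hj hj1) _ hj2 (by rw [D.pr_mul _ hj _ hj1, hjp, p1, p2]; exact hsum)
    rw [hadd j hj j1 hj1, e1, e2, hjp, p1] at e3
    generalize R4.B w1 (suMat x *ᵥ w1 + tauF (suMat x *ᵥ w1)) = b at e3
    generalize χ j = q at e3
    revert e3
    revert q b
    decide
  obtain ⟨j, hj, hjp⟩ := D.pr_surj w1
  obtain ⟨f1, f2, f3⟩ := w1_facts
  have r1 := hrel dd dd_cube tau_dd (by rw [dd_vec, dd_vec, tauF_apply]; exact f1) j hj hjp
  have r2 := hrel mx mx_cube tau_mx (by rw [mx_apply, mx_apply, tauF_apply]; exact f2) j hj hjp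
  rw [r2] at r1
  simp only [R4_B, dd_vec, mx_apply, tauF_apply] at r1
  exact f3 r1.symm

/-- A Sylow subgroup of the group lies in the centraliser. -/
theorem exists_sylow_cent : ∃ P : Sylow 2 G, (P : Subgroup G) ≤ HH ∧ D.J ≤ P := by
  haveI : Fact (Nat.Prime 2) := ⟨Nat.prime_two⟩
  have hJ2 : IsPGroup 2 D.J := IsPGroup.of_card (n := 9) (by rw [D.card_J]; norm_num)
  obtain ⟨P, hP⟩ := hJ2.exists_le_sylow
  haveI : Nontrivial (P : Subgroup G) := ⟨⟨⟨z, hP D.z_mem⟩, 1, fun e => D.z_ne (congrArg Subtype.val e)⟩⟩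
  haveI := P.2.center_nontrivial
  obtain ⟨⟨c, hc⟩, hne⟩ := exists_ne (1 : center (P : Subgroup G))
  have hcomm : ∀ x ∈ (P : Subgroup G), Commute (c : G) x := fun x hx =>
    (congrArg Subtype.val (mem_center_iff.1 hc ⟨x, hx⟩)).symm
  have hcz : Commute (c : G) z := hcomm z (hP D.z_mem)
  have hact : D.act c = 1 := LinearEquiv.ext fun v => by
    obtain ⟨j, hj, rfl⟩ := D.pr_surj v
    exact D.pr_fix hcz hj (hcomm j (hP hj))
  have hcJ := (D.act_J _ hcz).1 hact
  have h0 : D.pr c = 0 := R4.nondeg _ fun v => by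
    obtain ⟨j, hj, rfl⟩ := D.pr_surj v
    exact (D.comm_iff hcJ hj).1 (hcomm j (hP hj))
  have hceq : (c : G) = z := ((D.pr_zero _ hcJ).1 h0).resolve_left fun e => hne (Subtype.ext (Subtype.ext e))
  refine ⟨P, fun x hx => mem_centralizer_singleton_iff.2 ?_, hP⟩
  rw [← hceq]
  exact (hcomm x hx).symm.eq

/-- A normal subgroup of index two containing the radical and missing part of the centraliser. -/
theorem exists_index_two : ∃ M : Subgroup G, M.Normal ∧ M.index = 2 ∧ D.J ≤ M ∧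
    ∃ d ∈ HH, d ∉ M := by
  classical
  haveI : Fact (Nat.Prime 2) := ⟨Nat.prime_two⟩
  obtain ⟨P, hPH, hJP⟩ := D.exists_sylow_cent
  obtain ⟨u, hu, hut, hu2⟩ := D.exists_lift
  have huI : u ∉ D.inner := fun h => by
    obtain ⟨x, hx⟩ := h.2
    exact tauF_outer.out x (hut.symm.trans hx.symm)
  set Q := (P : Subgroup G) ⊓ D.inner
  have hPodd : Odd (P : Subgroup G).index := Nat.odd_iff.2 (Nat.two_dvd_ne_zero.1 P.not_dvd_index)
  have hQi : Q.relIndex P = 2 := by
    show ((P : Subgroup G) ⊓ D.inner).relIndex P = 2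
    rw [inf_relIndex_left]
    obtain ⟨p, hp, hpn⟩ : ∃ p ∈ (P : Subgroup G), p ∉ D.inner := by
      by_contra h
      push Not at h
      have h1 := Subgroup.index_dvd_of_le (show (P : Subgroup G) ≤ D.inner from h)
      have h3 : D.inner.relIndex HH ∣ D.inner.index := Dvd.intro _ (Subgroup.relIndex_mul_index D.inner_le)
      rw [D.inner_index] at h3
      exact P.not_dvd_index (h3.trans h1)
    refine index_eq_two_iff.2 ⟨⟨p, hp⟩, fun b => ?_⟩
    have hb : Commute (b : G) z := mem_centralizer_singleton_iff.1 (hPH b.2)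
    have hpz : Commute p z := mem_centralizer_singleton_iff.1 (hPH hp)
    simp only [mem_subgroupOf, Subgroup.coe_mul]
    by_cases h : (b : G) ∈ D.inner
    · exact Or.inr ⟨h, fun h' => hpn ((Subgroup.mul_mem_cancel_left D.inner h).1 h')⟩
    · refine Or.inl ⟨⟨hb.mul_left hpz, ?_⟩, h⟩
      obtain ⟨x, hx⟩ := D.out_of_not hb h
      obtain ⟨y, hy⟩ := D.out_of_not hpz hpn
      obtain ⟨x', hx'⟩ := tauF_outer.norm y
      refine ⟨x * x', ?_⟩
      rw [D.act_mul _ _ hb hpz, hx, hy, map_mul, show R4.r x * tauF * (R4.r y * tauF) =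
        R4.r x * (tauF * R4.r y) * tauF by group, hx', mul_assoc (R4.r x) _ tauF, mul_assoc (R4.r x') tauF tauF,
        tauF_sq, mul_one]
  have hu4 : u ^ 4 = 1 := by
    rw [show 4 = 2 * 2 by norm_num, pow_mul, pow_two u]
    rcases hu2 with e | e <;> rw [e]
    exacts [one_pow 2, by rw [pow_two, D.z_sq]]
  have hsq : ∀ g : G, g⁻¹ * u ^ 2 * g ∈ (P : Subgroup G) → g⁻¹ * u ^ 2 * g ∉ Q →
      4 ∣ ((P : Subgroup G).map (MulAut.conj g).toMonoidHom ⊓ centralizer ({u ^ 2} : Set G)).relIndex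
        (centralizer ({u ^ 2} : Set G)) := by
    intro g hgP hgQ
    rw [pow_two] at hgP hgQ ⊢
    rcases hu2 with e | e
    · rw [e, mul_one, inv_mul_cancel] at hgQ
      exact absurd (one_mem Q) hgQ
    rw [e] at hgP hgQ ⊢
    set w := g⁻¹ * z * g
    have hwz : Commute w z := mem_centralizer_singleton_iff.1 (hPH hgP)
    obtain ⟨x, hx⟩ := D.out_of_not hwz fun h => hgQ ⟨hgP, h⟩
    have hsmall : Nat.card (D.cJ w) ≤ 32 := by
      let F := {v : V4 // D.act w v = v}
      have hom : ∀ v, D.act w (om • v) = (om * om) • D.act w v := fun v => by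
        rw [hx]
        show suMat x *ᵥ tauF (om • v) = (om * om) • (suMat x *ᵥ tauF v)
        rw [tauF_smul, Matrix.mulVec_smul]
      have hF : Nat.card F ≤ 16 := by
        have h := Nat.card_le_card_of_injective (fun p : F × F => (p.1.1 + om • p.2.1 : V4)) fun p q e => by
          have e' : p.1.1 + om • p.2.1 = q.1.1 + om • q.2.1 := e
          have e'' := congrArg (D.act w) e'
          rw [map_add, map_add, hom, hom, p.1.2, p.2.2, q.1.2, q.2.2] at e''
          have hd : p.2.1 = q.2.1 := by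
            funext i
            have a1 := congrFun e' i
            have a2 := congrFun e'' i
            simp only [Pi.add_apply, Pi.smul_apply, smul_eq_mul] at a1 a2
            exact om_pair_key _ _ _ _ a1 a2
          rw [hd] at e'
          exact Prod.ext (Subtype.ext (add_right_cancel e')) (Subtype.ext hd)
        rw [Nat.card_prod, R4.card] at h
        by_contra h16
        push Not at h16
        have := Nat.mul_le_mul (show 17 ≤ Nat.card F from h16) (show 17 ≤ Nat.card F from h16)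
        omega
      let f : D.cJ w → F × Bool := fun y =>
        (⟨D.pr y.1, D.pr_fix hwz (D.mem_cJ.1 y.2).1 (D.mem_cJ.1 y.2).2.symm⟩,
          decide ((y : G) = (D.pr_surj (D.pr y.1)).choose))
      have hf : Function.Injective f := by
        intro a b e
        obtain ⟨e1, e2⟩ := Prod.ext_iff.1 e
        have e1' : D.pr a.1 = D.pr b.1 := congrArg Subtype.val e1
        obtain ⟨hc, hcp⟩ := (D.pr_surj (D.pr a.1)).choose_spec
        simp only [f] at e2
        have key : (D.pr_surj (D.pr a.1)).choose = (D.pr_surj (D.pr b.1)).choose := by simp only [e1']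
        rw [← key] at e2
        refine Subtype.ext ?_
        rcases D.eq_of_pr hc (D.mem_cJ.1 a.2).1 hcp with q | q <;>
          rcases D.eq_of_pr hc (D.mem_cJ.1 b.2).1 (by rw [hcp, e1']) with r | r
        · exact q.trans r.symm
        · exact absurd (r.symm.trans (of_decide_eq_true (e2.symm.trans (decide_eq_true q))))
            fun h => D.z_ne (mul_eq_left.1 h)
        · exact absurd (q.symm.trans (of_decide_eq_true (e2.trans (decide_eq_true r))))
            fun h => D.z_ne (mul_eq_left.1 h)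
        · exact q.trans r.symm
      have h := Nat.card_le_card_of_injective f hf
      rw [Nat.card_prod, show Nat.card Bool = 2 by simp] at h
      omega
    set K := centralizer ({w} : Set G)
    have hJK : Nat.card (D.J ⊓ K : Subgroup G) ≤ 32 := hsmall
    have h1 : Nat.card (D.J ⊓ K : Subgroup G) * K.relIndex D.J = 512 := by
      have h := Subgroup.card_mul_index (K.subgroupOf D.J)
      rw [D.card_J] at h
      rw [← h, Subgroup.relIndex, inf_comm, ← Subgroup.inf_subgroupOf_right,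
        Nat.card_congr (subgroupOfEquivOfLe (inf_le_right : K ⊓ D.J ≤ D.J)).toEquiv]
    have h16 : 16 ≤ K.relIndex D.J := by
      by_contra hlt
      push Not at hlt
      have := Nat.mul_le_mul hJK (Nat.le_of_lt_succ hlt)
      omega
    have hne : K.relIndex (P : Subgroup G) ≠ 0 := Subgroup.index_ne_zero_of_finite
    have h2 : 16 ≤ K.relIndex (P : Subgroup G) := h16.trans (relIndex_le_of_le_right hJP hne)
    have hPK : Nat.card ((P : Subgroup G) ⊓ K : Subgroup G) * K.relIndex (P : Subgroup G) =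
        Nat.card (P : Subgroup G) := by
      rw [Subgroup.relIndex, ← Subgroup.card_mul_index (K.subgroupOf (P : Subgroup G)), inf_comm,
        ← Subgroup.inf_subgroupOf_right K,
        Nat.card_congr (subgroupOfEquivOfLe (inf_le_right : K ⊓ (P : Subgroup G) ≤ P)).toEquiv]
    obtain ⟨n, hn⟩ := IsPGroup.iff_card.1 P.2
    have hdvd : K.relIndex (P : Subgroup G) ∣ 2 ^ n := hn ▸ Dvd.intro_left _ hPK
    obtain ⟨i, hi, hie⟩ := (Nat.dvd_prime_pow Nat.prime_two).1 hdvd
    have h4 : 4 ∣ K.relIndex (P : Subgroup G) := by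
      rw [hie] at h2 ⊢
      have hi2 : 2 ≤ i := by
        by_contra hlt
        push Not at hlt
        interval_cases i <;> omega
      exact dvd_trans (by norm_num : 4 ∣ 2 ^ 2) (pow_dvd_pow 2 hi2)
    set K' := (P : Subgroup G).map (MulAut.conj g).toMonoidHom ⊓ HH
    have hK' : Nat.card K' = Nat.card ((P : Subgroup G) ⊓ K : Subgroup G) := by
      rw [← Subgroup.card_map_of_injective (K := (P : Subgroup G) ⊓ K) (MulAut.conj g).injective
        (f := (MulAut.conj g).toMonoidHom)]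
      congr 2
      ext y
      constructor
      · rintro ⟨⟨x, hx, rfl⟩, hy⟩
        refine ⟨x, ⟨hx, mem_centralizer_singleton_iff.2 ?_⟩, rfl⟩
        have hy' : g * x * g⁻¹ * z = z * (g * x * g⁻¹) := mem_centralizer_singleton_iff.1 hy
        calc x * (g⁻¹ * z * g) = g⁻¹ * (g * x * g⁻¹ * z) * g := by group
          _ = g⁻¹ * (z * (g * x * g⁻¹)) * g := by rw [hy']
          _ = g⁻¹ * z * g * x := by group
      · rintro ⟨x, ⟨hx, hxK⟩, rfl⟩
        refine ⟨⟨x, hx, rfl⟩, mem_centralizer_singleton_iff.2 ?_⟩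
        have hx' : x * (g⁻¹ * z * g) = g⁻¹ * z * g * x := mem_centralizer_singleton_iff.1 hxK
        show g * x * g⁻¹ * z = z * (g * x * g⁻¹)
        calc g * x * g⁻¹ * z = g * (x * (g⁻¹ * z * g)) * g⁻¹ := by group
          _ = g * (g⁻¹ * z * g * x) * g⁻¹ := by rw [hx']
          _ = z * (g * x * g⁻¹) := by group
    have hK'H : Nat.card K' * K'.relIndex HH = Nat.card HH := by
      rw [Subgroup.relIndex, ← Subgroup.card_mul_index (K'.subgroupOf HH),
        Nat.card_congr (subgroupOfEquivOfLe (inf_le_right : K' ≤ HH)).toEquiv]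
    obtain ⟨m, hm⟩ := Subgroup.card_dvd_of_le hPH
    rw [hm, ← hPK, hK', mul_assoc] at hK'H
    rw [Nat.eq_of_mul_eq_mul_left Nat.card_pos hK'H]
    exact h4.mul_right m
  rcases extremal_transfer_four (P : Subgroup G) Q hPodd inf_le_left hQi hu4 hsq with
    ⟨M, hMn, hMi, huM⟩ | ⟨g, hgQ, hodd⟩
  · refine ⟨M, hMn, hMi, fun j hj => ?_, u, mem_centralizer_singleton_iff.2 hu.eq, huM⟩
    haveI := hMn
    have hcj : ∀ c i : G, c * i * c⁻¹ * i⁻¹ ∈ M := fun c i => by
      by_cases hc : c ∈ M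
      · rw [show c * i * c⁻¹ * i⁻¹ = c * (i * c⁻¹ * i⁻¹) by group]
        exact mul_mem hc (hMn.conj_mem _ (inv_mem hc) i)
      · have h1 := Subgroup.mul_mem_iff_of_index_two hMi (a := c * i * c⁻¹) (b := i⁻¹)
        refine h1.2 ⟨fun h => inv_mem ?_, fun h => hMn.conj_mem _ ((inv_mem_iff).1 h) c⟩
        have := hMn.conj_mem _ h c⁻¹
        simpa [mul_assoc] using this
    obtain ⟨w, hw⟩ := dd_span (D.pr j)
    obtain ⟨i, hi, hiw⟩ := D.pr_surj w
    obtain ⟨c, hc, hcx⟩ := D.act_surj dd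
    have hmJ : c * i * c⁻¹ * i⁻¹ ∈ D.J := mul_mem (D.conj_mem hc hi) (inv_mem hi)
    have hp : D.pr (c * i * c⁻¹ * i⁻¹) = D.pr j := by
      rw [D.pr_mul _ (D.conj_mem hc hi) _ (inv_mem hi), D.pr_act c hc i hi, D.pr_inv hi, hcx, R4_r, dd_vec, hiw,
        add_comm, hw]
    have hzM : z ∈ M := by
      have h1 : D.pr (c * i * c⁻¹ * i⁻¹) = D.pr j := hp
      obtain ⟨i0, hi0, hi0p⟩ := D.pr_surj (![1, 0, 0, 0] : V4)
      obtain ⟨j0, hj0, hj0ne⟩ := D.exists_partner (v := D.pr i0) (by rw [hi0p]; exact e_vec_ne)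
      have h := hcj j0 i0
      rwa [D.comm_z hj0 hi0 hj0ne, mul_assoc i0, ← (D.J_comm _ (inv_mem hi0)).eq, ← mul_assoc,
        mul_inv_cancel, one_mul] at h
    rcases D.eq_of_pr hmJ hj hp with e | e <;> rw [e]
    exacts [hcj c i, mul_mem (hcj c i) hzM]
  exfalso
  set C := centralizer ({u} : Set G)
  set S := (P : Subgroup G).map (MulAut.conj g).toMonoidHom ⊓ C with hSdef
  have hSC : S ≤ C := inf_le_right
  have hS2 : IsPGroup 2 S := (P.2.map _).to_le inf_le_left
  let S0 : Sylow 2 C := (hS2.of_equiv (subgroupOfEquivOfLe hSC).symm).toSylow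
    (Nat.two_dvd_ne_zero.2 (Nat.odd_iff.1 hodd))
  have hT2 : IsPGroup 2 (D.cJ u) := (IsPGroup.of_card (n := 9) (show Nat.card D.J = 2 ^ 9 by
    rw [D.card_J]; norm_num)).to_le inf_le_left
  have hTC : D.cJ u ≤ C := inf_le_right
  obtain ⟨P1, hP1⟩ := (hT2.of_equiv (subgroupOfEquivOfLe hTC).symm).exists_le_sylow
  obtain ⟨c, hc⟩ := MulAction.exists_smul_eq C P1 S0
  set y := (c : G)⁻¹ * g with hy
  set w := y * z * y⁻¹ with hw
  have hzP : z ∈ (P : Subgroup G) := hJP D.z_mem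
  have hgz : g * z * g⁻¹ ∈ (P : Subgroup G).map (MulAut.conj g).toMonoidHom := ⟨z, hzP, rfl⟩
  have hcu : Commute (c : G) u := mem_centralizer_singleton_iff.1 c.2
  have hgu : Commute (g * z * g⁻¹) u := by
    have h : g⁻¹ * u * g * z = z * (g⁻¹ * u * g) := mem_centralizer_singleton_iff.1 (hPH hgQ.1)
    show g * z * g⁻¹ * u = u * (g * z * g⁻¹)
    calc g * z * g⁻¹ * u = g * (z * (g⁻¹ * u * g)) * g⁻¹ := by group
      _ = g * (g⁻¹ * u * g * z) * g⁻¹ := by rw [h]
      _ = u * (g * z * g⁻¹) := by group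
  have hwu : Commute w u := by
    rw [hw, hy, show (c : G)⁻¹ * g * z * ((c : G)⁻¹ * g)⁻¹ = (c : G)⁻¹ * (g * z * g⁻¹) * (c : G) by group]
    exact (hcu.inv_left.mul_left hgu).mul_left hcu
  have hwT : ∀ x ∈ D.cJ u, Commute w x := by
    intro x hx
    have hxP1 : (⟨x, hTC hx⟩ : C) ∈ (P1 : Subgroup C) := hP1 (mem_subgroupOf.2 hx)
    have hcS : ((c * ⟨x, hTC hx⟩ * c⁻¹ : C) : G) ∈ S := by
      have h : (c * ⟨x, hTC hx⟩ * c⁻¹ : C) ∈ (S0 : Subgroup C) := by
        rw [← hc]; exact ⟨_, hxP1, rfl⟩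
      exact mem_subgroupOf.1 h
    obtain ⟨q, hq, hqe⟩ := hcS.1
    have hqe' : g * q * g⁻¹ = (c : G) * x * (c : G)⁻¹ := hqe
    have hqz : q * z = z * q := mem_centralizer_singleton_iff.1 (hPH hq)
    have hx' : x = y * q * y⁻¹ := by
      rw [hy, show (c : G)⁻¹ * g * q * ((c : G)⁻¹ * g)⁻¹ = (c : G)⁻¹ * (g * q * g⁻¹) * (c : G) by group, hqe']
      group
    rw [hx', hw]
    show y * z * y⁻¹ * (y * q * y⁻¹) = y * q * y⁻¹ * (y * z * y⁻¹)
    calc y * z * y⁻¹ * (y * q * y⁻¹) = y * (z * q) * y⁻¹ := by group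
      _ = y * (q * z) * y⁻¹ := by rw [hqz]
      _ = _ := by group
  have hzT : z ∈ D.cJ u := D.mem_cJ.2 ⟨D.z_mem, hu.symm⟩
  have hwz : Commute w z := hwT z hzT
  have hweq : w = z := by
    have hfix : ∀ v, tauF v = v → D.act w v = v := by
      intro v hv
      obtain ⟨x, hx, rfl⟩ := D.pr_surj v
      exact D.pr_fix hwz hx (hwT x (D.mem_cJ.2 ⟨hx, (D.cent_fix hu hut hu2 hx hv).symm⟩))
    rcases D.act_fix_cases hwz hfix with e | e
    · exact D.no_fusion ((D.act_J _ hwz).1 e)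
    · exfalso
      have hw2 : w * w = 1 := by
        rw [hw, show y * z * y⁻¹ * (y * z * y⁻¹) = y * (z * z) * y⁻¹ by group, D.z_sq]; group
      exact D.not_member hwz e hw2 y rfl
  have hyz : Commute y z := mul_inv_eq_iff_eq_mul.1 hweq
  have hv : y⁻¹ * u * y = g⁻¹ * u * g := by
    rw [hy, show ((c : G)⁻¹ * g)⁻¹ * u * ((c : G)⁻¹ * g) = g⁻¹ * ((c : G) * u * (c : G)⁻¹) * g by group,
      hcu.eq, mul_inv_cancel_right]
  have hin : y⁻¹ * u * y ∈ D.inner := by rw [hv]; exact hgQ.2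
  have h := D.inner_conj hyz hin
  rw [show y * (y⁻¹ * u * y) * y⁻¹ = u by group] at h
  exact huI h

end Ce

end CfsgLib.U62Cent
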