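import Cfsg.Agent.U62Cent.ExtTriFour

/-!
The reducible case of extended type: the centre commutes with none of its other conjugates.
-/

set_option autoImplicit false
set_option maxRecDepth 100000
set_option maxHeartbeats 1000000
set_option linter.style.haveILetI false
set_option linter.unusedSectionVars false

namespace CfsgLib.U62Cent

open CfsgLib Subgroup

universe v

variable {V : Type v} [AddCommGroup V] [Module (ZMod 2) V]
variable {G : Type*} [Group G] [Finite G] {z : G} {R : Rep V} {f0 : V ≃ₗ[ZMod 2] V}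

namespace Ce

variable (D : Ce z R f0) (hf : IsOuter R f0)

section Cover

include D

omit [Finite G] in
/-- The elements of the centraliser centralising the radical. -/
theorem cent_radical {c : G} (hc : ∀ j ∈ D.J, Commute c j) : c = 1 ∨ c = z := by
  have hcz : Commute c z := hc z D.z_mem
  have h1 : D.act c = 1 := LinearEquiv.ext fun v => by
    obtain ⟨j, hj, rfl⟩ := D.pr_surj v
    exact D.pr_fix hcz hj (hc j hj)
  have hJ := (D.act_J c hcz).1 h1
  refine (D.pr_zero c hJ).1 (R.nondeg _ fun w => ?_)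
  show R.B (D.pr c) w = 0
  obtain ⟨j, hj, rfl⟩ := D.pr_surj w
  exact (D.comm_iff hJ hj).1 (hc j hj)

/-- Every two-subgroup is centralised by a conjugate of the centre. -/
theorem cover {T : Subgroup G} (hT' : IsPGroup 2 T) : ∃ x, Mem z x ∧ ∀ t ∈ T, Commute t x := by
  haveI : Fact (Nat.Prime 2) := ⟨Nat.prime_two⟩
  obtain ⟨S, hS⟩ := (IsPGroup.of_card (p := 2) (n := 9)
    (show Nat.card D.J = 2 ^ 9 by rw [D.card_J]; norm_num)).exists_le_sylow
  haveI : Nontrivial (S : Subgroup G) :=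
    ⟨⟨⟨z, hS D.z_mem⟩, 1, fun e => D.z_ne (congrArg Subtype.val e)⟩⟩
  haveI := S.isPGroup'.center_nontrivial
  obtain ⟨c, hc⟩ := exists_ne (1 : Subgroup.center (S : Subgroup G))
  have hcom : ∀ s ∈ (S : Subgroup G), Commute ((c : (S : Subgroup G)) : G) s := fun s hs =>
    (congrArg Subtype.val (mem_center_iff.1 c.2 ⟨s, hs⟩)).symm
  have hcz : ((c : (S : Subgroup G)) : G) = z :=
    (D.cent_radical fun j hj => hcom j (hS hj)).resolve_left fun e => hc (Subtype.ext (Subtype.ext e))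
  obtain ⟨S', hS'⟩ := hT'.exists_le_sylow
  obtain ⟨g, hg⟩ := MulAction.exists_smul_eq G S S'
  refine ⟨g * z * g⁻¹, ⟨g, rfl⟩, fun t ht => ?_⟩
  have ht' := hS' ht
  rw [← hg] at ht'
  obtain ⟨s, hs, rfl⟩ := ht'
  have := (hcom s hs).symm
  rw [hcz] at this
  exact this.map (MulAut.conj g).toMonoidHom

end Cover

variable {u : G} (Du : Ce u R f0) (hcu : Commute z u)
include D Du hcu hf

/-- An outer member leaves few vectors fixed by the centre. -/
theorem fix_small (hz : z ∉ Du.J) (hout : ¬D.IsInn u) :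
    Nat.card {v : V // Du.act z v = v} ≤ 32 := by
  classical
  haveI := R.finite
  let K : AddSubgroup V :=
    { carrier := {v | ∃ i ∈ Du.J, Commute i z ∧ Du.pr i = v}
      zero_mem' := ⟨1, one_mem _, Commute.one_left z, Du.pr_one⟩
      add_mem' := by
        rintro _ _ ⟨a, ha, haz, rfl⟩ ⟨b, hb, hbz, rfl⟩
        exact ⟨a * b, mul_mem ha hb, haz.mul_left hbz, Du.pr_mul a ha b hb⟩
      neg_mem' := by
        rintro v hv
        rwa [neg_eq_of_add_eq_zero_left (two_self v)] }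
  have hiso : ∀ a ∈ K, ∀ b ∈ K, R.B a b = 0 := by
    rintro _ ⟨a, ha, haz, rfl⟩ _ ⟨b, hb, hbz, rfl⟩
    by_contra hB
    refine hout ?_
    have e : a * b * a⁻¹ * b⁻¹ = u :=
      (Du.comm_cases ha hb).resolve_left fun e =>
        hB ((Du.comm_iff ha hb).1 (mul_inv_eq_iff_eq_mul.1 (mul_inv_eq_one.1 e)))
    rw [← e]
    exact D.comm_inn hf haz hbz
  have hK := R.isotropic_bound K hiso
  by_cases hall : ∀ v, Du.act z v = v → v ∈ K
  · exact (Nat.card_le_card_of_injective (fun v : {v : V // Du.act z v = v} => (⟨v.1, hall _ v.2⟩ : K))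
      fun a b e => Subtype.ext (congrArg (fun x : K => x.1) e)).trans (hK.trans (by norm_num))
  push Not at hall
  obtain ⟨v1, hv1, hv1K⟩ := hall
  obtain ⟨i1, hi1, rfl⟩ := Du.pr_surj v1
  have flip : ∀ i ∈ Du.J, Du.act z (Du.pr i) = Du.pr i → Du.pr i ∉ K → z * i * z⁻¹ = i * u := fun i hi e hK' =>
    (Du.eq_of_pr hi (Du.conj_mem hcu hi) (by rw [Du.pr_act z hcu i hi, e])).resolve_left
      fun q => hK' ⟨i, hi, (mul_inv_eq_iff_eq_mul.1 q).symm, rfl⟩
  have hd : ∀ v, Du.act z v = v → v ∉ K → v + Du.pr i1 ∈ K := by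
    intro v hv hvK
    obtain ⟨i, hi, rfl⟩ := Du.pr_surj v
    refine ⟨i * i1, mul_mem hi hi1, ?_, Du.pr_mul i hi i1 hi1⟩
    refine (mul_inv_eq_iff_eq_mul.1 ?_).symm
    calc z * (i * i1) * z⁻¹ = (z * i * z⁻¹) * (z * i1 * z⁻¹) := by group
      _ = i * (u * i1) * u := by rw [flip i hi hv hvK, flip i1 hi1 hv1 hv1K]; group
      _ = i * i1 * (u * u) := by rw [← (Du.J_comm i1 hi1).eq]; group
      _ = i * i1 := by rw [Du.z_sq, mul_one]
  have h := Nat.card_le_card_of_injective (fun v : {v : V // Du.act z v = v} =>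
    if h : v.1 ∈ K then ((⟨v.1, h⟩ : K), true) else ((⟨v.1 + Du.pr i1, hd _ v.2 h⟩ : K), false)) (by
      intro a b e
      simp only at e
      by_cases h1 : a.1 ∈ K <;> by_cases h2 : b.1 ∈ K <;> simp [h1, h2] at e
      · exact Subtype.ext e
      · exact Subtype.ext e)
  rw [Nat.card_prod, show Nat.card Bool = 2 by simp] at h
  omega

variable (hT : R.IsTri)
include hT

/-- An inner member makes the centre inner for it. -/
theorem inn_symm (hz : z ∉ Du.J) (hu : u ∉ D.J) (h : D.IsInn u) : Du.IsInn z := by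
  by_contra hn
  obtain ⟨g, hg⟩ := h
  have hg2 : g * g = 1 := R.inj (by rw [map_mul, hg, ← D.act_mul _ _ hcu.symm hcu.symm, Du.z_sq, D.act_one, map_one])
  have hg1 : g ≠ 1 := fun e => hu ((D.act_J u hcu.symm).1 (by rw [← hg, e, map_one]))
  have h32 := Du.fix_small hf D hcu.symm hu hn
  have h64 := Rep.card_fix hT hg2 hg1
  rw [hg] at h64
  omega

/-- Some member commuting with the centre is inner. -/
theorem exists_inner (hz : z ∉ Du.J) (hm : Mem z u) (hout : ¬D.IsInn u) :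
    ∃ x, Mem z x ∧ Commute x z ∧ x ≠ z ∧ D.IsInn x := by
  classical
  haveI := R.finite
  have hsmall := D.fix_small hf Du hcu hz hout
  set T := Du.act z
  let L := T.toLinearMap + LinearMap.id
  have e : Nat.card L.ker = Nat.card {v : V // T v = v} :=
    Nat.card_congr (Equiv.subtypeEquivRight fun v => by
      rw [LinearMap.mem_ker]
      show T v + v = 0 ↔ _
      exact ⟨eq_of_sum_zero, fun h => by rw [h, two_self]⟩)
  have h1 := L.ker.card_eq_card_quotient_mul_card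
  rw [Nat.card_congr L.quotKerEquivRange.toEquiv, R.card, e] at h1
  have hrange : 4 ≤ Nat.card (LinearMap.range L) := by
    by_contra h
    nlinarith [Nat.mul_le_mul hsmall (show Nat.card (LinearMap.range L) ≤ 3 by omega)]
  have hT2 : ∀ v, T (T v) = v := Du.act_invol hcu D.z_sq
  have hiso : ∀ a b, R.B (T a + a) (T b + b) = 0 := fun a b =>
    Rep.op_perp T (fun v w => Du.act_Bf hcu v w) (by rw [map_add, hT2, add_comm]) a
  obtain ⟨w, hw0, hwq⟩ : ∃ w, T w + w ≠ 0 ∧ R.q (T w + w) = 0 := by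
    by_contra hno
    push Not at hno
    haveI : Fintype (LinearMap.range L) := Fintype.ofFinite _
    have hsub : ∀ a b : LinearMap.range L, a.1 ≠ 0 → b.1 ≠ 0 → a = b := by
      rintro ⟨_, a, rfl⟩ ⟨_, b, rfl⟩ ha hb
      by_contra hne
      have hab : T (a + b) + (a + b) = (T a + a) + (T b + b) := by rw [map_add]; exact add_add_add_comm _ _ _ _
      have hs : T (a + b) + (a + b) ≠ 0 := fun q => hne (Subtype.ext (eq_of_sum_zero (hab.symm.trans q)))
      have h3 := hno _ hs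
      rw [hab, R.q_add, hiso, add_zero, zmod2_ne _ (hno a ha), zmod2_ne _ (hno b hb)] at h3
      exact h3 (by decide)
    have h2 := Nat.card_le_card_of_injective (fun a : LinearMap.range L => decide (a.1 = 0)) fun a b q => by
      simp only [decide_eq_decide] at q
      by_cases ha : a.1 = 0
      · exact Subtype.ext (ha.trans (q.1 ha).symm)
      · exact hsub a b ha fun hb => ha (q.2 hb)
    rw [show Nat.card Bool = 2 by simp] at h2
    omega
  obtain ⟨j, hj, rfl⟩ := Du.pr_surj w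
  set kk := j * z * j⁻¹ * z with hkk
  have ekk : kk = j * (z * j⁻¹ * z⁻¹) := by rw [hkk, D.z_inv]; group
  have hkJ : kk ∈ Du.J := by rw [ekk]; exact mul_mem hj (Du.conj_mem hcu (inv_mem hj))
  have hkp : Du.pr kk = T (Du.pr j) + Du.pr j := by
    rw [ekk, Du.pr_mul _ hj _ (Du.conj_mem hcu (inv_mem hj)), Du.pr_act z hcu _ (inv_mem hj), Du.pr_inv hj, add_comm]
  have hk2 : kk * kk = 1 := (Du.invol_iff hkJ).2 (by rw [hkp]; exact hwq)
  have hkz : Commute kk z := by
    have e1 : z * kk * z = kk⁻¹ := by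
      rw [hkk, _root_.mul_inv_rev, _root_.mul_inv_rev, _root_.mul_inv_rev, inv_inv, D.z_inv]
      calc z * (j * z * j⁻¹ * z) * z = z * (j * z * j⁻¹) * (z * z) := by group
        _ = z * (j * (z * j⁻¹)) := by rw [D.z_sq, mul_one, mul_assoc j z j⁻¹]
    rw [inv_eq_of_mul_eq_one_right hk2] at e1
    calc kk * z = z * kk * z * z := by rw [e1]
      _ = z * kk := by rw [mul_assoc, D.z_sq, mul_one]
  obtain ⟨r, -, -, -, -, -, hrur⟩ := D.exists_four hT hf Du hcu hz Du.z_sq
  have huz : Mem z (u * z) := by rw [← hrur]; exact hm.conj r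
  have hx : j * z * j⁻¹ = kk * z := by rw [hkk, mul_assoc _ z z, D.z_sq, mul_one]
  have hx' : j * (u * z) * j⁻¹ = u * (kk * z) := by
    rw [← hx]
    calc j * (u * z) * j⁻¹ = (j * u) * (z * j⁻¹) := by group
      _ = (u * j) * (z * j⁻¹) := by rw [(Du.J_comm j hj).eq]
      _ = _ := by group
  have hkz' : Commute (kk * z) z := hkz.mul_left (Commute.refl z)
  by_cases hin : D.IsInn (kk * z)
  · refine ⟨kk * z, hx ▸ (mem_self z).conj j, hkz', fun q => hw0 ?_, hin⟩
    rw [← hkp, mul_eq_right.1 q, Du.pr_one]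
  · refine ⟨u * (kk * z), hx' ▸ huz.conj j, hcu.symm.mul_left hkz', fun q => hw0 ?_,
      D.out_mul_out hf hcu.symm hkz' hout hin⟩
    rw [← mul_assoc] at q
    rw [← hkp, eq_inv_of_mul_eq_one_right (mul_eq_right.1 q), Du.pr_inv Du.z_mem, Du.pr_z]

/-- An inner member centralises an involution over the fixed space and inverts an element of order four. -/
theorem exists_split (hz : z ∉ Du.J) (h : D.IsInn u) :
    ∃ r a, r ∈ D.J ∧ D.pr r ∈ R.X0 ∧ R.q (D.pr r) = 1 ∧ r * r = z ∧ a ∈ D.J ∧ D.pr a ∈ R.X0 ∧ D.pr a ≠ 0 ∧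
      R.q (D.pr a) = 0 ∧ a * a = 1 ∧ Commute a u ∧ u * r * u⁻¹ = r * z ∧ r * u * r⁻¹ = u * z ∧
      r * a * r⁻¹ = a * z := by
  classical
  obtain ⟨r, hr, hx, hq, hr2, hur, hru⟩ := D.exists_four hT hf Du hcu hz Du.z_sq
  have hx0 : D.pr r ≠ 0 := fun e => by rw [e, map_zero] at hq; exact zero_ne_one hq
  obtain ⟨g, hg⟩ := h
  obtain ⟨y, hy, hy'⟩ := Set.exists_mem_notMem_of_ncard_lt_ncard (s := ({0, D.pr r} : Set V))
    (t := (R.X0 : Set V)) (by
      rw [← Nat.card_coe_set_eq (R.X0 : Set V)]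
      exact lt_of_lt_of_le (lt_of_le_of_lt ((Set.ncard_insert_le _ _).trans
        (Nat.succ_le_succ (Set.ncard_singleton _).le)) (by norm_num : 2 < 4)) hT.2.1.ge)
    (haveI := R.finite; Set.toFinite _)
  simp only [Set.mem_insert_iff, Set.mem_singleton_iff, not_or] at hy'
  obtain ⟨t, ht, rfl⟩ := D.pr_surj y
  suffices H : ∀ a, a ∈ D.J → D.pr a ∈ R.X0 → D.pr a ≠ 0 → D.pr a ≠ D.pr r → Commute a u →
      ∃ r a, r ∈ D.J ∧ D.pr r ∈ R.X0 ∧ R.q (D.pr r) = 1 ∧ r * r = z ∧ a ∈ D.J ∧ D.pr a ∈ R.X0 ∧ D.pr a ≠ 0 ∧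
        R.q (D.pr a) = 0 ∧ a * a = 1 ∧ Commute a u ∧ u * r * u⁻¹ = r * z ∧ r * u * r⁻¹ = u * z ∧
        r * a * r⁻¹ = a * z by
    by_cases htu : Commute t u
    · exact H t ht hy hy'.1 hy'.2 htu
    · have hut : u * t * u⁻¹ = t * z :=
        (D.eq_of_pr ht (D.conj_mem hcu.symm ht) (by
          rw [D.pr_act u hcu.symm t ht, ← hg, Rep.tri_fix hT g _ hy])).resolve_left
          fun e => htu (mul_inv_eq_iff_eq_mul.1 e).symm
      refine H (t * r) (mul_mem ht hr) (by rw [D.pr_mul _ ht _ hr]; exact R.X0.add_mem hy hx)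
        (fun e => hy'.2 (eq_of_sum_zero (by rwa [← D.pr_mul _ ht _ hr])))
        (fun e => hy'.1 (add_eq_right.1 (by rwa [← D.pr_mul _ ht _ hr]))) ?_
      refine (mul_inv_eq_iff_eq_mul.1 ?_).symm
      calc u * (t * r) * u⁻¹ = (u * t * u⁻¹) * (u * r * u⁻¹) := by group
        _ = t * (z * r) * z := by rw [hut, hur]; group
        _ = t * r * (z * z) := by rw [← (D.J_comm r hr).eq]; group
        _ = t * r := by rw [D.z_sq, mul_one]
  intro a ha hX ha0 har hau
  have ha2 : a * a = 1 := (D.sq_cases ha).resolve_right fun e => D.no_four hT hf Du hcu hz ha hX e hau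
  exact ⟨r, a, hr, hx, hq, hr2, ha, hX, ha0, (D.invol_iff ha).1 ha2, ha2, hau, hur, hru,
    D.comm_z hr ha (Rep.X0_pair hT hx hX hx0 ha0 (Ne.symm har))⟩

/-- The fixed involution lies in the other radical up to the centre. -/
theorem other_mem (hz : z ∉ Du.J) (hu : u ∉ D.J) (h : D.IsInn u) {a : G} (ha : a ∈ D.J) (hX : D.pr a ∈ R.X0)
    (ha2 : a * a = 1) (hau : Commute a u) : a ∈ Du.J ∨ a * z ∈ Du.J := by
  have hi := D.inn_symm hf Du hcu hT hz hu h
  obtain ⟨f, hfz⟩ := hi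
  have hf2 : f * f = 1 := R.inj (by rw [map_mul, hfz, ← Du.act_mul _ _ hcu hcu, D.z_sq, Du.act_one, map_one])
  have hf1 : f ≠ 1 := fun e => hz ((Du.act_J z hcu).1 (by rw [← hfz, e, map_one]))
  obtain ⟨r', a', hr', hX', hq', -, -, hXa', hna', hqa', -, -, hzr, -, -⟩ :=
    Du.exists_split hf D hcu.symm hT hu ⟨f, hfz⟩
  have hAx : Du.act a (Du.pr r') = Du.pr r' := Rep.X0_unique hT hX' hXa' (Du.act_X0 hf hau hX' hT) hq' hqa' hna'
    (by rw [Du.act_qf hau]; exact hq')
  have haz : Commute a z := D.J_comm a ha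
  obtain ⟨b, hbd, hbu, hb2, hbr⟩ : ∃ b, (b = a ∨ b = a * z) ∧ Commute b u ∧ b * b = 1 ∧ Commute b r' := by
    rcases Du.eq_of_pr hr' (Du.conj_mem hau hr') (by rw [Du.pr_act a hau r' hr']; exact hAx.symm) with e | e
    · exact ⟨a, Or.inl rfl, hau, ha2, mul_inv_eq_iff_eq_mul.1 e⟩
    · refine ⟨a * z, Or.inr rfl, hau.mul_left hcu, ?_, mul_inv_eq_iff_eq_mul.1 ?_⟩
      · calc a * z * (a * z) = a * (z * a) * z := by group
          _ = a * a * (z * z) := by rw [← haz.eq]; group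
          _ = 1 := by rw [ha2, D.z_sq, one_mul]
      · calc a * z * r' * (a * z)⁻¹ = a * (z * r' * z⁻¹) * a⁻¹ := by group
          _ = (a * r' * a⁻¹) * (a * u * a⁻¹) := by rw [hzr]; group
          _ = r' * (u * u) := by rw [e, hau.eq, mul_inv_cancel_right, mul_assoc]
          _ = r' := by rw [Du.z_sq, mul_one]
  have hbc : ∀ i ∈ Du.J, Commute i z → Commute b i := fun i hi hiz => by
    have h1 := D.comm_other hT hf Du hcu hz ha hX hau hi hiz
    rcases hbd with rfl | rfl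
    · exact h1
    · exact h1.mul_left hiz.symm
  have hball : ∀ i ∈ Du.J, R.r f (Du.pr i) = Du.pr i → Commute b i := by
    intro i hi e
    rcases Du.eq_of_pr hi (Du.conj_mem hcu hi) (by rw [Du.pr_act z hcu i hi, ← hfz, e]) with q | q
    · exact hbc i hi (mul_inv_eq_iff_eq_mul.1 q).symm
    · have hik : Commute (i * r') z := (mul_inv_eq_iff_eq_mul.1 (by
        calc z * (i * r') * z⁻¹ = (z * i * z⁻¹) * (z * r' * z⁻¹) := by group
          _ = i * (u * r') * u := by rw [q, hzr]; group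
          _ = i * r' * (u * u) := by rw [← (Du.J_comm r' hr').eq]; group
          _ = i * r' := by rw [Du.z_sq, mul_one])).symm
      have h1 := (hbc _ (mul_mem hi hr') hik).mul_right hbr.inv_right
      rwa [mul_inv_cancel_right] at h1
  set T := Du.act b
  have hrange : ∀ w, ∃ w', R.r f w' + w' = T w + w := fun w => R.range_of_perp hf2 fun v hv => by
    obtain ⟨i, hi, rfl⟩ := Du.pr_surj v
    exact Rep.op_perp T (fun v w => Du.act_Bf hbu v w) (Du.pr_fix hbu hi (hball i hi hv)) w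
  have hsing : ∀ w, R.q (T w + w) = 0 := fun w => by
    obtain ⟨j, hj, rfl⟩ := Du.pr_surj w
    have hbi : b⁻¹ = b := inv_eq_of_mul_eq_one_right hb2
    set kk := j * b * j⁻¹ * b with hkk
    have ekk : kk = j * (b * j⁻¹ * b⁻¹) := by rw [hkk, hbi]; group
    have hkJ : kk ∈ Du.J := by rw [ekk]; exact mul_mem hj (Du.conj_mem hbu (inv_mem hj))
    have hkp : Du.pr kk = T (Du.pr j) + Du.pr j := by
      rw [ekk, Du.pr_mul _ hj _ (Du.conj_mem hbu (inv_mem hj)), Du.pr_act b hbu _ (inv_mem hj), Du.pr_inv hj,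
        add_comm]
    rw [← hkp]
    obtain ⟨w', hw'⟩ := hrange (Du.pr j)
    have hc : Commute b kk := hball kk hkJ (by rw [hkp, ← hw', map_add, R.r_invol hf2, add_comm])
    have e1 : b * kk * b = kk⁻¹ := by
      rw [hkk, _root_.mul_inv_rev, _root_.mul_inv_rev, _root_.mul_inv_rev, inv_inv, hbi]
      calc b * (j * b * j⁻¹ * b) * b = b * (j * b * j⁻¹) * (b * b) := by group
        _ = b * (j * (b * j⁻¹)) := by rw [hb2, mul_one, mul_assoc j b j⁻¹]
    rw [hc.eq, mul_assoc, hb2, mul_one] at e1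
    exact (Du.invol_iff hkJ).1 (mul_eq_one_iff_eq_inv.2 e1)
  rcases Rep.twin hT T (Du.act_qf hbu) (Du.act_invol hbu hb2) hf2 hf1 hrange hsing with e | e
  · have hbJ := (Du.act_J b hbu).1 e
    rcases hbd with rfl | rfl
    exacts [Or.inl hbJ, Or.inr hbJ]
  · have hbJ := (Du.act_J _ (hbu.mul_left hcu)).1 (show Du.act (b * z) = 1 by
      rw [Du.act_mul _ _ hbu hcu, ← hfz]
      show T * R.r f = 1
      rw [e, ← map_mul, hf2, map_one])
    rcases hbd with rfl | rfl
    · exact Or.inr hbJ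
    · left; rwa [mul_assoc, D.z_sq, mul_one] at hbJ

omit Du hcu in
/-- No inner member commutes with the centre. -/
theorem no_inner {u : G} (h : Mem z u) (hc : Commute u z) (hne : u ≠ z) (hin : D.IsInn u) : False := by
  classical
  haveI : Fact (Nat.Prime 2) := ⟨Nat.prime_two⟩
  have hu : u ∉ D.J := fun q => hne (D.tri_mem_J hT hf h q)
  obtain ⟨Du⟩ : Nonempty (Ce u R f0) := by obtain ⟨g, rfl⟩ := h; exact ⟨D.conj g⟩
  have hz : z ∉ Du.J := fun q => hne (Du.tri_mem_J hT hf h.symm q).symm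
  obtain ⟨r, a0, hr, hrX, -, hr2, ha0, hX0, hne0, hq0, ha02, hau0, hur, hru, hra0⟩ :=
    D.exists_split hf Du hc.symm hT hz hin
  obtain ⟨a, ha, hX, hne', hqa, ha2, hau, hra, haJ⟩ :
      ∃ a, a ∈ D.J ∧ D.pr a ∈ R.X0 ∧ D.pr a ≠ 0 ∧ R.q (D.pr a) = 0 ∧ a * a = 1 ∧ Commute a u ∧
        r * a * r⁻¹ = a * z ∧ a ∈ Du.J := by
    rcases D.other_mem hf Du hc.symm hT hz hu hin ha0 hX0 ha02 hau0 with q | q
    · exact ⟨a0, ha0, hX0, hne0, hq0, ha02, hau0, hra0, q⟩
    · have hp : D.pr (a0 * z) = D.pr a0 := by rw [D.pr_mul _ ha0 _ D.z_mem, D.pr_z, add_zero]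
      refine ⟨a0 * z, mul_mem ha0 D.z_mem, hp ▸ hX0, hp ▸ hne0, hp ▸ hq0, ?_, hau0.mul_left hc.symm, ?_, q⟩
      · calc a0 * z * (a0 * z) = a0 * (z * a0) * z := by group
          _ = a0 * a0 * (z * z) := by rw [← (D.J_comm a0 ha0).eq]; group
          _ = 1 := by rw [ha02, D.z_sq, one_mul]
      · rw [show r * (a0 * z) * r⁻¹ = r * a0 * r⁻¹ * (r * z * r⁻¹) by group, hra0, (D.J_comm r hr).eq,
          mul_inv_cancel_right]
  have hnz : Du.pr a ≠ 0 := fun q => by
    rcases (Du.pr_zero a haJ).1 q with e | e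
    · rw [e, D.pr_one] at hne'; exact hne' rfl
    · exact hu (e ▸ ha)
  obtain ⟨j, hj, hj0⟩ := Du.exists_partner hnz
  have hje : j * a * j⁻¹ = a * u := Du.comm_z hj haJ hj0
  set e := a * u with he
  have hre : Commute r e := by
    refine mul_inv_eq_iff_eq_mul.1 ?_
    calc r * e * r⁻¹ = (r * a * r⁻¹) * (r * u * r⁻¹) := by rw [he]; group
      _ = a * (z * u) * z := by rw [hra, hru]; group
      _ = a * u * (z * z) := by rw [← hc.eq]; group
      _ = e := by rw [D.z_sq, mul_one]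
  have hJ2 : IsPGroup 2 D.J := IsPGroup.of_card (n := 9) (by rw [D.card_J]; norm_num)
  set E := centralizer ({e} : Set G) with hE
  have hrE : zpowers r ≤ E := zpowers_le.2 (mem_centralizer_singleton_iff.2 hre.eq)
  set P := (D.cJ a).map (MulAut.conj j).toMonoidHom with hP
  have hP2 : IsPGroup 2 P := ((hJ2.to_le inf_le_left).map _)
  have hPE : P ≤ E := by
    rintro _ ⟨s, hs, rfl⟩
    refine mem_centralizer_singleton_iff.2 ?_
    have h2 : Commute (j * s * j⁻¹) (j * a * j⁻¹) := (D.mem_cJ.1 hs).2.map (MulAut.conj j).toMonoidHom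
    rw [hje] at h2
    exact h2
  obtain ⟨T0, hT0⟩ := ((hJ2.to_le (zpowers_le.2 hr)).of_equiv
    (Subgroup.subgroupOfEquivOfLe hrE).symm).exists_le_sylow
  obtain ⟨T1, hT1⟩ := (hP2.of_equiv (Subgroup.subgroupOfEquivOfLe hPE).symm).exists_le_sylow
  obtain ⟨c, hcT⟩ := MulAction.exists_smul_eq E T1 T0
  obtain ⟨x, hxm, hx⟩ := D.cover (T0.isPGroup'.map E.subtype)
  have hxr : Commute r x := hx r ⟨⟨r, hrE (mem_zpowers r)⟩, hT0 (mem_subgroupOf.2 (mem_zpowers r)), rfl⟩
  set k := (c : G) * j with hk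
  have hxP : ∀ s ∈ D.cJ a, Commute (k * s * k⁻¹) x := by
    intro s hs
    have h1 : j * s * j⁻¹ ∈ P := ⟨s, hs, rfl⟩
    have h2 : (c * ⟨_, hPE h1⟩ * c⁻¹ : E) ∈ (T0 : Subgroup E) := by
      rw [← hcT]
      exact ⟨_, hT1 (mem_subgroupOf.2 h1), rfl⟩
    have h3 := hx _ ⟨_, h2, rfl⟩
    rw [show k * s * k⁻¹ = ((c * ⟨_, hPE h1⟩ * c⁻¹ : E) : G) by simp only [hk, Subgroup.coe_mul, Subgroup.coe_inv]; group]
    exact h3
  set x' := k⁻¹ * x * k with hx'
  have hx'm : Mem z x' := by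
    rw [hx', show k⁻¹ * x * k = k⁻¹ * x * k⁻¹⁻¹ by rw [inv_inv]]
    exact hxm.conj k⁻¹
  have hx'c : ∀ s ∈ D.cJ a, Commute x' s := fun s hs => by
    have h1 := ((hxP s hs).map (MulAut.conj k⁻¹).toMonoidHom).symm
    simpa [hx', mul_assoc] using h1
  have hzc : z ∈ D.cJ a := D.mem_cJ.2 ⟨D.z_mem, (D.J_comm a ha).symm⟩
  have hx'z : Commute x' z := hx'c z hzc
  have hx'J : x' ∈ D.J := by
    refine (D.act_J x' hx'z).1 (LinearEquiv.ext fun w => ?_)
    by_contra hw
    have hw' : D.act x' w ≠ w := hw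
    have hfixv : ∀ v, R.B v (D.pr a) = 0 → D.act x' v = v := fun v hv => by
      obtain ⟨s, hs, rfl⟩ := D.pr_surj v
      exact D.pr_fix hx'z hs (hx'c s (D.mem_cJ.2 ⟨hs, (D.comm_iff hs ha).2 hv⟩))
    have h2 : D.act x' w + w = D.pr a :=
      (R.orth_perp fun v hv => Rep.op_perp (D.act x') (fun v w => D.act_Bf hx'z v w) (hfixv v hv) w).resolve_left
        fun q => hw' (eq_of_sum_zero q)
    refine hw' (hfixv w ?_)
    rw [R.B_comm, ← h2, Rep.op_self (D.act x') (fun v => D.act_qf hx'z v), h2]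
    exact hqa
  have hx'eq : x' = z := D.tri_mem_J hT hf hx'm hx'J
  have hxz : x ≠ z := by
    intro q
    have hkz : Commute k z := by
      have h1 : k⁻¹ * z * k = z := q ▸ hx'eq
      show k * z = z * k
      conv_lhs => rw [← h1]
      group
    have h2 : k * a * k⁻¹ = e := by
      have h3 : (c : G) * e * (c : G)⁻¹ = e := mul_inv_eq_iff_eq_mul.2 (mem_centralizer_singleton_iff.1 c.2)
      calc k * a * k⁻¹ = (c : G) * (j * a * j⁻¹) * (c : G)⁻¹ := by rw [hk]; group
        _ = e := by rw [hje]; exact h3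
    have h4 := D.conj_mem hkz ha
    rw [h2, he] at h4
    exact hu (by
      have := mul_mem (inv_mem ha) h4
      rwa [inv_mul_cancel_left] at this)
  obtain ⟨Dx⟩ : Nonempty (Ce x R f0) := by obtain ⟨g, rfl⟩ := hxm; exact ⟨D.conj g⟩
  have hzx : Commute z x := hr2 ▸ hxr.mul_left hxr
  exact D.no_four hT hf Dx hzx (fun q => hxz (Dx.tri_mem_J hT hf hxm.symm q).symm) hr hrX hr2 hxr

omit Du hcu in
/-- The centre commutes with none of its other conjugates. -/
theorem tri_isolated {u : G} (h : Mem z u) (hc : Commute u z) : u = z := by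
  by_contra hne
  by_cases hin : D.IsInn u
  · exact D.no_inner hf hT h hc hne hin
  obtain ⟨Du⟩ : Nonempty (Ce u R f0) := by obtain ⟨g, rfl⟩ := h; exact ⟨D.conj g⟩
  have hz : z ∉ Du.J := fun q => hne (Du.tri_mem_J hT hf h.symm q).symm
  obtain ⟨x, hxm, hxz, hxne, hxin⟩ := D.exists_inner hf Du hc.symm hT hz h hin
  exact D.no_inner hf hT hxm hxz hxne hxin

end Ce

end CfsgLib.U62Cent
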