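import Cfsg.Agent.U62Cent.NoFusion

/-!
Conjugates of the centre commuting with it: common facts.
-/

set_option autoImplicit false
set_option maxRecDepth 100000
set_option maxHeartbeats 1000000
set_option linter.style.haveILetI false
set_option linter.unusedSectionVars false

open scoped Matrix

namespace CfsgLib.U62Cent

open CfsgLib Subgroup
open CfsgLib.FiLarge (F4 om omp)
open CfsgLib.Unitary (suMat suMat_mul suMat_one su_ext su_preserves)

variable {G : Type*} [Group G] [Finite G] {z : G}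

/-- A conjugate. -/
def Mem (z x : G) : Prop := ∃ g : G, g * z * g⁻¹ = x

theorem mem_self (z : G) : Mem z z := ⟨1, by group⟩

theorem Mem.conj {x : G} (h : Mem z x) (a : G) : Mem z (a * x * a⁻¹) := by
  obtain ⟨g, rfl⟩ := h
  exact ⟨a * g, by group⟩

theorem Mem.conj_iff {x : G} (a : G) : Mem z (a * x * a⁻¹) ↔ Mem z x :=
  ⟨fun h => by
    have := h.conj a⁻¹
    rwa [show a⁻¹ * (a * x * a⁻¹) * a⁻¹⁻¹ = x by group] at this, fun h => h.conj a⟩

theorem Mem.trans {x y : G} (h : Mem z x) (h' : Mem x y) : Mem z y := by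
  obtain ⟨g, rfl⟩ := h'
  exact h.conj g

theorem Mem.symm {x : G} (h : Mem z x) : Mem x z := by
  obtain ⟨g, rfl⟩ := h
  exact ⟨g⁻¹, by group⟩

namespace Cd

theorem mem_sq (D : Cd z R4) {x : G} (h : Mem z x) : x * x = 1 := by
  obtain ⟨g, rfl⟩ := h
  calc g * z * g⁻¹ * (g * z * g⁻¹) = g * (z * z) * g⁻¹ := by group
    _ = 1 := by rw [D.z_sq]; group

theorem mem_inv (D : Cd z R4) {x : G} (h : Mem z x) : x⁻¹ = x := inv_eq_of_mul_eq_one_right (D.mem_sq h)

theorem mem_J (D : Cd z R4) {x : G} (h : Mem z x) (hJ : x ∈ D.J) : x = z := by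
  obtain ⟨g, rfl⟩ := h
  exact D.no_fusion hJ

/-- The centre avoids the radical of any other centre commuting with it. -/
theorem z_notMem (D : Cd z R4) {u : G} (Du : Cd u R4) (h : Mem z u) (hne : u ≠ z) : z ∉ Du.J := fun hz =>
  hne (Du.mem_J h.symm hz).symm

theorem ph_mem_ne (D : Cd z R4) {u : G} (h : Mem z u) (hc : Commute u z) (hne : u ≠ z) : D.ph u ≠ 1 :=
  fun e => hne (D.mem_J h ((D.ph_J u hc).1 e))

theorem ph_mem_sq (D : Cd z R4) {u : G} (h : Mem z u) (hc : Commute u z) : D.ph u * D.ph u = 1 := by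
  rw [← D.ph_mul _ _ hc hc, D.mem_sq h, D.ph_one]

/-- The two kinds of members. -/
theorem mem_kinds (D : Cd z R4) {u : G} (h : Mem z u) (hc : Commute u z) (hne : u ≠ z) :
    ∃ a, Commute a z ∧ (D.ph (a * u * a⁻¹) = tvp p0 ∨ D.ph (a * u * a⁻¹) = s0) := by
  rcases invol_cases (D.ph_mem_sq h hc) (D.ph_mem_ne h hc hne) with ⟨p, hp, e⟩ | ⟨g, hg⟩
  · obtain ⟨g, hg⟩ := to_p0 hp
    obtain ⟨a, ha, rfl⟩ := D.ph_surj g
    exact ⟨a, ha, Or.inl (by rw [D.ph_conj ha hc, e, tvp_conj hp, hg])⟩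
  · obtain ⟨a, ha, rfl⟩ := D.ph_surj g
    exact ⟨a, ha, Or.inr (by rw [D.ph_conj ha hc, hg])⟩

/-- The change of an element under a member. -/
def kk (_D : Cd z R4) (u j : G) : G := j * u * j⁻¹ * u

variable (D : Cd z R4) {u : G} (h : Mem z u) (hc : Commute u z)

include h hc

theorem kk_mem {j : G} (hj : j ∈ D.J) : D.kk u j ∈ D.J := by
  have e : D.kk u j = j * (u * j⁻¹ * u⁻¹) := by rw [kk, D.mem_inv h]; group
  rw [e]
  exact mul_mem hj (D.conj_mem hc (inv_mem hj))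

theorem pr_conj_u {j : G} (hj : j ∈ D.J) : D.pr (u * j * u) = suMat (D.ph u) *ᵥ D.pr j := by
  rw [← R4_r, ← D.pr_act u hc j hj, D.mem_inv h]

theorem pr_kk {j : G} (hj : j ∈ D.J) : D.pr (D.kk u j) = D.pr j + suMat (D.ph u) *ᵥ D.pr j := by
  have e : D.kk u j = j * (u * j⁻¹ * u) := by rw [kk]; group
  have hmem : u * j⁻¹ * u ∈ D.J := by
    have := D.conj_mem hc (inv_mem hj)
    rwa [D.mem_inv h] at this
  rw [e, D.pr_mul _ hj _ hmem, D.pr_conj_u h hc (inv_mem hj), D.pr_inv hj]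

theorem kk_conj {j : G} : j * u * j⁻¹ = D.kk u j * u := by
  rw [kk, mul_assoc _ u u, D.mem_sq h, mul_one]

theorem kk_inverted {j : G} : u * D.kk u j * u = (D.kk u j)⁻¹ := by
  refine eq_inv_of_mul_eq_one_left ?_
  have hu := D.mem_sq h
  rw [kk]
  calc u * (j * u * j⁻¹ * u) * u * (j * u * j⁻¹ * u) = u * (j * u * j⁻¹) * (u * u) * (j * u * j⁻¹) * u := by group
    _ = u * (j * u * j⁻¹) * (j * u * j⁻¹) * u := by rw [hu, mul_one]
    _ = u * (j * (u * u) * j⁻¹) * u := by group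
    _ = u * u := by rw [hu, mul_one, mul_inv_cancel, mul_one]; exact hu
    _ = 1 := hu

/-- A singular vector in the image lifts to an element commuting with the member. -/
theorem lift_image {w : V4} (hq : qn4 (w + suMat (D.ph u) *ᵥ w) = 0) {m : G} (hm : m ∈ D.J)
    (e : D.pr m = w + suMat (D.ph u) *ᵥ w) :
    Commute m u ∧ ∃ j ∈ D.J, m = D.kk u j ∨ m = D.kk u j * z := by
  obtain ⟨j, hj, rfl⟩ := D.pr_surj w
  have hk := D.kk_mem h hc hj
  have ek : D.pr m = D.pr (D.kk u j) := by rw [e, D.pr_kk h hc hj]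
  have hks : D.kk u j * D.kk u j = 1 := (D.invol_iff hk).2 (by rw [D.pr_kk h hc hj, R4_q]; exact hq)
  have hcu : Commute (D.kk u j) u := by
    have e1 := D.kk_inverted h hc (j := j)
    rw [inv_eq_of_mul_eq_one_right hks] at e1
    calc D.kk u j * u = u * D.kk u j * u * u := by rw [e1]
      _ = u * D.kk u j := by rw [mul_assoc, D.mem_sq h, mul_one]
  rcases D.eq_of_pr hk hm ek.symm with p | p
  · exact ⟨p ▸ hcu, j, hj, Or.inl p⟩
  · exact ⟨p ▸ hcu.mul_left hc.symm, j, hj, Or.inr p⟩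

/-- A common element of both radicals over the image rules out the product. -/
theorem uz_not (Du : Cd u R4) {i : G} (hi : i ∈ D.J) (hiu : i ∈ Du.J) (h0 : D.pr i ≠ 0) {w : V4}
    (hq : qn4 (w + suMat (D.ph u) *ᵥ w) = 0) (e : D.pr i = w + suMat (D.ph u) *ᵥ w) :
    ¬ Mem z (u * z) := by
  intro huz
  obtain ⟨-, j, hj, ek⟩ := D.lift_image h hc hq hi e
  have key : ∀ x, Mem z x → x = i * u → False := fun x hx ex => by
    have hxJ : x ∈ Du.J := ex ▸ mul_mem hiu Du.z_mem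
    have := Du.mem_J (h.symm.trans hx) hxJ
    rw [ex] at this
    rw [mul_eq_right.1 this, D.pr_one] at h0
    exact h0 rfl
  rcases ek with ek | ek
  · exact key _ (h.conj j) (by rw [ek, D.kk_conj h hc])
  · refine key _ (huz.conj j) ?_
    have hjz : j * z * j⁻¹ = z := by rw [(D.J_comm j hj).eq, mul_inv_cancel_right]
    calc j * (u * z) * j⁻¹ = j * u * j⁻¹ * (j * z * j⁻¹) := by group
      _ = D.kk u j * u * z := by rw [D.kk_conj h hc, hjz]
      _ = i * u := by rw [ek, mul_assoc, hc.eq, ← mul_assoc]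

end Cd

end CfsgLib.U62Cent
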