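import Cfsg.Agent.U62Cent.Tri
import Cfsg.Agent.U62Cent.Member

/-!
The reducible case: no fusion, and no element of order four over the fixed space commutes with another conjugate.
-/

set_option autoImplicit false
set_option maxRecDepth 100000
set_option maxHeartbeats 1000000
set_option linter.style.haveILetI false
set_option linter.unusedSectionVars false

namespace CfsgLib.U62Cent

open CfsgLib Subgroup

universe v

variable {V : Type v} [AddCommGroup V] [Module (ZMod 2) V]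

namespace Rep

variable (R : Rep V)

theorem r_invol {f : U4} (hf : f * f = 1) (v : V) : R.r f (R.r f v) = v := by rw [← R.r_mul, hf, R.r_one]

theorem adj {f : U4} (hf : f * f = 1) (v w : V) : R.B (R.r f v + v) w = R.B v (R.r f w + w) := by
  rw [R.B_add_left, R.B_add_right]
  congr 1
  conv_lhs => rw [← R.r_invol hf w, R.B_inv]

theorem fix_of_perp {f : U4} (hf : f * f = 1) {v : V} (h : ∀ w, R.B (R.r f w + w) v = 0) : R.r f v = v :=
  eq_of_sum_zero (R.nondeg _ fun w => show R.B (R.r f v + v) w = 0 by rw [R.adj hf, R.B_comm]; exact h w)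

theorem perp_of_fix {f : U4} (hf : f * f = 1) {v : V} (h : R.r f v = v) (w : V) :
    R.B (R.r f w + w) v = 0 := by
  rw [R.adj hf, h, two_self, R.B_zero]

theorem image_iso {f : U4} (hf : f * f = 1) (a b : V) : R.B (R.r f a + a) (R.r f b + b) = 0 :=
  R.perp_of_fix hf (by rw [map_add, R.r_invol hf, add_comm]) a

/-- A vector orthogonal to the fixed space of an involution is a commutator. -/
theorem range_of_perp {f : U4} (hf : f * f = 1) {k : V} (h : ∀ v, R.r f v = v → R.B k v = 0) :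
    ∃ w, R.r f w + w = k := by
  haveI := R.finite
  haveI : Module.Finite (ZMod 2) V := Module.Finite.of_finite
  let Bl : LinearMap.BilinForm (ZMod 2) V := R.q.polarBilin
  have hB : ∀ x y, Bl x y = R.B x y := fun x y => rfl
  have hrefl : Bl.IsRefl := fun x y e => by rw [hB] at e ⊢; rw [R.B_comm]; exact e
  have hnd : Bl.Nondegenerate :=
    ⟨fun x hx => R.nondeg x fun y => (hB x y).symm.trans (hx y),
      fun y hy => R.nondeg y fun x => (R.B_comm y x).trans ((hB x y).symm.trans (hy x))⟩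
  set W : Submodule (ZMod 2) V := LinearMap.range ((R.r f).toLinearMap + LinearMap.id) with hW
  have hk : k ∈ Bl.orthogonal (Bl.orthogonal W) := fun n hn => by
    show Bl n k = 0
    rw [hB, R.B_comm]
    refine h n (R.fix_of_perp hf fun w => ?_)
    rw [← hB]
    exact hn _ ⟨w, rfl⟩
  rw [LinearMap.BilinForm.orthogonal_orthogonal hnd hrefl] at hk
  obtain ⟨w, hw⟩ := hk
  exact ⟨w, hw⟩

theorem exists_moved {f : U4} (h1 : f ≠ 1) : ∃ v, R.r f v ≠ v := by
  by_contra h
  push Not at h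
  exact h1 (R.inj (LinearEquiv.ext fun v => by rw [h v, R.r_one]))

end Rep

variable {G : Type*} [Group G] [Finite G] {z : G} {R : Rep V}

namespace Cd

/-- In the reducible case the centre is fused to no further element of its radical. -/
theorem tri_no_fusion (D : Cd z R) (hT : R.IsTri) {g : G} (h : g * z * g⁻¹ ∈ D.J) : g * z * g⁻¹ = z := by
  classical
  by_contra hne
  set Ds := D.conj g
  have hz' := D.mem_of_mem Ds h hne
  have hs0 : D.pr (g * z * g⁻¹) ≠ 0 := fun e => ((D.pr_zero _ h).1 e).elim Ds.z_ne hne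
  have hz0 : Ds.pr z ≠ 0 := fun e => ((Ds.pr_zero _ hz').1 e).elim D.z_ne (Ne.symm hne)
  have hbig := D.meetV_big Ds h hz' hz0
  by_cases he : R.e0 (D.pr (g * z * g⁻¹)) = 0
  · have hle := Rep.tri_absorb hT (D.meetV Ds) (fun m hm => D.meetV_q Ds hne hm) ⟨_, h, Ds.z_mem, rfl⟩ hs0
      (fun x hx => by rw [R.B_comm]; exact (Rep.perp_iff hT _).2 he x hx)
      (fun u hu m hm => D.meetV_stab Ds h hs0 hu hm)
    omega
  have hsub : (D.meetV Ds : Set V) ⊆ {0, D.pr (g * z * g⁻¹)} := by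
    rintro m ⟨x, hx, hx', rfl⟩
    have hcom : ∀ a ∈ Ds.cJ z, Commute x a := by
      intro a ha
      obtain ⟨haJ, haz⟩ := Ds.mem_cJ.1 ha
      rcases Ds.comm_cases haJ hx' with e | e
      · exact (mul_inv_eq_iff_eq_mul.1 (mul_inv_eq_one.1 e)).symm
      exfalso
      refine he ?_
      have e2 : D.pr (a * x * a⁻¹ * x⁻¹) = R.r (D.ph a) (D.pr x) + D.pr x := by
        rw [D.pr_mul _ (D.conj_mem haz hx) _ (inv_mem hx), D.pr_act a haz x hx, D.pr_inv hx]
      rw [e] at e2
      rw [e2, map_add, Rep.e0_r hT, two_self]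
    rcases Ds.central_cJ hz' hx' hcom with e | e | e | e
    · left; rw [e, D.pr_one]
    · right; rw [e]; rfl
    · left; rw [e, D.pr_z]
    · right; rw [e, D.pr_mul _ D.z_mem _ h, D.pr_z, zero_add]; rfl
  have hc := Set.ncard_le_ncard hsub
  rw [← Nat.card_coe_set_eq] at hc
  have hpair : ({0, D.pr (g * z * g⁻¹)} : Set V).ncard ≤ 2 :=
    (Set.ncard_insert_le _ _).trans (Nat.succ_le_succ (Set.ncard_singleton _).le)
  simp only [SetLike.coe_sort_coe] at hc
  omega

theorem tri_mem_J (D : Cd z R) (hT : R.IsTri) {x : G} (h : Mem z x) (hJ : x ∈ D.J) : x = z := by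
  obtain ⟨g, rfl⟩ := h
  exact D.tri_no_fusion hT hJ

variable (D : Cd z R) (hT : R.IsTri)

include hT in
/-- Elements over the fixed space are moved only by the centre. -/
theorem conj_fixed {h r : G} (hh : Commute h z) (hr : r ∈ D.J) (hX : D.pr r ∈ R.X0) :
    h * r * h⁻¹ = r ∨ h * r * h⁻¹ = r * z :=
  D.eq_of_pr hr (D.conj_mem hh hr) (by rw [D.pr_act h hh r hr, Rep.tri_fix hT _ _ hX])

variable {u : G} (Du : Cd u R) (hcu : Commute z u) (hz : z ∉ Du.J)

include D hcu hz

theorem zeta_facts : Du.ph z * Du.ph z = 1 ∧ Du.ph z ≠ 1 :=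
  ⟨by rw [← Du.ph_mul _ _ hcu hcu, D.z_sq, Du.ph_one], fun e => hz ((Du.ph_J z hcu).1 e)⟩

include hT

theorem comm_other {r : G} (hr : r ∈ D.J) (hX : D.pr r ∈ R.X0) (hru : Commute r u) {y : G} (hy : y ∈ Du.J)
    (hyz : Commute y z) : Commute r y := by
  rcases D.conj_fixed hT hyz hr hX with e | e
  · exact (mul_inv_eq_iff_eq_mul.1 e).symm
  · refine absurd ?_ hz
    have h1 := mul_mem (Du.conj_mem hru.inv_left hy) (inv_mem hy)
    rwa [inv_inv, show r⁻¹ * y * r * y⁻¹ = r⁻¹ * (y * r * y⁻¹) by group, e, inv_mul_cancel_left] at h1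

theorem other_perp {r : G} (hr : r ∈ D.J) (hX : D.pr r ∈ R.X0) (hru : Commute r u) {x : G} (hx : x ∈ Du.J)
    (hxz : Commute x z) (w : V) : R.B (R.r (Du.ph r) w + w) (Du.pr x) = 0 := by
  have e := Du.pr_fix hru hx (D.comm_other hT Du hcu hz hr hX hru hx hxz)
  rw [R.B_add_left]
  conv_lhs => arg 1; rw [← e, R.B_inv]
  exact (by decide : ∀ a : ZMod 2, a + a = 0) _

/-- No element of order four over the fixed space commutes with another conjugate. -/
theorem no_four {r : G} (hr : r ∈ D.J) (hX : D.pr r ∈ R.X0) (hr2 : r * r = z) (hru : Commute r u) : False := by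
  obtain ⟨hf, hf1⟩ := D.zeta_facts Du hcu hz
  have hrz := D.J_comm r hr
  have hρ : Du.ph r * Du.ph r = Du.ph z := by rw [← Du.ph_mul _ _ hru hru, hr2]
  by_cases hall : ∀ j ∈ Du.J, Commute (z * j * z⁻¹ * j⁻¹) z
  swap
  · push Not at hall
    obtain ⟨j, hj, hyc⟩ := hall
    set y := z * j * z⁻¹ * j⁻¹ with hy
    have hyJ : y ∈ Du.J := mul_mem (Du.conj_mem hcu hj) (inv_mem hj)
    have hinv : z * y * z⁻¹ = y⁻¹ := by
      rw [hy, show z * (z * j * z⁻¹ * j⁻¹) * z⁻¹ = z * z * j * z⁻¹ * j⁻¹ * z⁻¹ by group, D.z_sq, one_mul,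
        _root_.mul_inv_rev, _root_.mul_inv_rev, _root_.mul_inv_rev, inv_inv, inv_inv, D.z_inv]
      group
    have hy2 : y * y = u := (Du.sq_cases hyJ).resolve_left fun e => hyc
      (mul_inv_eq_iff_eq_mul.1 (by rw [hinv, inv_eq_of_mul_eq_one_right e])).symm
    set y' := r * y * r⁻¹ with hy'
    have hy'J : y' ∈ Du.J := Du.conj_mem hru hyJ
    have hy'2 : y' * y' = u := by
      rw [hy', show r * y * r⁻¹ * (r * y * r⁻¹) = r * (y * y) * r⁻¹ by group, hy2, hru.eq, mul_inv_cancel_right]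
    have hinv' : z * y' * z⁻¹ = y'⁻¹ := by
      calc z * y' * z⁻¹ = (z * r) * y * (z * r)⁻¹ := by rw [hy']; group
        _ = r * (z * y * z⁻¹) * r⁻¹ := by rw [← hrz.eq]; group
        _ = _ := by rw [hinv, hy']; group
    have hpy : Du.pr y = R.r (Du.ph z) (Du.pr j) + Du.pr j := by
      rw [hy, Du.pr_mul _ (Du.conj_mem hcu hj) _ (inv_mem hj), Du.pr_act z hcu j hj, Du.pr_inv hj]
    have hcyy : Commute y y' := (Du.comm_iff hyJ hy'J).2 (by
      rw [hy', Du.pr_act r hru y hyJ, hpy, map_add, ← R.r_mul,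
        show Du.ph r * Du.ph z = Du.ph z * Du.ph r by rw [← hρ, mul_assoc], R.r_mul]
      exact R.image_iso hf _ _)
    set e := y⁻¹ * y' with he
    clear_value e y' y
    have he2 : e * e = 1 := by
      calc e * e = y⁻¹ * (y' * y⁻¹) * y' := by rw [he]; group
        _ = y⁻¹ * y⁻¹ * (y' * y') := by rw [← hcyy.inv_left.eq]; group
        _ = (y * y)⁻¹ * (y' * y') := by rw [_root_.mul_inv_rev]
        _ = 1 := by rw [hy2, hy'2, inv_mul_cancel]
    have hze : Commute e z := by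
      refine (mul_inv_eq_iff_eq_mul.1 ?_).symm
      calc z * e * z⁻¹ = (z * y * z⁻¹)⁻¹ * (z * y' * z⁻¹) := by rw [he]; group
        _ = y * y'⁻¹ := by rw [hinv, hinv', inv_inv]
        _ = e⁻¹ := by rw [he, _root_.mul_inv_rev, inv_inv, hcyy.inv_right.eq]
        _ = e := inv_eq_of_mul_eq_one_right he2
    have hre : Commute r e :=
      D.comm_other hT Du hcu hz hr hX hru (he ▸ mul_mem (inv_mem hyJ) hy'J) hze
    refine hyc (mul_inv_eq_iff_eq_mul.1 ?_).symm
    calc z * y * z⁻¹ = r * (r * y * r⁻¹) * r⁻¹ := by rw [← hr2]; group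
      _ = r * (y * e) * r⁻¹ := by rw [← hy', he, mul_inv_cancel_left]
      _ = (r * y * r⁻¹) * (r * e * r⁻¹) := by group
      _ = y * e * e := by
        rw [hre.eq, mul_inv_cancel_right, ← hy', show y' = y * e by rw [he, mul_inv_cancel_left]]
      _ = y := by rw [mul_assoc, he2, mul_one]
  obtain ⟨w, hw⟩ := R.exists_moved hf1
  obtain ⟨j, hj, rfl⟩ := Du.pr_surj w
  set k := r * j * r⁻¹ * j⁻¹ with hk
  have hkJ : k ∈ Du.J := mul_mem (Du.conj_mem hru hj) (inv_mem hj)
  have hpk : Du.pr k = R.r (Du.ph r) (Du.pr j) + Du.pr j := by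
    rw [hk, Du.pr_mul _ (Du.conj_mem hru hj) _ (inv_mem hj), Du.pr_act r hru j hj, Du.pr_inv hj]
  have hperp : ∀ x ∈ Du.J, Commute x z → R.B (Du.pr k) (Du.pr x) = 0 := fun x hx hxz =>
    hpk ▸ D.other_perp hT Du hcu hz hr hX hru hx hxz _
  have hW : ∀ w', ∃ y ∈ Du.J, Commute y z ∧ Du.pr y = R.r (Du.ph z) w' + w' := fun w' => by
    obtain ⟨j', hj', rfl⟩ := Du.pr_surj w'
    refine ⟨_, mul_mem (Du.conj_mem hcu hj') (inv_mem hj'), hall j' hj', ?_⟩
    rw [Du.pr_mul _ (Du.conj_mem hcu hj') _ (inv_mem hj'), Du.pr_act z hcu j' hj', Du.pr_inv hj']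
  have hkfix : R.r (Du.ph z) (Du.pr k) = Du.pr k := R.fix_of_perp hf fun w' => by
    obtain ⟨y, hyJ, hyz, e⟩ := hW w'
    rw [← e, R.B_comm]
    exact hperp y hyJ hyz
  have hflip : ∀ i ∈ Du.J, R.r (Du.ph z) (Du.pr i) = Du.pr i → Commute i z ∨ z * i * z⁻¹ = i * u :=
    fun i hi e => (Du.eq_of_pr hi (Du.conj_mem hcu hi) (by rw [Du.pr_act z hcu i hi, e])).imp_left
      fun q => (mul_inv_eq_iff_eq_mul.1 q).symm
  rcases hflip k hkJ hkfix with hkz | hkz
  · refine hw ?_
    have hrk : Commute r k := D.comm_other hT Du hcu hz hr hX hru hkJ hkz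
    have e : z * j * z⁻¹ = k * (k * j) := by
      calc z * j * z⁻¹ = r * (r * j * r⁻¹) * r⁻¹ := by rw [← hr2]; group
        _ = r * (k * j) * r⁻¹ := by rw [hk, inv_mul_cancel_right]
        _ = (r * k * r⁻¹) * (r * j * r⁻¹) := by group
        _ = k * (r * j * r⁻¹) := by rw [hrk.eq, mul_inv_cancel_right]
        _ = k * (k * j) := by rw [hk, inv_mul_cancel_right]
    rw [← Du.pr_act z hcu j hj, e, Du.pr_mul _ hkJ _ (mul_mem hkJ hj), Du.pr_mul _ hkJ _ hj, ← add_assoc,
      two_self, zero_add]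
  · obtain ⟨w', hw'⟩ := R.range_of_perp hf (k := Du.pr k) fun v hv => by
      obtain ⟨i, hi, rfl⟩ := Du.pr_surj v
      rcases hflip i hi hv with hiz | hiz
      · exact hperp i hi hiz
      have hik : Commute (i * k) z := (mul_inv_eq_iff_eq_mul.1 (by
        calc z * (i * k) * z⁻¹ = (z * i * z⁻¹) * (z * k * z⁻¹) := by group
          _ = i * (u * k) * u := by rw [hiz, hkz]; group
          _ = i * k * (u * u) := by rw [← (Du.J_comm k hkJ).eq]; group
          _ = i * k := by rw [Du.z_sq, mul_one])).symm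
      have := hperp _ (mul_mem hi hkJ) hik
      rwa [Du.pr_mul _ hi _ hkJ, R.B_add_right, R.B_smul_self, add_zero] at this
    obtain ⟨y, hyJ, hyz, ey⟩ := hW w'
    have hkc : Commute k z := by
      rcases Du.eq_of_pr hyJ hkJ (ey.trans hw') with e | e <;> rw [e]
      exacts [hyz, hyz.mul_left hcu.symm]
    rw [hkc.symm.eq, mul_inv_cancel_right] at hkz
    exact Du.z_ne (mul_eq_left.1 hkz.symm)

end Cd

end CfsgLib.U62Cent
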