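import Cfsg.Agent.U62Cent.Geometry
import Cfsg.Agent.Fischer.Basic

/-!
The component of the centre in the commuting graph of members: a connected twin-free class of transpositions.
-/

set_option autoImplicit false
set_option maxRecDepth 100000
set_option maxHeartbeats 1000000
set_option linter.style.haveILetI false
set_option linter.unusedSectionVars false

open scoped Matrix

namespace CfsgLib.U62Cent

open CfsgLib Subgroup
open CfsgLib.FiLarge (F4 om omp)
open CfsgLib.Unitary (suMat suMat_mul suMat_one su_ext su_preserves)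

variable {G : Type*} [Group G] [Finite G] {z : G}

/-- Members with a common neighbour. -/
def Near (z a b : G) : Prop := ∃ v, Mem z v ∧ Commute v a ∧ Commute v b

theorem Near.symm {a b : G} (h : Near z a b) : Near z b a :=
  let ⟨v, hv, h1, h2⟩ := h; ⟨v, hv, h2, h1⟩

theorem near_of_commute {a b : G} (hb : Mem z b) (h : Commute a b) : Near z a b :=
  ⟨b, hb, h.symm, Commute.refl b⟩

/-- The component of the centre. -/
def Om (z : G) : Set G := {x | Mem z x ∧ Near z z x}

theorem z_Om (z : G) : z ∈ Om z := ⟨mem_self z, near_of_commute (mem_self z) (Commute.refl z)⟩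

namespace Cd

variable (D : Cd z R4) (hn : HasNb z)

include D hn

/-- The neighbour relation has diameter two. -/
theorem near_step {a x y : G} (ha : Mem z a) (hx : Mem z x) (hy : Mem z y) (h : Near z a x)
    (cxy : Commute x y) : Near z a y := by
  obtain ⟨w, hw, cwa, cwx⟩ := h
  by_cases cwy : Commute w y
  · exact ⟨w, hw, cwa, cwy⟩
  by_cases cxa : Commute x a
  · exact ⟨x, hx, cxa, cxy⟩
  obtain ⟨v, hv, hvx, cvx, cvw, cvy⟩ := D.common hn hx hw hy cwx cxy.symm
  by_cases cva : Commute v a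
  · exact ⟨v, hv, cva, cvy⟩
  obtain ⟨u, hu, cua, hl⟩ :=
    D.gamma hn hw hx hv ha cwx cvw.symm cwa cvx.symm (Ne.symm hvx) fun h => cxa h.symm
  exact ⟨u, hu, cua, (hl y hy cxy.symm cvy.symm).symm⟩

theorem Om_step {x y : G} (hx : x ∈ Om z) (hy : Mem z y) (h : Commute x y) : y ∈ Om z :=
  ⟨hy, D.near_step hn (mem_self z) hx.1 hy hx.2 h⟩

theorem Om_cent {x : G} (hx : Mem z x) (h : Commute x z) : x ∈ Om z := D.Om_step hn (z_Om z) hx h.symm

theorem fib_Om {p : V4} {a : G} (ha : a ∈ D.fib p) : a ∈ Om z := D.Om_cent hn ha.1 ha.2.1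

theorem Om_near {a b : G} (ha : a ∈ Om z) (hb : b ∈ Om z) : Near z a b := by
  obtain ⟨v, hv, cvz, cvb⟩ := hb.2
  exact D.near_step hn ha.1 hv hb.1 (D.near_step hn ha.1 (mem_self z) hv ha.2.symm cvz.symm) cvb

theorem Om_cube {a b : G} (ha : a ∈ Om z) (hb : b ∈ Om z) (h : ¬ Commute a b) : (a * b) ^ 3 = 1 := by
  obtain ⟨v, hv, h1, h2⟩ := D.Om_near hn ha hb
  exact D.cube hv ha.1 hb.1 h1 h2 h

theorem Om_conj {a b : G} (ha : a ∈ Om z) (hb : b ∈ Om z) : a * b * a ∈ Om z := by
  obtain ⟨v, hv, h1, h2⟩ := D.Om_near hn ha hb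
  refine D.Om_step hn (D.Om_step hn ha hv h1.symm) ?_ ((h1.mul_right h2).mul_right h1)
  have := hb.1.conj a
  rwa [D.mem_inv ha.1] at this

theorem orderOf_mem {a : G} (ha : Mem z a) : orderOf a = 2 :=
  orderOf_eq_prime (by rw [pow_two]; exact D.mem_sq ha) fun e => by
    obtain ⟨g, rfl⟩ := ha
    exact D.z_ne (conj_eq_one_iff.1 e)

theorem Om_closed : Fischer.Closed (Om z) where
  tts := by
    refine ⟨fun d hd => D.orderOf_mem hn hd.1, fun a ha b hb => ?_⟩
    by_cases h : Commute a b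
    · exact Or.inl (ThreeT.sq_of_commute (D.orderOf_mem hn ha.1) (D.orderOf_mem hn hb.1) h)
    · exact Or.inr (D.Om_cube hn ha hb h)
  conj a ha b hb := D.Om_conj hn ha hb

theorem Om_conn : Fischer.Conn (Om z) := by
  intro a ha b hb
  obtain ⟨v, hv, h1, h2⟩ := D.Om_near hn ha hb
  have hvO := D.Om_step hn ha hv h1.symm
  exact Relation.ReflTransGen.tail (Fischer.Link.of_commute ha hvO h1.symm) ⟨hvO, hb, h2⟩

theorem Om_edge : Fischer.Edge (Om z) := by
  obtain ⟨d, hd⟩ := D.fib_ex hn p0_pt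
  exact ⟨z, z_Om z, d, D.fib_Om hn hd, (D.fib_ne_z p0_pt hd).symm, hd.2.1.symm⟩

theorem braid_conj {a b : G} (ha : a ∈ Om z) (hb : b ∈ Om z) (h : ¬ Commute a b) :
    a * b * a * (a * b)⁻¹ = b := by
  rw [(D.Om_closed hn).braid ha hb h]
  group

theorem Om_class : Fischer.OneClass (Om z) := by
  intro a ha b hb
  by_cases h : Commute a b
  · by_cases hne : a = b
    · exact ⟨1, one_mem _, by rw [hne]; group⟩
    obtain ⟨x, hx, hax, hbx, cax, cbx⟩ := D.third ha.1 hb.1 h hne
    obtain ⟨d, hd, cdx, cda, cdb⟩ := D.apart hn hx ha.1 hb.1 cax cbx hax hbx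
    have hdO : d ∈ Om z := D.Om_step hn (D.Om_step hn ha hx cax) hd cdx.symm
    refine ⟨(d * b) * (a * d), mul_mem (mul_mem (subset_closure hdO) (subset_closure hb))
      (mul_mem (subset_closure ha) (subset_closure hdO)), ?_⟩
    have e1 : a * d * a * (a * d)⁻¹ = d := D.braid_conj hn ha hdO fun q => cda q.symm
    have e2 : d * b * d * (d * b)⁻¹ = b := D.braid_conj hn hdO hb cdb
    calc d * b * (a * d) * a * (d * b * (a * d))⁻¹
        = d * b * (a * d * a * (a * d)⁻¹) * (d * b)⁻¹ := by group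
      _ = _ := by rw [e1, e2]
  · exact ⟨a * b, mul_mem (subset_closure ha) (subset_closure hb), D.braid_conj hn ha hb h⟩

theorem Om_noTwins : Fischer.NoTwins (Om z) := by
  constructor
  · intro a ha b hb hab
    by_contra hne
    have h : Commute a b := (hab b hb).2 (Commute.refl b)
    obtain ⟨d, hd, cda, cdb, -⟩ := D.apart hn ha.1 hb.1 hb.1 h.symm h.symm (Ne.symm hne) (Ne.symm hne)
    have hdO := D.Om_step hn ha hd cda.symm
    exact cdb ((hab d hdO).1 cda.symm).symm
  · intro a ha b hb hab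
    by_contra hne
    by_cases h : Commute a b
    · have hm : b ∈ ThreeT.Prod.nb (Om z) a := ⟨hb, Ne.symm hne, h⟩
      rw [hab] at hm
      exact hm.2.1 rfl
    obtain ⟨v, hv, cva, cvb⟩ := D.Om_near hn ha hb
    obtain ⟨Dv⟩ := D.view hv
    obtain ⟨p, hp, fa⟩ := Dv.mem_fib (hv.symm.trans ha.1) cva.symm fun e => h (by rw [e]; exact cvb)
    obtain ⟨q, hq, fb⟩ := Dv.mem_fib (hv.symm.trans hb.1) cvb.symm fun e => h (by rw [e]; exact cva.symm)
    obtain ⟨c, hc, hca⟩ := Set.exists_ne_of_one_lt_ncard (by rw [Dv.fib_card hp fa]; norm_num) a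
    have cac : Commute a c := Dv.fib_same hp fa hc
    have hm : c ∈ ThreeT.Prod.nb (Om z) a := ⟨D.Om_step hn ha (hv.trans hc.1) cac, hca, cac⟩
    rw [hab] at hm
    exact h ((Dv.fib_comm_iff hp hq fa fb).2
      (h4_zero_iff.1 ((Dv.fib_comm_iff hq hp fb hc).1 hm.2.2)))

theorem nb_z : ThreeT.Prod.nb (Om z) z = {d | ∃ p, IsPt4 p ∧ d ∈ D.fib p} := by
  ext d
  constructor
  · rintro ⟨hd, hne, hc⟩
    exact D.mem_fib hd.1 hc.symm hne
  · rintro ⟨p, hp, hd⟩
    exact ⟨D.fib_Om hn hd, D.fib_ne_z hp hd, hd.2.1.symm⟩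

theorem nb_card : (ThreeT.Prod.nb (Om z) z).ncard = 180 := by
  classical
  haveI := Fintype.ofFinite G
  set N := (ThreeT.Prod.nb (Om z) z).toFinset with hN
  set P := Finset.univ.filter fun q : V4 => IsPt4 q
  have hmemN : ∀ d, d ∈ N ↔ ∃ p, IsPt4 p ∧ d ∈ D.fib p := fun d => by
    rw [hN, Set.mem_toFinset, D.nb_z hn]; rfl
  have h1 : ∀ p ∈ P, (N.filter fun d => d ∈ D.fib p).card = 4 := by
    intro p hp
    have hp' : IsPt4 p := (Finset.mem_filter.1 hp).2
    obtain ⟨u, hu⟩ := D.fib_ex hn hp'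
    rw [show N.filter (fun d => d ∈ D.fib p) = (D.fib p).toFinset by
      ext d
      simp only [Finset.mem_filter, hmemN, Set.mem_toFinset]
      exact ⟨fun h => h.2, fun h => ⟨⟨p, hp', h⟩, h⟩⟩, ← Set.ncard_eq_toFinset_card', D.fib_card hp' hu]
  have h2 : ∀ d ∈ N, (P.filter fun p => d ∈ D.fib p).card = 3 := by
    intro d hd
    obtain ⟨p, hp, hdp⟩ := (hmemN d).1 hd
    rw [← pt_scalars p hp]
    refine congrArg Finset.card (Finset.filter_congr fun q hq => ?_)
    constructor
    · exact fun h => tvp_eq_smul hp (Finset.mem_filter.1 hq).2 (hdp.2.2.symm.trans h.2.2)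
    · rintro ⟨c, hc, rfl⟩
      rw [D.fib_smul hp hc]
      exact hdp
  have hsum : ∑ p ∈ P, (N.filter fun d => d ∈ D.fib p).card = ∑ d ∈ N, (P.filter fun p => d ∈ D.fib p).card := by
    simp only [Finset.card_filter]
    rw [Finset.sum_comm]
  rw [Finset.sum_const_nat h1, Finset.sum_const_nat h2, pts_card] at hsum
  rw [Set.ncard_eq_toFinset_card', ← hN]
  omega

theorem Om_odd : Odd (Om z).ncard := by
  classical
  haveI := Fintype.ofFinite G
  haveI : Fact (Nat.Prime 2) := ⟨Nat.prime_two⟩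
  set O := (Om z).toFinset with hO
  have hC := D.Om_closed hn
  let σ : Equiv.Perm O :=
    { toFun := fun x => ⟨z * x * z, Set.mem_toFinset.2 (D.Om_conj hn (z_Om z) (Set.mem_toFinset.1 x.2))⟩
      invFun := fun x => ⟨z * x * z, Set.mem_toFinset.2 (D.Om_conj hn (z_Om z) (Set.mem_toFinset.1 x.2))⟩
      left_inv := fun x => Subtype.ext (hC.conj_conj (z_Om z) _)
      right_inv := fun x => Subtype.ext (hC.conj_conj (z_Om z) _) }
  have hσ : σ ^ 2 ^ 1 = 1 := Equiv.ext fun x => Subtype.ext (hC.conj_conj (z_Om z) _)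
  have h := Equiv.Perm.card_compl_support_modEq (p := 2) (n := 1) hσ
  have hfix : (σ.supportᶜ).map (Function.Embedding.subtype _) = insert z (ThreeT.Prod.nb (Om z) z).toFinset := by
    ext x
    simp only [Finset.mem_map, Finset.mem_compl, Equiv.Perm.mem_support, not_not, Finset.mem_insert,
      Set.mem_toFinset, Function.Embedding.coe_subtype]
    constructor
    · rintro ⟨y, hy, rfl⟩
      by_cases e : (y : G) = z
      · exact Or.inl e
      · exact Or.inr ⟨Set.mem_toFinset.1 y.2, e, (hC.fix_iff (z_Om z) _).1 (congrArg Subtype.val hy)⟩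
    · intro hx
      have hxO : x ∈ Om z := hx.elim (fun e => e ▸ z_Om z) fun h => h.1
      refine ⟨⟨x, Set.mem_toFinset.2 hxO⟩, Subtype.ext ((hC.fix_iff (z_Om z) _).2 ?_), rfl⟩
      exact hx.elim (fun e => e.symm ▸ Commute.refl z) fun h => h.2.2
  have hc := congrArg Finset.card hfix
  rw [Finset.card_map, Finset.card_insert_of_notMem (fun h => (Set.mem_toFinset.1 h).2.1 rfl),
    ← Set.ncard_eq_toFinset_card', D.nb_card hn] at hc
  rw [hc, Fintype.card_coe] at h
  rw [Set.ncard_eq_toFinset_card', ← hO, Nat.odd_iff]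
  exact h.symm

/-- An involution permuting the component fixes a member. -/
theorem exists_fixed_point {d : G} (hd2 : d * d = 1) (hstab : ∀ x ∈ Om z, d * x * d⁻¹ ∈ Om z) :
    ∃ w ∈ Om z, Commute d w := by
  classical
  haveI := Fintype.ofFinite G
  haveI : Fact (Nat.Prime 2) := ⟨Nat.prime_two⟩
  have dinv : d⁻¹ = d := inv_eq_of_mul_eq_one_right hd2
  have hcc : ∀ x : G, d * (d * x * d⁻¹) * d⁻¹ = x := fun x => by
    rw [dinv, show d * (d * x * d) * d = d * d * x * (d * d) by group, hd2, one_mul, mul_one]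
  let σ : Equiv.Perm (Om z).toFinset :=
    { toFun := fun x => ⟨d * x * d⁻¹, Set.mem_toFinset.2 (hstab _ (Set.mem_toFinset.1 x.2))⟩
      invFun := fun x => ⟨d * x * d⁻¹, Set.mem_toFinset.2 (hstab _ (Set.mem_toFinset.1 x.2))⟩
      left_inv := fun x => Subtype.ext (hcc _)
      right_inv := fun x => Subtype.ext (hcc _) }
  have hσ : σ ^ 2 ^ 1 = 1 := Equiv.ext fun x => Subtype.ext (hcc _)
  have h := Equiv.Perm.card_compl_support_modEq (p := 2) (n := 1) hσ
  have hodd := D.Om_odd hn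
  rw [Set.ncard_eq_toFinset_card', Nat.odd_iff, ← Fintype.card_coe] at hodd
  obtain ⟨x, hx⟩ := Finset.card_pos.1 (show 0 < σ.supportᶜ.card by
    rcases Nat.eq_zero_or_pos σ.supportᶜ.card with e | e
    · rw [e] at h
      have h' : 0 % 2 = Fintype.card (Om z).toFinset % 2 := h
      omega
    · exact e)
  simp only [Finset.mem_compl, Equiv.Perm.mem_support, not_not] at hx
  exact ⟨x, Set.mem_toFinset.1 x.2, mul_inv_eq_iff_eq_mul.1 (congrArg Subtype.val hx)⟩

/-- Elements of the generated group preserve the component. -/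
theorem Y_stab {g : G} (hg : g ∈ closure (Om z)) {x : G} (hx : x ∈ Om z) : g * x * g⁻¹ ∈ Om z :=
  (D.Om_closed hn).conj_mem hg x hx

/-- Members in the generated group belong to the component. -/
theorem mem_Y_Om {d : G} (hd : Mem z d) (hdY : d ∈ closure (Om z)) : d ∈ Om z := by
  obtain ⟨w, hw, hc⟩ := D.exists_fixed_point hn (D.mem_sq hd) fun x hx => D.Y_stab hn hdY hx
  exact D.Om_step hn hw hd hc.symm

end Cd

end CfsgLib.U62Cent
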