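import Cfsg.Agent.U62Cent.Model

/-!
Eight-dimensional orthogonal representations of the unitary group split along the diagonal subgroup.
-/

set_option autoImplicit false
set_option maxRecDepth 100000
set_option linter.style.haveILetI false
set_option linter.unusedSectionVars false

open scoped Matrix

namespace CfsgLib.U62Cent

open CfsgLib.FiLarge (F4 om omp)

/-- The group. -/
abbrev U4 : Type := ↥(Cfsg.SU 4 F4 2)

/-- A faithful orthogonal representation on 256 vectors. -/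
structure Rep (V : Type*) [AddCommGroup V] [Module (ZMod 2) V] where
  /-- The action. -/
  r : U4 →* (V ≃ₗ[ZMod 2] V)
  inj : Function.Injective r
  card : Nat.card V = 256
  /-- The form. -/
  q : QuadraticForm (ZMod 2) V
  inv : ∀ g v, q (r g v) = q v
  nondeg : ∀ v, (∀ w, QuadraticMap.polar q v w = 0) → v = 0

/-- The exponents of the diagonal elements. -/
abbrev LT : Type := {l : Fin 4 → ZMod 3 // ∑ i, l i = 0}

/-- The pairing of a character and an exponent. -/
def pair4 (c : Fin 4 → ZMod 3) (l : LT) : ZMod 3 := ∑ i, c i * l.1 i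

/-- Representatives of the nontrivial characters up to sign. -/
def chs : Fin 13 → Fin 4 → ZMod 3 :=
  ![![1, 0, 0, 0], ![0, 1, 0, 0], ![0, 0, 1, 0], ![1, 1, 1, 0], ![1, 1, 0, 0], ![1, 0, 1, 0], ![0, 1, 1, 0],
    ![1, 2, 0, 0], ![1, 0, 2, 0], ![0, 1, 2, 0], ![1, 1, 2, 0], ![1, 2, 1, 0], ![1, 2, 2, 0]]

/-- The four blocks of the natural module. -/
def natBlk : Fin 4 → Fin 13 := ![0, 1, 2, 3]

/-- The three blocks of the reducible module. -/
def triBlk : Fin 3 → Fin 13 := ![4, 5, 6]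

theorem chs_surj : ∀ (k : Fin 13) (a : ZMod 3), ∃ l : LT, pair4 (chs k) l = a := by decide +kernel

theorem chs_count : ∀ l : LT,
    (((Finset.univ.filter fun k => pair4 (chs k) l = 0).card : ℕ) : ZMod 2) = if l.1 = 0 then 1 else 0 := by
  decide +kernel

theorem chs_meet : ∀ (k m : Fin 13) (a : ZMod 3), k ≠ m →
    (((Finset.univ.filter fun l : LT => pair4 (chs m) l = 0 ∧ pair4 (chs k) l = a).card : ℕ) : ZMod 2) = 1 := by
  decide +kernel

theorem chs_fibre : ∀ (k : Fin 13) (a : ZMod 3),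
    (((Finset.univ.filter fun l : LT => pair4 (chs k) l = a).card : ℕ) : ZMod 2) = 1 := by
  decide +kernel

theorem chs_ker_odd : ∀ k : Fin 13,
    (((Finset.univ.filter fun l : LT => pair4 (chs k) l = 0).card : ℕ) : ZMod 2) = 1 := by
  decide +kernel

theorem chs_orbit : ∀ k : Fin 13,
    (∃ τ : Equiv.Perm (Fin 4), ∀ l : LT, pair4 (chs 0) l = 0 ↔ ∑ i, chs k i * l.1 (τ i) = 0) ∨
    (∃ τ : Equiv.Perm (Fin 4), ∀ l : LT, pair4 (chs 4) l = 0 ↔ ∑ i, chs k i * l.1 (τ i) = 0) ∨
    (∃ τ : Equiv.Perm (Fin 4), ∀ l : LT, pair4 (chs 7) l = 0 ↔ ∑ i, chs k i * l.1 (τ i) = 0) := by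
  decide +kernel

theorem chs_orbit_nat : ∀ i : Fin 4, ∃ τ : Equiv.Perm (Fin 4),
    ∀ l : LT, pair4 (chs (natBlk i)) l = 0 ↔ ∑ j, chs 0 j * l.1 (τ j) = 0 := by decide +kernel

theorem chs_orbit_tri : ∀ i : Fin 3, ∃ τ : Equiv.Perm (Fin 4),
    ∀ l : LT, pair4 (chs (triBlk i)) l = 0 ↔ ∑ j, chs 4 j * l.1 (τ j) = 0 := by decide +kernel

theorem chs_orbit_six : ∀ k : Fin 13, 7 ≤ k.val → ∃ τ : Equiv.Perm (Fin 4),
    ∀ l : LT, pair4 (chs k) l = 0 ↔ ∑ j, chs 7 j * l.1 (τ j) = 0 := by decide +kernel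

theorem blk_cases : ∀ k : Fin 13,
    (k.val < 4 ∧ ∃ i, k = natBlk i) ∨ (4 ≤ k.val ∧ k.val < 7 ∧ ∃ i, k = triBlk i) ∨ 7 ≤ k.val := by decide +kernel

theorem lt_sum : ∀ (l : LT) (τ : Equiv.Perm (Fin 4)), ∑ i, l.1 (τ i) = 0 := fun l τ => by
  rw [Equiv.sum_comp τ l.1, l.2]

variable {V : Type*} [AddCommGroup V] [Module (ZMod 2) V]

theorem two_self (v : V) : v + v = 0 := by
  rw [← two_smul (ZMod 2) v, show (2 : ZMod 2) = 0 by decide, zero_smul]

theorem eq_of_sum_zero {a b : V} (h : a + b = 0) : a = b := by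
  rw [eq_neg_of_add_eq_zero_left h, neg_eq_of_add_eq_zero_left (two_self b)]

theorem nsmul_two (n : ℕ) (v : V) : n • v = ((n : ℕ) : ZMod 2) • v := by rw [Nat.cast_smul_eq_nsmul]

namespace Rep

variable (R : Rep V)

/-- The action of a diagonal element. -/
noncomputable def act (l : LT) : V →ₗ[ZMod 2] V := (R.r (dE l.1)).toLinearMap

theorem act_add (l m : LT) (v : V) (s : LT) (hs : s.1 = l.1 + m.1) : R.act l (R.act m v) = R.act s v := by
  show R.r (dE l.1) (R.r (dE m.1) v) = R.r (dE s.1) v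
  rw [hs, dE_add l.2 m.2, map_mul]; rfl

theorem act_zero (l : LT) (hl : l.1 = 0) (v : V) : R.act l v = v := by
  show R.r (dE l.1) v = v
  rw [hl, dE_zero, map_one]; rfl

/-- The sum over the whole diagonal subgroup. -/
noncomputable def e0 : V →ₗ[ZMod 2] V := ∑ l : LT, R.act l

/-- The sum over the kernel of a character. -/
noncomputable def ek (k : Fin 13) : V →ₗ[ZMod 2] V :=
  ∑ l ∈ Finset.univ.filter (fun l : LT => pair4 (chs k) l = 0), R.act l

/-- The projection to a block. -/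
noncomputable def bk (k : Fin 13) : V →ₗ[ZMod 2] V := R.ek k + R.e0

/-- The fixed vectors. -/
def X0 : Submodule (ZMod 2) V where
  carrier := {v | ∀ l, R.act l v = v}
  add_mem' := fun ha hb l => by rw [map_add, ha l, hb l]
  zero_mem' := fun l => map_zero _
  smul_mem' := fun c v hv l => by rw [map_smul, hv l]

/-- A block. -/
noncomputable def X (k : Fin 13) : Submodule (ZMod 2) V where
  carrier := {v | (∀ l, pair4 (chs k) l = 0 → R.act l v = v) ∧ R.e0 v = 0}
  add_mem' := fun ha hb => ⟨fun l hl => by rw [map_add, ha.1 l hl, hb.1 l hl], by rw [map_add, ha.2, hb.2, add_zero]⟩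
  zero_mem' := ⟨fun l _ => map_zero _, map_zero _⟩
  smul_mem' := fun c v hv => ⟨fun l hl => by rw [map_smul, hv.1 l hl], by rw [map_smul, hv.2, smul_zero]⟩

theorem pair4_add (c : Fin 4 → ZMod 3) (l m s : LT) (hs : s.1 = l.1 + m.1) :
    pair4 c s = pair4 c l + pair4 c m := by
  simp [pair4, hs, mul_add, Finset.sum_add_distrib]

/-- Translation of exponents. -/
def shift (m : LT) : LT ≃ LT where
  toFun l := ⟨m.1 + l.1, by simp [Finset.sum_add_distrib, m.2, l.2]⟩
  invFun l := ⟨l.1 - m.1, by simp [Finset.sum_sub_distrib, m.2, l.2]⟩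
  left_inv l := Subtype.ext (by simp)
  right_inv l := Subtype.ext (by simp)

theorem e0_mem (v : V) : R.e0 v ∈ R.X0 := fun m => by
  simp only [e0, LinearMap.sum_apply, map_sum]
  refine Fintype.sum_equiv (shift m) _ _ fun l => ?_
  exact R.act_add m l v _ rfl

theorem e0_X0 {v : V} (hv : v ∈ R.X0) : R.e0 v = v := by
  simp only [e0, LinearMap.sum_apply]
  rw [Finset.sum_congr rfl fun l _ => hv l, Finset.sum_const, nsmul_two,
    show ((Finset.univ : Finset LT).card : ZMod 2) = 1 by decide +kernel, one_smul]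

theorem ek_X0 {v : V} (hv : v ∈ R.X0) (k : Fin 13) : R.ek k v = v := by
  simp only [ek, LinearMap.sum_apply]
  rw [Finset.sum_congr rfl fun l _ => hv l, Finset.sum_const, nsmul_two, chs_ker_odd, one_smul]

theorem e0_ek (k : Fin 13) (v : V) : R.e0 (R.ek k v) = R.e0 v := by
  have h : ∀ m : LT, R.e0 (R.act m v) = R.e0 v := fun m => by
    simp only [e0, LinearMap.sum_apply]
    refine Fintype.sum_equiv (shift m) _ _ fun l => ?_
    exact R.act_add l m v _ (add_comm m.1 l.1)
  simp only [ek, LinearMap.sum_apply, map_sum]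
  rw [Finset.sum_congr rfl fun l _ => h l, Finset.sum_const, nsmul_two, chs_ker_odd, one_smul]

theorem bk_mem (k : Fin 13) (v : V) : R.bk k v ∈ R.X k := by
  refine ⟨fun m hm => ?_, ?_⟩
  · rw [bk, LinearMap.add_apply, map_add, R.e0_mem v m]
    congr 1
    simp only [ek, LinearMap.sum_apply, map_sum]
    refine Finset.sum_equiv (shift m) (fun l => ?_) fun l _ => R.act_add m l v _ rfl
    simp only [Finset.mem_filter, Finset.mem_univ, true_and]
    rw [pair4_add (chs k) m l (shift m l) rfl, hm, zero_add]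
  · rw [bk, LinearMap.add_apply, map_add, R.e0_ek, R.e0_X0 (R.e0_mem v), two_self]

theorem sum_ek (v : V) : ∑ k, R.ek k v = v := by
  simp only [ek, LinearMap.sum_apply]
  rw [Finset.sum_comm' (t' := (Finset.univ : Finset LT))
    (s' := fun l => Finset.univ.filter fun k => pair4 (chs k) l = 0) (by simp)]
  rw [Finset.sum_congr rfl fun l _ => by rw [Finset.sum_const, nsmul_two, chs_count]]
  rw [Finset.sum_eq_single (⟨0, by simp⟩ : LT)]
  · rw [if_pos rfl, one_smul]; exact R.act_zero _ rfl v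
  · intro l _ hl
    rw [if_neg fun e => hl (Subtype.ext e), zero_smul]
  · exact fun h => absurd (Finset.mem_univ _) h

theorem decomp (v : V) : R.e0 v + ∑ k, R.bk k v = v := by
  simp only [bk, LinearMap.add_apply, Finset.sum_add_distrib, R.sum_ek, Finset.sum_const, Finset.card_univ,
    Fintype.card_fin]
  rw [nsmul_two, show ((13 : ℕ) : ZMod 2) = 1 by decide, one_smul, ← add_assoc, add_comm _ v, add_assoc, two_self,
    add_zero]

/-- The generator of a block. -/
noncomputable def gen (k : Fin 13) : LT := (chs_surj k 1).choose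

theorem gen_spec (k : Fin 13) : pair4 (chs k) (gen k) = 1 := (chs_surj k 1).choose_spec

/-- The scalar of a block. -/
noncomputable def rot (k : Fin 13) : V →ₗ[ZMod 2] V := R.act (gen k)

theorem act_X {k : Fin 13} {x : V} (hx : x ∈ R.X k) (l m : LT) (h : pair4 (chs k) l = pair4 (chs k) m) :
    R.act l x = R.act m x := by
  have hs : ∑ i, (l.1 - m.1) i = 0 := by simp [Finset.sum_sub_distrib, l.2, m.2]
  have hd : pair4 (chs k) ⟨l.1 - m.1, hs⟩ = 0 := by
    have := pair4_add (chs k) ⟨l.1 - m.1, hs⟩ m l (by simp)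
    rw [h] at this
    exact add_eq_right.1 this.symm
  rw [← R.act_add m ⟨l.1 - m.1, hs⟩ x l (by simp), hx.1 _ hd]

theorem act_X_zero {k : Fin 13} {x : V} (hx : x ∈ R.X k) {l : LT} (h : pair4 (chs k) l = 0) : R.act l x = x :=
  hx.1 l h

theorem act_X_one {k : Fin 13} {x : V} (hx : x ∈ R.X k) {l : LT} (h : pair4 (chs k) l = 1) :
    R.act l x = R.rot k x := R.act_X hx l _ (by rw [h, gen_spec])

theorem act_X_two {k : Fin 13} {x : V} (hx : x ∈ R.X k) {l : LT} (h : pair4 (chs k) l = 2) :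
    R.act l x = R.rot k (R.rot k x) := by
  have hs : ∑ i, ((gen k).1 + (gen k).1) i = 0 := by simp [Finset.sum_add_distrib, (gen k).2]
  rw [rot, R.act_add (gen k) (gen k) x ⟨_, hs⟩ rfl]
  refine R.act_X hx l _ ?_
  rw [h, pair4_add (chs k) (gen k) (gen k) ⟨_, hs⟩ rfl, gen_spec]
  decide

theorem rot_mem {k : Fin 13} {x : V} (hx : x ∈ R.X k) : R.rot k x ∈ R.X k := by
  refine ⟨fun l hl => ?_, ?_⟩
  · have hs : ∑ i, (l.1 + (gen k).1) i = 0 := by simp [Finset.sum_add_distrib, l.2, (gen k).2]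
    rw [rot, R.act_add l (gen k) x ⟨_, hs⟩ rfl]
    exact R.act_X hx _ _ (by rw [pair4_add (chs k) l (gen k) ⟨_, hs⟩ rfl, hl, zero_add])
  · have h : R.e0 (R.act (gen k) x) = R.e0 x := by
      simp only [e0, LinearMap.sum_apply]
      refine Fintype.sum_equiv (shift (gen k)) _ _ fun l => ?_
      exact R.act_add l (gen k) x _ (add_comm (gen k).1 l.1)
    exact h.trans hx.2

theorem sum_fibres (s : Finset LT) (k : Fin 13) (f : LT → V) (g : ZMod 3 → V)
    (hf : ∀ l ∈ s, f l = g (pair4 (chs k) l))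
    (hs : ∀ a, (((s.filter fun l => pair4 (chs k) l = a).card : ℕ) : ZMod 2) = 1) :
    ∑ l ∈ s, f l = ∑ a, g a := by
  rw [← Finset.sum_fiberwise s (fun l => pair4 (chs k) l) f]
  refine Finset.sum_congr rfl fun a _ => ?_
  have e : ∀ l ∈ s.filter (fun l => pair4 (chs k) l = a), f l = g a := fun l hl => by
    rw [Finset.mem_filter] at hl
    rw [hf l hl.1, hl.2]
  rw [Finset.sum_congr rfl e, Finset.sum_const, nsmul_two, hs a, one_smul]

/-- The orbit of a vector of a block. -/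
noncomputable def orb (k : Fin 13) (x : V) (a : ZMod 3) : V :=
  if a = 0 then x else if a = 1 then R.rot k x else R.rot k (R.rot k x)

theorem sum_orb (k : Fin 13) (x : V) : ∑ a, R.orb k x a = x + R.rot k x + R.rot k (R.rot k x) := by
  rw [show (Finset.univ : Finset (ZMod 3)) = {0, 1, 2} by decide, Finset.sum_insert (by decide),
    Finset.sum_insert (by decide), Finset.sum_singleton, ← add_assoc]
  rfl

theorem act_orb {k : Fin 13} {x : V} (hx : x ∈ R.X k) (l : LT) : R.act l x = R.orb k x (pair4 (chs k) l) := by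
  rcases (by decide : ∀ a : ZMod 3, a = 0 ∨ a = 1 ∨ a = 2) (pair4 (chs k) l) with e | e | e <;> rw [e]
  exacts [R.act_X_zero hx e, R.act_X_one hx e, R.act_X_two hx e]

theorem orb_sum {k : Fin 13} {x : V} (hx : x ∈ R.X k) : x + R.rot k x + R.rot k (R.rot k x) = 0 := by
  have h := hx.2
  simp only [e0, LinearMap.sum_apply] at h
  rw [sum_fibres _ k _ (R.orb k x) (fun l _ => R.act_orb hx l) (chs_fibre k), R.sum_orb] at h
  exact h

theorem rot_ne {k : Fin 13} {x : V} (hx : x ∈ R.X k) (h : R.rot k x = x) : x = 0 := by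
  have := R.orb_sum hx
  rwa [h, h, two_self, zero_add] at this

theorem ek_other {k m : Fin 13} (hkm : k ≠ m) {x : V} (hx : x ∈ R.X k) : R.ek m x = 0 := by
  simp only [ek, LinearMap.sum_apply]
  rw [sum_fibres _ k _ (R.orb k x) (fun l _ => R.act_orb hx l) fun a => ?_, R.sum_orb]
  · exact R.orb_sum hx
  · rw [Finset.filter_filter]; exact chs_meet k m a hkm

theorem ek_self {k : Fin 13} {x : V} (hx : x ∈ R.X k) : R.ek k x = x := by
  simp only [ek, LinearMap.sum_apply]
  rw [Finset.sum_congr rfl fun l hl => R.act_X_zero hx (Finset.mem_filter.1 hl).2, Finset.sum_const, nsmul_two,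
    chs_ker_odd, one_smul]

theorem bk_self {k : Fin 13} {x : V} (hx : x ∈ R.X k) : R.bk k x = x := by
  rw [bk, LinearMap.add_apply, R.ek_self hx, hx.2, add_zero]

theorem bk_other {k m : Fin 13} (hkm : k ≠ m) {x : V} (hx : x ∈ R.X k) : R.bk m x = 0 := by
  rw [bk, LinearMap.add_apply, R.ek_other hkm hx, hx.2, add_zero]

theorem bk_X0 {x : V} (hx : x ∈ R.X0) (k : Fin 13) : R.bk k x = 0 := by
  rw [bk, LinearMap.add_apply, R.ek_X0 hx, R.e0_X0 hx, two_self]

/-- The vectors as tuples. -/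
noncomputable def split : V ≃ R.X0 × (∀ k, R.X k) where
  toFun v := (⟨R.e0 v, R.e0_mem v⟩, fun k => ⟨R.bk k v, R.bk_mem k v⟩)
  invFun p := (p.1 : V) + ∑ k, (p.2 k : V)
  left_inv v := R.decomp v
  right_inv p := by
    refine Prod.ext (Subtype.ext ?_) (funext fun k => Subtype.ext ?_)
    · show R.e0 ((p.1 : V) + ∑ k, (p.2 k : V)) = p.1
      rw [map_add, map_sum, R.e0_X0 p.1.2, Finset.sum_eq_zero fun k _ => (p.2 k).2.2, add_zero]
    · show R.bk k ((p.1 : V) + ∑ m, (p.2 m : V)) = p.2 k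
      rw [map_add, map_sum, R.bk_X0 p.1.2, zero_add, Finset.sum_eq_single k
        (fun m _ hm => R.bk_other hm (p.2 m).2) (fun h => absurd (Finset.mem_univ k) h), R.bk_self (p.2 k).2]

include R in
theorem finite : Finite V := Nat.finite_of_card_ne_zero (by rw [R.card]; norm_num)

theorem card_split : Nat.card R.X0 * ∏ k, Nat.card (R.X k) = 256 := by
  rw [← Nat.card_pi, ← Nat.card_prod, ← Nat.card_congr R.split, R.card]

theorem perm_act (τ : Equiv.Perm (Fin 4)) (l : LT) (v : V) :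
    R.r (pE τ) (R.act l v) = R.act ⟨fun i => l.1 (τ i), lt_sum l τ⟩ (R.r (pE τ) v) := by
  show R.r (pE τ) (R.r (dE l.1) v) = R.r (dE fun i => l.1 (τ i)) (R.r (pE τ) v)
  rw [← LinearEquiv.mul_apply, ← LinearEquiv.mul_apply, ← map_mul, ← map_mul, pE_dE l.2]

theorem perm_X0 (τ : Equiv.Perm (Fin 4)) {x : V} (hx : x ∈ R.X0) : R.r (pE τ) x ∈ R.X0 := fun l => by
  have h := R.perm_act τ ⟨fun i => l.1 (τ.symm i), lt_sum l τ.symm⟩ x
  rw [hx] at h
  refine Eq.trans ?_ h.symm
  congr 2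
  exact Subtype.ext (funext fun i => by simp)

theorem perm_X {k m : Fin 13} {τ : Equiv.Perm (Fin 4)}
    (h : ∀ l : LT, pair4 (chs k) l = 0 ↔ ∑ i, chs m i * l.1 (τ i) = 0) {x : V} (hx : x ∈ R.X k) :
    R.r (pE τ) x ∈ R.X m := by
  refine ⟨fun l hl => ?_, ?_⟩
  · have hp := R.perm_act τ ⟨fun i => l.1 (τ.symm i), lt_sum l τ.symm⟩ x
    rw [R.act_X_zero hx ((h _).2 (by simpa [pair4] using hl))] at hp
    refine Eq.trans ?_ hp.symm
    congr 2
    exact Subtype.ext (funext fun i => by simp)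
  · have h0 := hx.2
    simp only [e0, LinearMap.sum_apply] at h0 ⊢
    have h2 := congrArg (R.r (pE τ)) h0
    rw [map_zero, map_sum] at h2
    rw [← h2]
    refine (Finset.sum_equiv ⟨fun l => ⟨fun i => l.1 (τ i), lt_sum l τ⟩, fun l => ⟨fun i => l.1 (τ.symm i),
      lt_sum l τ.symm⟩, fun l => Subtype.ext (funext fun i => by simp), fun l => Subtype.ext (funext fun i => by simp)⟩
      (by simp) fun l _ => R.perm_act τ l x).symm

theorem card_le_perm {k m : Fin 13} {τ : Equiv.Perm (Fin 4)}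
    (h : ∀ l : LT, pair4 (chs k) l = 0 ↔ ∑ i, chs m i * l.1 (τ i) = 0) : Nat.card (R.X k) ≤ Nat.card (R.X m) :=
  haveI := R.finite
  Nat.card_le_card_of_injective (fun x => (⟨R.r (pE τ) x, R.perm_X h x.2⟩ : R.X m))
    fun _ _ e => Subtype.ext ((R.r (pE τ)).injective (congrArg Subtype.val e))

theorem four_le {k : Fin 13} {x : V} (hx : x ∈ R.X k) (h0 : x ≠ 0) : 4 ≤ Nat.card (R.X k) := by
  haveI := R.finite
  have h := R.orb_sum hx
  have h1 : R.rot k x ≠ x := fun e => h0 (R.rot_ne hx e)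
  have h2 : R.rot k x ≠ 0 := fun e => h0 (by rwa [e, map_zero, add_zero, add_zero] at h)
  have h3 : R.rot k (R.rot k x) = x + R.rot k x := (eq_of_sum_zero h).symm
  have h4 : R.rot k (R.rot k x) ≠ 0 := fun e => h1 (eq_of_sum_zero (h3.symm.trans e)).symm
  have h5 : R.rot k (R.rot k x) ≠ x := fun e => h2 (add_eq_left.1 (h3.symm.trans e))
  have h6 : R.rot k (R.rot k x) ≠ R.rot k x := fun e => h0 (add_eq_right.1 (h3.symm.trans e))
  let f : Fin 4 → R.X k := ![0, ⟨x, hx⟩, ⟨R.rot k x, R.rot_mem hx⟩, ⟨R.rot k (R.rot k x), R.rot_mem (R.rot_mem hx)⟩]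
  have hf : Function.Injective f := by
    intro i j e
    have e' : ((f i : R.X k) : V) = f j := congrArg Subtype.val e
    fin_cases i <;> fin_cases j <;> simp [f, h0, h1, h2, h4, h5, h6, h0.symm, h1.symm, h2.symm, h4.symm, h5.symm,
      h6.symm] at e' ⊢
  simpa using Nat.card_le_card_of_injective f hf

/-- The natural case. -/
def IsNat : Prop := (∀ i, Nat.card (R.X (natBlk i)) = 4) ∧ R.X0 = ⊥ ∧ ∀ k, 4 ≤ k.val → R.X k = ⊥

/-- The reducible case. -/
def IsTri : Prop :=
  (∀ i, Nat.card (R.X (triBlk i)) = 4) ∧ Nat.card R.X0 = 4 ∧ ∀ k, (k.val < 4 ∨ 7 ≤ k.val) → R.X k = ⊥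

theorem exists_block : ∃ k, R.X k ≠ ⊥ := by
  by_contra h
  push Not at h
  have hfix : ∀ l : LT, ∀ v, R.act l v = v := by
    intro l v
    have hd := R.decomp v
    rw [Finset.sum_eq_zero fun k _ => (Submodule.mem_bot (ZMod 2)).1 (h k ▸ R.bk_mem k v), add_zero] at hd
    rw [← hd]
    exact R.e0_mem v l
  have h1 : dE ![1, 2, 0, 0] = 1 := R.inj (by
    rw [map_one]; exact LinearEquiv.ext fun v => hfix ⟨![1, 2, 0, 0], by decide⟩ v)
  have h2 := congrArg CfsgLib.Unitary.suMat h1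
  rw [dE_mat (by decide), CfsgLib.Unitary.suMat_one] at h2
  exact absurd (congrFun (congrFun h2 0) 0) (by decide +kernel)

theorem prod_bound {a b c d : ℕ} (h : a * (b * c * d) = 256) (ha : 1 ≤ a) (hb : b ≥ 4096) (hc : 1 ≤ c)
    (hd : 1 ≤ d) : False := by
  nlinarith [Nat.mul_le_mul (Nat.mul_le_mul hb hc) hd]

/-- The two possible shapes. -/
theorem shapes : R.IsNat ∨ R.IsTri := by
  haveI := R.finite
  set n := fun k => Nat.card (R.X k)
  have hpos : ∀ k, 1 ≤ n k := fun k => Nat.card_pos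
  have h0 : 1 ≤ Nat.card R.X0 := Nat.card_pos
  have hne : ∀ k, R.X k ≠ ⊥ → 4 ≤ n k := fun k hk => by
    obtain ⟨x, hx, hx0⟩ := Submodule.exists_mem_ne_zero_of_ne_bot hk
    exact R.four_le hx hx0
  have hbot : ∀ k, n k ≤ 1 → R.X k = ⊥ := fun k hk => by
    by_contra h
    have := hne k h
    omega
  have h256 := R.card_split
  rw [Fin.prod_univ_succ, Fin.prod_univ_succ, Fin.prod_univ_succ, Fin.prod_univ_succ, Fin.prod_univ_succ,
    Fin.prod_univ_succ, Fin.prod_univ_succ, Fin.prod_univ_succ, Fin.prod_univ_succ, Fin.prod_univ_succ,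
    Fin.prod_univ_succ, Fin.prod_univ_succ, Fin.prod_univ_succ, Fin.prod_univ_zero, mul_one] at h256
  change Nat.card R.X0 * (n 0 * (n 1 * (n 2 * (n 3 * (n 4 * (n 5 * (n 6 * (n 7 * (n 8 * (n 9 * (n 10 *
    (n 11 * n 12)))))))))))) = 256 at h256
  have hAeq : ∀ i, n (natBlk i) = n 0 := fun i => by
    obtain ⟨τ, hτ⟩ := chs_orbit_nat i
    refine le_antisymm (R.card_le_perm hτ) ?_
    exact R.card_le_perm (τ := τ.symm) fun l => by
      have := hτ ⟨fun j => l.1 (τ.symm j), lt_sum l τ.symm⟩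
      simpa [pair4] using this.symm
  have hBeq : ∀ i, n (triBlk i) = n 4 := fun i => by
    obtain ⟨τ, hτ⟩ := chs_orbit_tri i
    refine le_antisymm (R.card_le_perm hτ) ?_
    exact R.card_le_perm (τ := τ.symm) fun l => by
      have := hτ ⟨fun j => l.1 (τ.symm j), lt_sum l τ.symm⟩
      simpa [pair4] using this.symm
  have hCeq : ∀ k : Fin 13, 7 ≤ k.val → n k = n 7 := fun k hk => by
    obtain ⟨τ, hτ⟩ := chs_orbit_six k hk
    refine le_antisymm (R.card_le_perm hτ) ?_
    exact R.card_le_perm (τ := τ.symm) fun l => by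
      have := hτ ⟨fun j => l.1 (τ.symm j), lt_sum l τ.symm⟩
      simpa [pair4] using this.symm
  have e1 : n 1 = n 0 := hAeq 1
  have e2 : n 2 = n 0 := hAeq 2
  have e3 : n 3 = n 0 := hAeq 3
  have e5 : n 5 = n 4 := hBeq 1
  have e6 : n 6 = n 4 := hBeq 2
  rw [e1, e2, e3, e5, e6, hCeq 8 (by decide), hCeq 9 (by decide), hCeq 10 (by decide), hCeq 11 (by decide),
    hCeq 12 (by decide)] at h256
  have h256' : Nat.card R.X0 * (n 0 ^ 4 * n 4 ^ 3 * n 7 ^ 6) = 256 := by rw [← h256]; ring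
  have hC : n 7 ≤ 1 := by
    by_contra hc
    have h7 : 4 ≤ n 7 := hne 7 fun e => hc (by simp [n, e])
    have hh : Nat.card R.X0 * (n 7 ^ 6 * n 0 ^ 4 * n 4 ^ 3) = 256 := by rw [← h256']; ring
    exact prod_bound hh h0 (Nat.pow_le_pow_left h7 6) (Nat.one_le_pow _ _ (hpos 0)) (Nat.one_le_pow _ _ (hpos 4))
  have hC1 : n 7 = 1 := le_antisymm hC (hpos 7)
  have hd0 : n 0 ∣ 256 := by
    rw [← R.card]
    exact AddSubgroup.card_addSubgroup_dvd_card (R.X 0).toAddSubgroup
  have hd4 : n 4 ∣ 256 := by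
    rw [← R.card]
    exact AddSubgroup.card_addSubgroup_dvd_card (R.X 4).toAddSubgroup
  rw [hC1, one_pow, mul_one] at h256'
  have hsix : ∀ k : Fin 13, 7 ≤ k.val → R.X k = ⊥ := fun k hk => hbot k (by rw [hCeq k hk, hC1])
  obtain ⟨k, hk⟩ := R.exists_block
  by_cases hA : R.X 0 = ⊥
  · have hA1 : n 0 = 1 := by simp [n, hA]
    have hnat : ∀ k : Fin 13, k.val < 4 → R.X k = ⊥ := fun k hk => hbot k (by
      rcases blk_cases k with ⟨-, i, rfl⟩ | ⟨h, -⟩ | h
      · rw [hAeq, hA1]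
      all_goals omega)
    have h4 : 4 ≤ n 4 := by
      refine hne 4 fun e => hk ?_
      rcases lt_or_ge k.val 4 with h | h
      · exact hnat k h
      rcases lt_or_ge k.val 7 with h' | h'
      · refine hbot k ?_
        obtain ⟨hlt, i, rfl⟩ | ⟨-, -, i, rfl⟩ | h'' := blk_cases k
        · omega
        · rw [hBeq]; simp [n, e]
        · omega
      · exact hsix k h'
    rw [hA1, one_pow, one_mul] at h256'
    have h4' : n 4 = 4 := by
      have hle : n 4 ^ 3 ≤ 256 := by
        rw [← h256']; exact Nat.le_mul_of_pos_left _ h0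
      have h7 : n 4 < 7 := by
        by_contra h
        push Not at h
        have := Nat.pow_le_pow_left h 3
        omega
      interval_cases hn : n 4 <;> simp_all
    refine Or.inr ⟨fun i => (hBeq i).trans h4', ?_, fun k hk => hk.elim (hnat k) (hsix k)⟩
    rw [h4'] at h256'
    omega
  · have h4 : 4 ≤ n 0 := hne 0 hA
    have hq := Nat.pow_le_pow_left h4 4
    have hr := Nat.one_le_pow 3 _ (hpos 4)
    have hp1 : 256 ≤ n 0 ^ 4 * n 4 ^ 3 := le_trans (by omega) (Nat.mul_le_mul hq hr)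
    have hx1 : Nat.card R.X0 = 1 := by nlinarith
    have hp2 : n 0 ^ 4 = 256 := by nlinarith
    have hB1 : n 4 ≤ 1 := by
      by_contra h
      push Not at h
      have := Nat.pow_le_pow_left h 3
      nlinarith
    have hA4 : n 0 = 4 := le_antisymm (by
      by_contra h
      push Not at h
      have := Nat.pow_le_pow_left (show 5 ≤ n 0 from h) 4
      omega) h4
    refine Or.inl ⟨fun i => (hAeq i).trans hA4, ?_, fun k hk => ?_⟩
    · rw [Submodule.eq_bot_iff]
      intro x hx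
      haveI : Subsingleton R.X0 := (Nat.card_eq_one_iff_unique.1 hx1).1
      exact congrArg Subtype.val (Subsingleton.elim (⟨x, hx⟩ : R.X0) 0)
    · rcases lt_or_ge k.val 7 with h' | h'
      · refine hbot k ?_
        obtain ⟨h'', -⟩ | ⟨-, -, i, rfl⟩ | h'' := blk_cases k
        · omega
        · rw [hBeq]; exact hB1
        · omega
      · exact hsix k h'

end Rep

end CfsgLib.U62Cent
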