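import Cfsg.Agent.U62Cent.ExtSetting

/-!
In natural coordinates of extended type the centre is conjugate to no further element of its radical.
-/

set_option autoImplicit false
set_option maxRecDepth 100000
set_option maxHeartbeats 1000000
set_option linter.style.haveILetI false
set_option linter.unusedSectionVars false

open scoped Matrix

namespace CfsgLib.U62Cent

open CfsgLib Subgroup
open CfsgLib.FiLarge (F4 om omp)
open CfsgLib.Unitary (suMat suMat_mul suMat_one su_ext su_preserves)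

variable {G : Type*} [Group G] [Finite G] {z : G}

namespace Ce

theorem fusion_core (D : Ce z R4 tauF) {s : G} (Ds : Ce s R4 tauF) (hs : s ∈ D.J) (hz : z ∈ Ds.J) (hne : s ≠ z)
    (h1 : D.pr s = p0) (h2 : Ds.pr z = p0) : False := by
  have hp : p0 ≠ 0 := p0_pt.1
  have hs0 : D.pr s ≠ 0 := by rw [h1]; exact hp
  have hz0 : Ds.pr z ≠ 0 := by rw [h2]; exact hp
  -- the transvection is in the image
  have htau : tvp p0 ∈ (D.other Ds).range.comap R4.r := by
    refine tvp_mem_of_normalized _ (D.other_inner_elem Ds hs)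
      (D.other_inner_ne_bot Ds tauF_outer hne hz hz0) ?_
    intro u hu x hx
    obtain ⟨a, ha⟩ := (show R4.r x ∈ (D.other Ds).range from hx)
    obtain ⟨c, hc, hcu⟩ := D.act_surj u
    obtain ⟨h, hhz, hhs, e⟩ := D.fix_lift hc hs hs0 (by rw [hcu, R4_r, h1]; exact UU_fix hu)
    refine ⟨⟨h * (a : G) * h⁻¹, Ds.conj_cJ hhs hhz a.2⟩, ?_⟩
    show D.act (h * (a : G) * h⁻¹) = _
    have ha' : D.act (a : G) = R4.r x := ha
    rw [D.act_conj hhz (Ds.mem_cJ.1 a.2).2, e, hcu, ha', map_mul, map_mul, map_inv]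
  obtain ⟨⟨e0, he0⟩, he⟩ := (show R4.r (tvp p0) ∈ (D.other Ds).range from htau)
  change D.act e0 = R4.r (tvp p0) at he
  obtain ⟨heJ, hez⟩ := Ds.mem_cJ.1 he0
  -- the set of vectors
  have hbig : ∃ m ∈ Ds.meetV D, m ≠ 0 ∧ m ≠ p0 := by
    by_contra h
    push Not at h
    have hsub : (Ds.meetV D : Set V4) ⊆ {0, p0} := fun m hm => by
      by_cases e : m = 0
      · exact Or.inl e
      · exact Or.inr (h m hm e)
    have hc := Set.ncard_le_ncard hsub
    rw [← Nat.card_coe_set_eq] at hc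
    have h4 := Ds.meetV_big D tauF_outer hz hs hs0
    have hpair : ({0, p0} : Set V4).ncard ≤ 2 := (Set.ncard_insert_le _ _).trans
      (Nat.succ_le_succ (Set.ncard_singleton _).le)
    simp only [SetLike.coe_sort_coe] at hc
    omega
  have hv : Ds.pr e0 ∈ Ds.meetV D := by
    refine stab_absorb (Ds.meetV D) (fun m hm => Ds.meetV_q D (Ne.symm hne) hm) ⟨z, hz, D.z_mem, h2⟩ hbig
      (fun u hu m hm => ?_) ?_ fun u hu => ?_
    · exact Ds.meetV_stab D hz hz0 (u := u) (by rw [R4_r, h2]; exact hu) hm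
    · have e := (Ds.comm_iff heJ hz).1 hez
      rw [h2, R4.B_comm, R4_B] at e
      exact e
    · obtain ⟨c, hc, hcu⟩ := Ds.act_surj u
      obtain ⟨h, hhs, hhz, e⟩ := Ds.fix_lift hc hz hz0 (by rw [hcu, R4_r, h2]; exact hu)
      have hfix : D.act h p0 = p0 := by
        rw [← h1]
        exact D.pr_fix hhz hs hhs
      have hcom : D.act h * R4.r (tvp p0) * (D.act h)⁻¹ = R4.r (tvp p0) :=
        ext_fix_p0 (D.act_range h hhz) hfix
      have hze : Commute (h * e0 * h⁻¹) z := (hhz.mul_left hez).mul_left hhz.inv_left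
      refine ⟨h * e0 * h⁻¹ * e0⁻¹, mul_mem (Ds.conj_mem hhs heJ) (inv_mem heJ),
        (D.act_J _ (hze.mul_left hez.inv_left)).1 ?_, ?_⟩
      · rw [D.act_mul _ _ hze hez.inv_left, D.act_conj hhz hez, D.act_inv hez, he, hcom, mul_inv_cancel]
      · rw [Ds.pr_mul _ (Ds.conj_mem hhs heJ) _ (inv_mem heJ), Ds.pr_act h hhs e0 heJ, Ds.pr_inv heJ, e, hcu]
        rfl
  obtain ⟨x, hx, hx', hxe⟩ := hv
  have he0J : e0 ∈ D.J := by
    rcases Ds.eq_of_pr hx heJ hxe with e | e <;> rw [e]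
    exacts [hx', mul_mem hx' hs]
  rw [D.act_of_J he0J] at he
  exact tvp_ne_one p0_pt (R4.inj (by rw [map_one]; exact he.symm))

theorem pr_pt (D : Ce z R4 tauF) {s : G} (hs : s ∈ D.J) (h2 : s * s = 1) (h1 : s ≠ 1) (hne : s ≠ z) :
    IsPt4 (D.pr s) :=
  parity4_pt _ ((D.invol_iff hs).1 h2) fun e => ((D.pr_zero s hs).1 e).elim h1 hne

/-- The centre is fused to no further element of the radical. -/
theorem no_fusion (D : Ce z R4 tauF) {g : G} (h : g * z * g⁻¹ ∈ D.J) : g * z * g⁻¹ = z := by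
  by_contra hne
  set Ds := D.conj g with hDs
  obtain ⟨u, hu⟩ := to_p0 (D.pr_pt h Ds.z_sq Ds.z_ne hne)
  obtain ⟨a, ha, hau⟩ := D.act_surj u
  have e1 : a * g * z * (a * g)⁻¹ = a * (g * z * g⁻¹) * a⁻¹ := by group
  have h' : a * g * z * (a * g)⁻¹ ∈ D.J := e1 ▸ D.conj_mem ha h
  have hne' : a * g * z * (a * g)⁻¹ ≠ z := fun e => hne <| by
    rw [e1] at e
    calc g * z * g⁻¹ = a⁻¹ * (a * (g * z * g⁻¹) * a⁻¹) * a := by group
      _ = z := by rw [e, ha.inv_left.eq, inv_mul_cancel_right]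
  have hp : D.pr (a * g * z * (a * g)⁻¹) = p0 := by rw [e1, D.pr_act a ha _ h, hau, R4_r, hu]
  have hz' := D.mem_of_mem (D.conj (a * g)) tauF_outer h' hne'
  obtain ⟨w, hw⟩ := to_p0 ((D.conj (a * g)).pr_pt hz' D.z_sq D.z_ne (Ne.symm hne'))
  obtain ⟨b, hb, hbw⟩ := D.act_surj w
  have hbz : b⁻¹ * z * b = z := by rw [hb.inv_left.eq, inv_mul_cancel_right]
  have e2 : a * g * b⁻¹ * z * (a * g * b⁻¹)⁻¹ = a * g * z * (a * g)⁻¹ := by
    calc a * g * b⁻¹ * z * (a * g * b⁻¹)⁻¹ = a * g * (b⁻¹ * z * b) * (a * g)⁻¹ := by group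
      _ = _ := by rw [hbz]
  have h'' : a * g * b⁻¹ * z * (a * g * b⁻¹)⁻¹ ∈ D.J := e2 ▸ h'
  have hne'' : a * g * b⁻¹ * z * (a * g * b⁻¹)⁻¹ ≠ z := e2 ▸ hne'
  have hz'' := D.mem_of_mem (D.conj (a * g * b⁻¹)) tauF_outer h'' hne''
  refine D.fusion_core (D.conj (a * g * b⁻¹)) h'' hz'' hne'' (e2 ▸ hp) ?_
  have hin : (a * g)⁻¹ * z * (a * g) ∈ D.J := by
    obtain ⟨j, hj, e⟩ := hz'
    change a * g * j * (a * g)⁻¹ = z at e
    have e' : (a * g)⁻¹ * z * (a * g) = j := (congrArg (fun x => (a * g)⁻¹ * x * (a * g)) e).symm.trans (by group)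
    rwa [e']
  show D.pr ((a * g * b⁻¹)⁻¹ * z * (a * g * b⁻¹)) = p0
  rw [show (a * g * b⁻¹)⁻¹ * z * (a * g * b⁻¹) = b * ((a * g)⁻¹ * z * (a * g)) * b⁻¹ by group,
    D.pr_act b hb _ hin, hbw, R4_r]
  exact hw

end Ce

end CfsgLib.U62Cent
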