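import Cfsg.Agent.U62Cent.ExtBasic

/-!
The centraliser of an involution whose quotient by its radical extends the unitary group by an outer involution.
-/

set_option autoImplicit false
set_option maxRecDepth 100000
set_option maxHeartbeats 1000000
set_option linter.style.haveILetI false
set_option linter.unusedSectionVars false

namespace CfsgLib.U62Cent

open CfsgLib Subgroup

universe v

/-- The centraliser of an involution in coordinates, extended case. -/
structure Ce {G : Type*} [Group G] (z : G) {V : Type v} [AddCommGroup V] [Module (ZMod 2) V] (R : Rep V)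
    (f0 : V ≃ₗ[ZMod 2] V) where
  z_sq : z * z = 1
  z_ne : z ≠ 1
  /-- The radical. -/
  J : Subgroup G
  J_comm : ∀ j ∈ J, Commute j z
  z_mem : z ∈ J
  /-- The action on the radical. -/
  act : G → (V ≃ₗ[ZMod 2] V)
  act_mul : ∀ a b : G, Commute a z → Commute b z → act (a * b) = act a * act b
  act_J : ∀ a, Commute a z → (act a = 1 ↔ a ∈ J)
  act_range : ∀ a, Commute a z → ∃ u, act a = R.r u ∨ act a = R.r u * f0
  act_surj : ∀ u, ∃ a, Commute a z ∧ act a = R.r u
  act_out : ∃ a, Commute a z ∧ act a = f0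
  /-- The image in the central quotient of the radical. -/
  pr : G → V
  pr_mul : ∀ a ∈ J, ∀ b ∈ J, pr (a * b) = pr a + pr b
  pr_zero : ∀ a ∈ J, (pr a = 0 ↔ a = 1 ∨ a = z)
  pr_surj : ∀ v, ∃ a ∈ J, pr a = v
  sq : ∀ a ∈ J, a * a = if R.q (pr a) = 0 then 1 else z
  comm : ∀ a ∈ J, ∀ b ∈ J, a * b = if R.B (pr a) (pr b) = 0 then b * a else b * a * z
  pr_act : ∀ a, Commute a z → ∀ b ∈ J, pr (a * b * a⁻¹) = act a (pr b)

namespace Ce

variable {G : Type*} [Group G] {z : G} {V : Type v} [AddCommGroup V] [Module (ZMod 2) V] {R : Rep V}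
  {f0 : V ≃ₗ[ZMod 2] V} (D : Ce z R f0)

include D

theorem orderOf_z : orderOf z = 2 := orderOf_eq_prime (by rw [pow_two]; exact D.z_sq) D.z_ne

theorem z_inv : z⁻¹ = z := inv_eq_of_mul_eq_one_right D.z_sq

theorem act_one : D.act 1 = 1 := (D.act_J 1 (Commute.one_left z)).2 (one_mem _)

theorem act_inv {a : G} (ha : Commute a z) : D.act a⁻¹ = (D.act a)⁻¹ :=
  eq_inv_of_mul_eq_one_left (by rw [← D.act_mul _ _ ha.inv_left ha, inv_mul_cancel, D.act_one])

theorem act_conj {g a : G} (hg : Commute g z) (ha : Commute a z) :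
    D.act (g * a * g⁻¹) = D.act g * D.act a * (D.act g)⁻¹ := by
  rw [D.act_mul _ _ (hg.mul_left ha) hg.inv_left, D.act_mul _ _ hg ha, D.act_inv hg]

theorem act_of_J {j : G} (hj : j ∈ D.J) : D.act j = 1 := (D.act_J j (D.J_comm j hj)).2 hj

theorem act_z : D.act z = 1 := D.act_of_J D.z_mem

theorem pr_one : D.pr 1 = 0 := (D.pr_zero 1 (one_mem _)).2 (Or.inl rfl)

theorem pr_z : D.pr z = 0 := (D.pr_zero z D.z_mem).2 (Or.inr rfl)

theorem pr_inv {a : G} (ha : a ∈ D.J) : D.pr a⁻¹ = D.pr a := by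
  have h := D.pr_mul _ (inv_mem ha) _ ha
  rw [inv_mul_cancel, D.pr_one] at h
  exact eq_of_sum_zero h.symm

theorem conj_mem {g a : G} (hg : Commute g z) (ha : a ∈ D.J) : g * a * g⁻¹ ∈ D.J := by
  have hc : Commute (g * a * g⁻¹) z := (hg.mul_left (D.J_comm a ha)).mul_left hg.inv_left
  rw [← D.act_J _ hc, D.act_conj hg (D.J_comm a ha), D.act_of_J ha]
  group

theorem eq_of_pr {a b : G} (ha : a ∈ D.J) (hb : b ∈ D.J) (h : D.pr a = D.pr b) : b = a ∨ b = a * z := by
  rcases (D.pr_zero _ (mul_mem (inv_mem ha) hb)).1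
    (by rw [D.pr_mul _ (inv_mem ha) _ hb, D.pr_inv ha, h, two_self]) with e | e
  · exact Or.inl (inv_mul_eq_one.1 e).symm
  · exact Or.inr (inv_mul_eq_iff_eq_mul.1 e)

theorem comm_iff {a b : G} (ha : a ∈ D.J) (hb : b ∈ D.J) : Commute a b ↔ R.B (D.pr a) (D.pr b) = 0 := by
  constructor
  · intro h
    by_contra h0
    have e := D.comm a ha b hb
    rw [if_neg h0, h.eq] at e
    exact D.z_ne (mul_eq_left.1 e.symm)
  · intro h
    have e := D.comm a ha b hb
    rwa [if_pos h] at e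

theorem comm_z {a b : G} (ha : a ∈ D.J) (hb : b ∈ D.J) (h : R.B (D.pr a) (D.pr b) ≠ 0) :
    a * b * a⁻¹ = b * z := by
  rw [D.comm a ha b hb, if_neg h, mul_assoc b a z, (D.J_comm a ha).eq]
  group

theorem invol_iff {a : G} (ha : a ∈ D.J) : a * a = 1 ↔ R.q (D.pr a) = 0 := by
  constructor
  · intro h
    by_contra h0
    have e := D.sq a ha
    rw [if_neg h0, h] at e
    exact D.z_ne e.symm
  · intro h
    have e := D.sq a ha
    rwa [if_pos h] at e

theorem sq_cases {a : G} (ha : a ∈ D.J) : a * a = 1 ∨ a * a = z := by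
  rw [D.sq a ha]
  split_ifs
  · exact Or.inl rfl
  · exact Or.inr rfl

theorem comm_cases {a b : G} (ha : a ∈ D.J) (hb : b ∈ D.J) : a * b * a⁻¹ * b⁻¹ = 1 ∨ a * b * a⁻¹ * b⁻¹ = z := by
  by_cases h : R.B (D.pr a) (D.pr b) = 0
  · left
    rw [((D.comm_iff ha hb).2 h).eq]
    group
  · right
    rw [D.comm_z ha hb h, mul_assoc b z, ← (D.J_comm _ (inv_mem hb)).eq]
    group

theorem exists_partner {v : V} (hv : v ≠ 0) : ∃ j ∈ D.J, R.B (D.pr j) v ≠ 0 := by
  by_contra h
  push Not at h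
  refine hv (R.nondeg v fun w => ?_)
  obtain ⟨j, hj, rfl⟩ := D.pr_surj w
  show R.B v (D.pr j) = 0
  rw [R.B_comm]
  exact h j hj

/-- An element fixing a vector is adjusted to fix a lift. -/
theorem fix_lift {g s : G} (hg : Commute g z) (hs : s ∈ D.J) (h0 : D.pr s ≠ 0)
    (h : D.act g (D.pr s) = D.pr s) :
    ∃ g', Commute g' z ∧ Commute g' s ∧ D.act g' = D.act g := by
  rcases D.eq_of_pr hs (D.conj_mem hg hs) (by rw [D.pr_act g hg s hs, h]) with e | e
  · exact ⟨g, hg, mul_inv_eq_iff_eq_mul.1 e, rfl⟩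
  · obtain ⟨j, hj, hj0⟩ := D.exists_partner h0
    refine ⟨g * j, hg.mul_left (D.J_comm j hj), mul_inv_eq_iff_eq_mul.1 ?_,
      by rw [D.act_mul _ _ hg (D.J_comm j hj), D.act_of_J hj, mul_one]⟩
    calc g * j * s * (g * j)⁻¹ = g * (j * s * j⁻¹) * g⁻¹ := by group
      _ = g * s * g⁻¹ * (g * z * g⁻¹) := by rw [D.comm_z hj hs hj0]; group
      _ = s * (z * z) := by rw [e, hg.eq, mul_inv_cancel_right, mul_assoc]
      _ = s := by rw [D.z_sq, mul_one]

/-- The image of an element of the centraliser of the involution fixes its vector. -/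
theorem pr_fix {g s : G} (hg : Commute g z) (hs : s ∈ D.J) (h : Commute g s) :
    D.act g (D.pr s) = D.pr s := by
  rw [← D.pr_act g hg s hs, h.eq, mul_inv_cancel_right]

theorem card_J : Nat.card D.J = 512 := by
  classical
  haveI := R.finite
  let f : D.J → V × ZMod 2 := fun a =>
    (D.pr a, if (a : G) = (D.pr_surj (D.pr a)).choose then 0 else 1)
  have hf : Function.Bijective f := by
    constructor
    · rintro ⟨a, ha⟩ ⟨b, hb⟩ e
      obtain ⟨e1, e2⟩ := Prod.ext_iff.1 e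
      simp only [f] at e1 e2
      obtain ⟨hc, hcp⟩ := (D.pr_surj (D.pr a)).choose_spec
      have key : (D.pr_surj (D.pr a)).choose = (D.pr_surj (D.pr b)).choose := by simp only [e1]
      rw [← key] at e2
      rcases D.eq_of_pr hc ha (by rw [hcp]) with p | p <;>
        rcases D.eq_of_pr hc hb (by rw [hcp, e1]) with q | q
      · exact Subtype.ext (p.trans q.symm)
      · rw [if_pos p, if_neg (fun r => D.z_ne (mul_eq_left.1 (q.symm.trans r)))] at e2
        exact absurd e2 (by decide)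
      · rw [if_neg (fun r => D.z_ne (mul_eq_left.1 (p.symm.trans r))), if_pos q] at e2
        exact absurd e2 (by decide)
      · exact Subtype.ext (p.trans q.symm)
    · rintro ⟨w, c⟩
      obtain ⟨hc, hcp⟩ := (D.pr_surj w).choose_spec
      rcases (by decide : ∀ c : ZMod 2, c = 0 ∨ c = 1) c with rfl | rfl
      · refine ⟨⟨_, hc⟩, Prod.ext hcp ?_⟩
        simp [f, hcp]
      · have hp : D.pr ((D.pr_surj w).choose * z) = w := by
          rw [D.pr_mul _ hc _ D.z_mem, hcp, D.pr_z, add_zero]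
        refine ⟨⟨_, mul_mem hc D.z_mem⟩, Prod.ext hp ?_⟩
        simp [f, hp, D.z_ne]
  rw [Nat.card_eq_of_bijective f hf, Nat.card_prod, R.card, Nat.card_zmod]

/-- The part of the radical commuting with an element. -/
def cJ (s : G) : Subgroup G := D.J ⊓ centralizer ({s} : Set G)

theorem mem_cJ {s x : G} : x ∈ D.cJ s ↔ x ∈ D.J ∧ Commute x s := by
  rw [cJ, Subgroup.mem_inf, mem_centralizer_singleton_iff]
  rfl

theorem conj_cJ {s h x : G} (hz : Commute h z) (hs : Commute h s) (hx : x ∈ D.cJ s) :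
    h * x * h⁻¹ ∈ D.cJ s := by
  obtain ⟨h1, h2⟩ := D.mem_cJ.1 hx
  exact D.mem_cJ.2 ⟨D.conj_mem hz h1, (hs.mul_left h2).mul_left hs.inv_left⟩

theorem card_cJ [Finite G] {s : G} (hs : s ∈ D.J) (h0 : D.pr s ≠ 0) : Nat.card (D.cJ s) = 256 := by
  classical
  let f : D.J →* Multiplicative (ZMod 2) :=
    { toFun := fun j => Multiplicative.ofAdd (R.B (D.pr j) (D.pr s))
      map_one' := by rw [Subgroup.coe_one, D.pr_one, R.B_comm, R.B_zero]; rfl
      map_mul' := fun a b => by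
        simp only [Subgroup.coe_mul, D.pr_mul _ a.2 _ b.2, R.B_add_left, ofAdd_add] }
  have hsurj : Function.Surjective f := by
    intro c
    obtain ⟨j, hj, hj0⟩ := D.exists_partner h0
    rcases (by decide : ∀ c : ZMod 2, c = 0 ∨ c = 1) c.toAdd with e | e
    · exact ⟨1, (map_one f).trans (Multiplicative.toAdd.injective e.symm)⟩
    · exact ⟨⟨j, hj⟩, Multiplicative.toAdd.injective (by rw [e]; exact zmod2_ne _ hj0)⟩
  have h := Subgroup.card_eq_card_quotient_mul_card_subgroup f.ker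
  rw [Nat.card_congr (QuotientGroup.quotientKerEquivOfSurjective f hsurj).toEquiv, D.card_J, Nat.card_congr
    Multiplicative.toAdd, Nat.card_zmod] at h
  have e : Nat.card f.ker = Nat.card (D.cJ s) := Nat.card_congr
    { toFun := fun a => ⟨a.1.1, D.mem_cJ.2 ⟨a.1.2, (D.comm_iff a.1.2 hs).2
        (Multiplicative.ofAdd.injective ((MonoidHom.mem_ker.1 a.2).trans ofAdd_zero.symm))⟩⟩
      invFun := fun x => ⟨⟨x.1, (D.mem_cJ.1 x.2).1⟩, MonoidHom.mem_ker.2
        ((congrArg Multiplicative.ofAdd ((D.comm_iff (D.mem_cJ.1 x.2).1 hs).1 (D.mem_cJ.1 x.2).2)).trans ofAdd_zero)⟩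
      left_inv := fun a => rfl
      right_inv := fun x => rfl }
  omega

/-- An element of the radical whose commutators with the hyperplane of another element vanish. -/
theorem central_cJ {s x : G} (hs : s ∈ D.J) (hx : x ∈ D.J) (h : ∀ y ∈ D.cJ s, Commute x y) :
    x = 1 ∨ x = z ∨ x = s ∨ x = s * z := by
  rcases R.orth_perp (a := D.pr s) (x := D.pr x) fun w hw => by
      obtain ⟨y, hy, rfl⟩ := D.pr_surj w
      exact (D.comm_iff hx hy).1 (h y (D.mem_cJ.2 ⟨hy, (D.comm_iff hy hs).2 hw⟩)) with e | e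
  · exact ((D.pr_zero x hx).1 e).imp_right Or.inl
  · exact Or.inr (Or.inr (D.eq_of_pr hs hx e.symm))

variable {s : G} (Ds : Ce s R f0)

theorem inter_invol (hne : s ≠ z) {x : G} (hx : x ∈ D.J) (hx' : x ∈ Ds.J) : x * x = 1 := by
  rcases D.sq_cases hx with e | e
  · exact e
  rcases Ds.sq_cases hx' with e' | e'
  · exact e'
  exact absurd (e'.symm.trans e) hne

theorem inter_comm (hne : s ≠ z) {x y : G} (hx : x ∈ D.J) (hx' : x ∈ Ds.J) (hy : y ∈ D.J) (hy' : y ∈ Ds.J) :
    Commute x y := by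
  have key : x * y * x⁻¹ * y⁻¹ = 1 := by
    rcases D.comm_cases hx hy with e | e
    · exact e
    rcases Ds.comm_cases hx' hy' with e' | e'
    · exact e'
    exact absurd (e'.symm.trans e) hne
  exact mul_inv_eq_iff_eq_mul.1 (mul_inv_eq_one.1 key)

/-- The common part of the two radicals as a set of vectors. -/
def meetV : AddSubgroup V where
  carrier := {w | ∃ x ∈ D.J, x ∈ Ds.J ∧ D.pr x = w}
  zero_mem' := ⟨1, one_mem _, one_mem _, D.pr_one⟩
  add_mem' := by
    rintro _ _ ⟨x, hx, hx', rfl⟩ ⟨y, hy, hy', rfl⟩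
    exact ⟨x * y, mul_mem hx hy, mul_mem hx' hy', D.pr_mul x hx y hy⟩
  neg_mem' := by
    rintro w hw
    rwa [neg_eq_of_add_eq_zero_left (two_self w)]

theorem meetV_q (hne : s ≠ z) {w : V} (hw : w ∈ D.meetV Ds) : R.q w = 0 := by
  obtain ⟨x, hx, hx', rfl⟩ := hw
  exact (D.invol_iff hx).1 (D.inter_invol Ds hne hx hx')

theorem meetV_B (hne : s ≠ z) {a b : V} (ha : a ∈ D.meetV Ds) (hb : b ∈ D.meetV Ds) : R.B a b = 0 := by
  obtain ⟨x, hx, hx', rfl⟩ := ha
  obtain ⟨y, hy, hy', rfl⟩ := hb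
  exact (D.comm_iff hx hy).1 (D.inter_comm Ds hne hx hx' hy hy')

theorem meetV_inv {h : G} (hz : Commute h z) (hs : Commute h s) {w : V} (hw : w ∈ D.meetV Ds) :
    D.act h w ∈ D.meetV Ds := by
  obtain ⟨x, hx, hx', rfl⟩ := hw
  exact ⟨h * x * h⁻¹, D.conj_mem hz hx, Ds.conj_mem hs hx', D.pr_act h hz x hx⟩

theorem meetV_stab (hs : s ∈ D.J) (h0 : D.pr s ≠ 0) {u : U4} (hu : R.r u (D.pr s) = D.pr s) {w : V}
    (hw : w ∈ D.meetV Ds) : R.r u w ∈ D.meetV Ds := by
  obtain ⟨a, ha, e0⟩ := D.act_surj u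
  obtain ⟨h, hz, hc, e⟩ := D.fix_lift ha hs h0 (by rw [e0]; exact hu)
  rw [← e0, ← e]
  exact D.meetV_inv Ds hz hc hw

/-- The image of the other radical. -/
noncomputable def other : Ds.cJ z →* (V ≃ₗ[ZMod 2] V) where
  toFun a := D.act a
  map_one' := D.act_one
  map_mul' a b := D.act_mul _ _ (Ds.mem_cJ.1 a.2).2 (Ds.mem_cJ.1 b.2).2

theorem mem_other_ker {a : Ds.cJ z} : a ∈ (D.other Ds).ker ↔ (a : G) ∈ D.J := by
  rw [MonoidHom.mem_ker]
  exact D.act_J _ (Ds.mem_cJ.1 a.2).2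

theorem other_range_ext : ∀ e ∈ (D.other Ds).range, ∃ u, e = R.r u ∨ e = R.r u * f0 := by
  rintro _ ⟨a, rfl⟩
  exact D.act_range _ (Ds.mem_cJ.1 a.2).2

theorem other_elem (hs : s ∈ D.J) : ∀ e ∈ (D.other Ds).range, e * e = 1 := by
  rintro _ ⟨a, rfl⟩
  have hz := (Ds.mem_cJ.1 a.2).2
  show D.act a * D.act a = 1
  rw [← D.act_mul _ _ hz hz]
  refine D.act_of_J ?_
  rcases Ds.sq_cases (Ds.mem_cJ.1 a.2).1 with e | e <;> rw [e]
  exacts [one_mem _, hs]

theorem other_card [Finite G] (hz : z ∈ Ds.J) (h0 : Ds.pr z ≠ 0) :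
    Nat.card (D.other Ds).range * Nat.card (D.other Ds).ker = 256 := by
  rw [← Ds.card_cJ hz h0, Subgroup.card_eq_card_quotient_mul_card_subgroup (D.other Ds).ker,
    Nat.card_congr (QuotientGroup.quotientKerEquivRange (D.other Ds)).toEquiv]

theorem ker_card_le [Finite G] :
    Nat.card (D.other Ds).ker ≤ Nat.card (D.meetV Ds) * 2 := by
  classical
  haveI := R.finite
  have hmem : ∀ a : (D.other Ds).ker, (a.1.1 : G) ∈ D.J ∧ (a.1.1 : G) ∈ Ds.J := fun a =>
    ⟨(D.mem_other_ker Ds).1 a.2, (Ds.mem_cJ.1 a.1.2).1⟩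
  let f : (D.other Ds).ker → D.meetV Ds × ZMod 2 := fun a =>
    (⟨D.pr a.1.1, _, (hmem a).1, (hmem a).2, rfl⟩,
      if (a.1.1 : G) = (D.pr_surj (D.pr a.1.1)).choose then 0 else 1)
  have hf : Function.Injective f := by
    intro a b e
    obtain ⟨e1, e2⟩ := Prod.ext_iff.1 e
    have e1' : D.pr a.1.1 = D.pr b.1.1 := congrArg Subtype.val e1
    obtain ⟨hc, hcp⟩ := (D.pr_surj (D.pr a.1.1)).choose_spec
    simp only [f] at e2
    have key : (D.pr_surj (D.pr a.1.1)).choose = (D.pr_surj (D.pr b.1.1)).choose := by simp only [e1']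
    rw [← key] at e2
    refine Subtype.ext (Subtype.ext ?_)
    rcases D.eq_of_pr hc (hmem a).1 hcp with p | p <;>
      rcases D.eq_of_pr hc (hmem b).1 (by rw [hcp, e1']) with q | q
    · exact p.trans q.symm
    · rw [if_pos p, if_neg (fun r => D.z_ne (mul_eq_left.1 (q.symm.trans r)))] at e2
      simp at e2
    · rw [if_neg (fun r => D.z_ne (mul_eq_left.1 (p.symm.trans r))), if_pos q] at e2
      simp at e2
    · exact p.trans q.symm
  have := Nat.card_le_card_of_injective f hf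
  rwa [Nat.card_prod, Nat.card_zmod] at this

theorem other_inner_elem (hs : s ∈ D.J) : ∀ a ∈ (D.other Ds).range.comap R.r, a * a = 1 := fun a ha =>
  R.inj (by rw [map_mul, map_one]; exact D.other_elem Ds hs _ ha)

theorem meetV_big [Finite G] (hf : IsOuter R f0) (hs : s ∈ D.J) (hz : z ∈ Ds.J) (h0 : Ds.pr z ≠ 0) :
    4 ≤ Nat.card (D.meetV Ds) := by
  have h1 := elem_le _ (D.other_inner_elem Ds hs)
  have h1' := hf.card_le _ (D.other_range_ext Ds)
  have h2 := D.other_card Ds hz h0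
  have h3 := D.ker_card_le Ds
  have h4 := Nat.mul_le_mul_right (Nat.card (D.other Ds).ker)
    (show Nat.card (D.other Ds).range ≤ 32 by omega)
  omega

theorem other_inner_ne_bot [Finite G] (hf : IsOuter R f0) (hne : s ≠ z) (hz : z ∈ Ds.J) (h0 : Ds.pr z ≠ 0) :
    (D.other Ds).range.comap R.r ≠ ⊥ := by
  intro hbot
  have h1 := hf.card_le _ (D.other_range_ext Ds)
  rw [hbot, Subgroup.card_bot] at h1
  have h2 := D.other_card Ds hz h0
  have h3 := D.ker_card_le Ds
  have h4 := R.isotropic_bound (D.meetV Ds) fun a ha b hb => D.meetV_B Ds hne ha hb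
  have h5 := Nat.mul_le_mul h1 h3
  omega

/-- The other radical contains the centre when one lies in the other. -/
theorem mem_of_mem [Finite G] (hf : IsOuter R f0) (hs : s ∈ D.J) (hne : s ≠ z) : z ∈ Ds.J := by
  by_contra hz
  haveI := R.finite
  haveI : Fact (Nat.Prime 2) := ⟨Nat.prime_two⟩
  have h0 : D.pr s ≠ 0 := fun e => ((D.pr_zero s hs).1 e).elim Ds.z_ne hne
  have hc := Ds.other_card D hs h0
  have hker : (Ds.other D).ker.map (D.cJ s).subtype ≤ Subgroup.zpowers s := by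
    rintro _ ⟨a, ha, rfl⟩
    have haJ' := (Ds.mem_other_ker D).1 ha
    obtain ⟨haJ, has⟩ := D.mem_cJ.1 a.2
    have hcom : ∀ y ∈ D.cJ s, Commute (a : G) y := fun y hy => by
      obtain ⟨hyJ, hys⟩ := D.mem_cJ.1 hy
      rcases D.comm_cases haJ hyJ with e | e
      · exact mul_inv_eq_iff_eq_mul.1 (mul_inv_eq_one.1 e)
      · refine absurd ?_ hz
        rw [← e, show (a : G) * y * (a : G)⁻¹ * y⁻¹ = (a : G) * (y * (a : G)⁻¹ * y⁻¹) by group]
        exact mul_mem haJ' (Ds.conj_mem hys (inv_mem haJ'))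
    show (a : G) ∈ Subgroup.zpowers s
    rcases D.central_cJ hs haJ hcom with e | e | e | e
    · rw [e]; exact one_mem _
    · exact absurd (e ▸ haJ') hz
    · rw [e]; exact Subgroup.mem_zpowers s
    · refine absurd ?_ hz
      have := mul_mem (inv_mem Ds.z_mem) (e ▸ haJ' : s * z ∈ Ds.J)
      rwa [inv_mul_cancel_left] at this
  have h2 : Nat.card (Ds.other D).ker ≤ 2 := by
    rw [← Subgroup.card_map_of_injective (K := (Ds.other D).ker) (D.cJ s).subtype_injective]
    refine (Nat.le_of_dvd Nat.card_pos (Subgroup.card_dvd_of_le hker)).trans ?_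
    rw [Nat.card_zpowers, Ds.orderOf_z]
  set S := (Ds.other D).range.comap R.r
  have hin : Nat.card (Ds.other D).range ≤ 2 * Nat.card S := hf.card_le _ (Ds.other_range_ext D)
  have hpS : Nat.card S ∣ 256 := by
    have hle : (S.map R.r) ≤ (Ds.other D).range := Subgroup.map_comap_le _ _
    have h1 := Subgroup.card_dvd_of_le hle
    rw [Subgroup.card_map_of_injective R.inj] at h1
    exact h1.trans ⟨_, hc.symm⟩
  have h5 : Nat.card S ∣ 64 :=
    (Nat.dvd_gcd (card_SU4 ▸ Subgroup.card_subgroup_dvd_card S) hpS).trans (by norm_num)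
  have h64 : Nat.card S = 64 := by
    have h7 := Nat.mul_le_mul hin h2
    have := Nat.le_of_dvd (by norm_num) h5
    omega
  have hzs : Commute z s := (D.J_comm s hs).symm
  obtain ⟨t0, ht0⟩ : ∃ t : U4, ∀ a ∈ S, a * a = 1 ∨ a * a = t := by
    by_cases hall : ∀ a ∈ S, a * a = 1
    · exact ⟨1, fun a ha => Or.inl (hall a ha)⟩
    push Not at hall
    obtain ⟨a0, ha0, ha01⟩ := hall
    refine ⟨a0 * a0, fun a ha => ?_⟩
    have key : ∀ a ∈ S, R.r (a * a) = 1 ∨ R.r (a * a) = Ds.act z := fun a ha => by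
      obtain ⟨x, hx⟩ := (show R.r a ∈ (Ds.other D).range from ha)
      rw [map_mul, ← hx]
      obtain ⟨hxJ, hxs⟩ := D.mem_cJ.1 x.2
      show Ds.act x * Ds.act x = 1 ∨ Ds.act x * Ds.act x = Ds.act z
      rw [← Ds.act_mul _ _ hxs hxs]
      rcases D.sq_cases hxJ with e | e <;> rw [e]
      exacts [Or.inl Ds.act_one, Or.inr rfl]
    rcases key a ha with e | e
    · exact Or.inl (R.inj (by rw [map_one]; exact e))
    rcases key a0 ha0 with e0 | e0
    · exact absurd (R.inj (by rw [map_one]; exact e0)) ha01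
    · exact Or.inr (R.inj (e.trans e0.symm))
  exact sylow_squares S h64 t0 ht0

end Ce

/-- Transport by conjugation. -/
noncomputable def Ce.conj {G : Type*} [Group G] {z : G} {V : Type v} [AddCommGroup V] [Module (ZMod 2) V]
    {R : Rep V} {f0 : V ≃ₗ[ZMod 2] V} (D : Ce z R f0) (g : G) : Ce (g * z * g⁻¹) R f0 where
  z_sq := by
    calc g * z * g⁻¹ * (g * z * g⁻¹) = g * (z * z) * g⁻¹ := by group
      _ = 1 := by rw [D.z_sq]; group
  z_ne := fun e => D.z_ne (conj_eq_one_iff.1 e)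
  J := D.J.map (MulAut.conj g).toMonoidHom
  J_comm := by
    rintro _ ⟨j, hj, rfl⟩
    exact (D.J_comm j hj).map (MulAut.conj g).toMonoidHom
  z_mem := ⟨z, D.z_mem, rfl⟩
  act a := D.act (g⁻¹ * a * g)
  act_mul a b ha hb := by
    rw [show g⁻¹ * (a * b) * g = (g⁻¹ * a * g) * (g⁻¹ * b * g) by group]
    exact D.act_mul _ _ (back ha) (back hb)
  act_J a ha := by
    rw [D.act_J _ (back ha)]
    constructor
    · exact fun h => ⟨_, h, show g * (g⁻¹ * a * g) * g⁻¹ = a by group⟩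
    · rintro ⟨j, hj, rfl⟩
      show g⁻¹ * (g * j * g⁻¹) * g ∈ D.J
      rwa [show g⁻¹ * (g * j * g⁻¹) * g = j by group]
  act_range a ha := D.act_range _ (back ha)
  act_surj u := by
    obtain ⟨a, ha, e⟩ := D.act_surj u
    refine ⟨g * a * g⁻¹, ha.map (MulAut.conj g).toMonoidHom, ?_⟩
    rw [show g⁻¹ * (g * a * g⁻¹) * g = a by group, e]
  act_out := by
    obtain ⟨a, ha, e⟩ := D.act_out
    refine ⟨g * a * g⁻¹, ha.map (MulAut.conj g).toMonoidHom, ?_⟩
    rw [show g⁻¹ * (g * a * g⁻¹) * g = a by group, e]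
  pr a := D.pr (g⁻¹ * a * g)
  pr_mul := by
    intro a ha b hb
    rw [show g⁻¹ * (a * b) * g = (g⁻¹ * a * g) * (g⁻¹ * b * g) by group]
    exact D.pr_mul _ (backJ D g ha) _ (backJ D g hb)
  pr_zero := by
    intro a ha
    rw [D.pr_zero _ (backJ D g ha)]
    constructor
    · rintro (e | e)
      · left; rw [show a = g * (g⁻¹ * a * g) * g⁻¹ by group, e]; group
      · right; rw [show a = g * (g⁻¹ * a * g) * g⁻¹ by group, e]
    · rintro (rfl | rfl)
      · left; group
      · right; group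
  pr_surj w := by
    obtain ⟨a, ha, e⟩ := D.pr_surj w
    exact ⟨g * a * g⁻¹, ⟨a, ha, rfl⟩, by rw [show g⁻¹ * (g * a * g⁻¹) * g = a by group, e]⟩
  sq := by
    intro a ha
    have h := congrArg (fun x => g * x * g⁻¹) (D.sq _ (backJ D g ha))
    simp only [apply_ite (fun x => g * x * g⁻¹)] at h
    rw [show g * (g⁻¹ * a * g * (g⁻¹ * a * g)) * g⁻¹ = a * a by group, show g * 1 * g⁻¹ = (1 : G) by group] at h
    exact h
  comm := by
    intro a ha b hb
    have h := congrArg (fun x => g * x * g⁻¹) (D.comm _ (backJ D g ha) _ (backJ D g hb))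
    simp only [apply_ite (fun x => g * x * g⁻¹)] at h
    rw [show g * (g⁻¹ * a * g * (g⁻¹ * b * g)) * g⁻¹ = a * b by group,
      show g * (g⁻¹ * b * g * (g⁻¹ * a * g)) * g⁻¹ = b * a by group,
      show g * (g⁻¹ * b * g * (g⁻¹ * a * g) * z) * g⁻¹ = b * a * (g * z * g⁻¹) by group] at h
    exact h
  pr_act := by
    intro a ha b hb
    rw [show g⁻¹ * (a * b * a⁻¹) * g = (g⁻¹ * a * g) * (g⁻¹ * b * g) * (g⁻¹ * a * g)⁻¹ by group]
    exact D.pr_act _ (back ha) _ (backJ D g hb)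
where
  back {g : G} {a : G} (ha : Commute a (g * z * g⁻¹)) : Commute (g⁻¹ * a * g) z := by
    have := ha.map (MulAut.conj g⁻¹).toMonoidHom
    simpa [mul_assoc] using this
  backJ {G : Type _} [Group G] {z : G} (D : Ce z R f0) (g : G) {a : G}
      (ha : a ∈ D.J.map (MulAut.conj g).toMonoidHom) : g⁻¹ * a * g ∈ D.J := by
    obtain ⟨j, hj, rfl⟩ := ha
    show g⁻¹ * (g * j * g⁻¹) * g ∈ D.J
    rwa [show g⁻¹ * (g * j * g⁻¹) * g = j by group]

end CfsgLib.U62Cent
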