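import Cfsg.Agent.U62Cent.ExtSetting
import Cfsg.Agent.U62Cent.TriIsolated

/-!
The reducible case of extended type: facts about the representation and the action.
-/

set_option autoImplicit false
set_option maxRecDepth 100000
set_option maxHeartbeats 1000000
set_option linter.style.haveILetI false
set_option linter.unusedSectionVars false

namespace CfsgLib.U62Cent

open CfsgLib Subgroup

universe v

variable {V : Type v} [AddCommGroup V] [Module (ZMod 2) V]

theorem zmod2_self : ∀ a : ZMod 2, a + a = 0 := by decide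

theorem add_self_left (a b : V) : a + (a + b) = b := by rw [← add_assoc, two_self, zero_add]

theorem add_self_right (a b : V) : a + b + b = a := by rw [add_assoc, two_self, add_zero]

namespace Rep

variable {R : Rep V}

/-- The moved part of a vector is orthogonal to the fixed ones. -/
theorem op_perp (T : V ≃ₗ[ZMod 2] V) (hB : ∀ v w, R.B (T v) (T w) = R.B v w) {v : V} (hv : T v = v) (w : V) :
    R.B (T w + w) v = 0 := by
  rw [R.B_add_left]
  conv_lhs => arg 1; rw [← hv, hB]
  exact zmod2_self _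

/-- A vector orthogonal to the moved parts of all vectors is fixed. -/
theorem op_fix (T : V ≃ₗ[ZMod 2] V) (hB : ∀ v w, R.B (T v) (T w) = R.B v w) (h2 : ∀ v, T (T v) = v) {v : V}
    (h : ∀ w, R.B (T w + w) v = 0) : T v = v :=
  eq_of_sum_zero (R.nondeg _ fun w => show R.B (T v + v) w = 0 by
    have h1 := h w
    rw [R.B_add_left] at h1
    rw [R.B_add_left]
    conv_lhs => arg 1; rw [← h2 w, hB, R.B_comm]
    rw [R.B_comm v w]
    exact h1)

theorem op_self (T : V ≃ₗ[ZMod 2] V) (hq : ∀ v, R.q (T v) = R.q v) (w : V) :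
    R.B (T w + w) w = R.q (T w + w) := by
  rw [R.q_add, hq, zmod2_self, zero_add, R.B_add_left, R.B_smul_self, add_zero]

variable (hT : R.IsTri)
include hT

theorem X0_elems {x y : V} (hx : x ∈ R.X0) (hy : y ∈ R.X0) (hx0 : x ≠ 0) (hy0 : y ≠ 0) (hxy : x ≠ y) {v : V}
    (hv : v ∈ R.X0) : v = 0 ∨ v = x ∨ v = y ∨ v = x + y := by
  classical
  haveI := R.finite
  have hsum : x + y ≠ 0 := fun e => hxy (eq_of_sum_zero e)
  have hsx : x + y ≠ x := fun e => hy0 (add_eq_left.1 e)
  have hsy : x + y ≠ y := fun e => hx0 (add_eq_right.1 e)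
  have hall : ({0, x, y, x + y} : Set V) = (R.X0 : Set V) := by
    refine Set.eq_of_subset_of_ncard_le ?_ (le_of_eq ?_) (Set.toFinite _)
    · rintro w (rfl | rfl | rfl | rfl)
      exacts [R.X0.zero_mem, hx, hy, R.X0.add_mem hx hy]
    · rw [Set.ncard_insert_of_notMem (by simp [hx0.symm, hy0.symm, hsum.symm]),
        Set.ncard_insert_of_notMem (by simp [hxy, hsx.symm]), Set.ncard_pair hsy.symm, ← Nat.card_coe_set_eq]
      exact hT.2.1
  have hm : v ∈ ({0, x, y, x + y} : Set V) := by rw [hall]; exact hv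
  simpa using hm

/-- The sum of two vectors of the fixed space with the same form. -/
theorem X0_q_sum {x y : V} (hx : x ∈ R.X0) (hy : y ∈ R.X0) (hx0 : x ≠ 0) (hy0 : y ≠ 0) (hxy : x ≠ y)
    (hq : R.q y = R.q x) : R.q (x + y) = 1 := by
  rw [R.q_add, hq, zmod2_self, zero_add]
  exact zmod2_ne _ (X0_pair hT hx hy hx0 hy0 hxy)

/-- The fixed space has one anisotropic vector when it has a singular one. -/
theorem X0_unique {x y v : V} (hx : x ∈ R.X0) (hy : y ∈ R.X0) (hv : v ∈ R.X0) (hqx : R.q x = 1) (hqy : R.q y = 0)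
    (hy0 : y ≠ 0) (hqv : R.q v = 1) : v = x := by
  have hx0 : x ≠ 0 := fun e => by rw [e, map_zero] at hqx; exact zero_ne_one hqx
  have hxy : x ≠ y := fun e => by rw [e, hqy] at hqx; exact zero_ne_one hqx
  rcases X0_elems hT hx hy hx0 hy0 hxy hv with e | e | e | e
  · rw [e, map_zero] at hqv; exact absurd hqv zero_ne_one
  · exact e
  · rw [e, hqy] at hqv; exact absurd hqv zero_ne_one
  · rw [e, R.q_add, hqx, hqy, zmod2_ne _ (X0_pair hT hx hy hx0 hy0 hxy)] at hqv
    exact absurd hqv (by decide)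

/-- An orthogonal involution moving vectors only by singular vectors of the space of an involution. -/
theorem twin (T : V ≃ₗ[ZMod 2] V) (hq : ∀ v, R.q (T v) = R.q v) (h2 : ∀ v, T (T v) = v) {f : U4}
    (hf : f * f = 1) (hf1 : f ≠ 1) (h : ∀ w, ∃ w', R.r f w' + w' = T w + w) (hs : ∀ w, R.q (T w + w) = 0) :
    T = 1 ∨ T = R.r f := by
  classical
  haveI := R.finite
  by_cases hall : ∀ v, T v = v
  · exact Or.inl (LinearEquiv.ext hall)
  push Not at hall
  obtain ⟨w0, hw0⟩ := hall
  have hB : ∀ v w, R.B (T v) (T w) = R.B v w := fun v w => by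
    simp only [B, QuadraticMap.polar, ← map_add, hq]
  set s := T w0 + w0 with hsdef
  have hs0 : s ≠ 0 := fun e => hw0 (eq_of_sum_zero e)
  obtain ⟨w1, hw1⟩ : ∃ w1, R.B s w1 ≠ 0 := by
    by_contra hno
    push Not at hno
    exact hs0 (R.nondeg s hno)
  set t := T w1 + w1 with htdef
  have ht0 : t ≠ 0 := fun e => hw1 (op_perp T hB (eq_of_sum_zero e) w0)
  have hts : t ≠ s := fun e => hw1 (by rw [← e, op_self T hq, hs])
  let L : Set V := Set.range fun w => R.r f w + w
  have hL4 : L.ncard = 4 := by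
    rw [show L = (LinearMap.range ((R.r f).toLinearMap + LinearMap.id) : Set V) from Set.ext fun x => Iff.rfl,
      ← Nat.card_coe_set_eq]
    exact tri_invol hT f hf hf1
  have hsum : s + t ≠ 0 := fun e => hts (eq_of_sum_zero e).symm
  have hLs : L = ({0, s, t, s + t} : Set V) := by
    refine (Set.eq_of_subset_of_ncard_le ?_ (le_of_eq ?_) (Set.toFinite _)).symm
    · obtain ⟨a, ha⟩ := h w0
      obtain ⟨b, hb⟩ := h w1
      rintro x (rfl | rfl | rfl | rfl)
      exacts [⟨0, by simp⟩, ⟨a, ha⟩, ⟨b, hb⟩, ⟨a + b, by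
        show R.r f (a + b) + (a + b) = s + t
        rw [map_add, hsdef, htdef, ← ha, ← hb]; exact add_add_add_comm _ _ _ _⟩]
    · rw [hL4, Set.ncard_insert_of_notMem (by simp [hs0.symm, ht0.symm, hsum.symm]),
        Set.ncard_insert_of_notMem (by
          simp only [Set.mem_insert_iff, Set.mem_singleton_iff, not_or]
          exact ⟨Ne.symm hts, fun e => ht0 (add_eq_left.1 e.symm)⟩),
        Set.ncard_pair fun e => hs0 (add_eq_right.1 e.symm)]
  have himg : ∀ x ∈ L, ∃ w, T w + w = x := by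
    intro x hx
    rw [hLs] at hx
    rcases hx with rfl | rfl | rfl | rfl
    exacts [⟨0, by simp⟩, ⟨w0, rfl⟩, ⟨w1, rfl⟩, ⟨w0 + w1, by rw [map_add, hsdef, htdef]; exact add_add_add_comm _ _ _ _⟩]
  refine Or.inr (LinearEquiv.ext fun v => ?_)
  by_cases hv : T v = v
  · rw [hv]
    refine (R.fix_of_perp hf fun w => ?_).symm
    obtain ⟨w', (e : T w' + w' = R.r f w + w)⟩ := himg _ ⟨w, rfl⟩
    rw [← e]
    exact op_perp T hB hv w'
  have hFv : R.r f v ≠ v := fun e => hv (op_fix T hB h2 fun w => by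
    obtain ⟨w', e'⟩ := h w
    rw [← e']
    exact R.perp_of_fix hf e w')
  obtain ⟨v', hv'⟩ := h v
  set a := T v + v with hadef
  set b := R.r f v + v with hbdef
  have ha : a ≠ 0 := fun e => hv (eq_of_sum_zero e)
  have hb : b ≠ 0 := fun e => hFv (eq_of_sum_zero e)
  have hab : a = b := by
    by_contra hne
    have hBa : R.B a v = 0 := by rw [hadef, op_self T hq, hs]
    have hBb : R.B b v = 0 := by
      obtain ⟨w', e⟩ := himg b ⟨v, rfl⟩
      rw [hbdef, op_self (R.r f) (R.inv f), ← hbdef, ← e, hs]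
    have hsum' : a + b ≠ 0 := fun e => hne (eq_of_sum_zero e)
    have hLab : L = ({0, a, b, a + b} : Set V) := by
      refine (Set.eq_of_subset_of_ncard_le ?_ (le_of_eq ?_) (Set.toFinite _)).symm
      · rintro x (rfl | rfl | rfl | rfl)
        exacts [⟨0, by simp⟩, ⟨v', hv'⟩, ⟨v, rfl⟩, ⟨v' + v, by
          show R.r f (v' + v) + (v' + v) = a + b
          rw [map_add, ← hv', hbdef]; exact add_add_add_comm _ _ _ _⟩]
      · rw [hL4, Set.ncard_insert_of_notMem (by simp [ha.symm, hb.symm, hsum'.symm]),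
          Set.ncard_insert_of_notMem (by
            simp only [Set.mem_insert_iff, Set.mem_singleton_iff, not_or]
            exact ⟨hne, fun e => hb (add_eq_left.1 e.symm)⟩),
          Set.ncard_pair fun e => ha (add_eq_right.1 e.symm)]
    refine hv (op_fix T hB h2 fun w => ?_)
    have hm : T w + w ∈ L := h w
    rw [hLab] at hm
    rcases hm with e | e | e | e <;> rw [e]
    exacts [R.B_zero_left v, hBa, hBb, by rw [R.B_add_left, hBa, hBb, add_zero]]
  calc T v = a + v := by rw [hadef, add_self_right]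
    _ = R.r f v := by rw [hab, hbdef, add_self_right]

/-- A group of involutions fixing a hyperbolic pair orthogonal to the fixed space is small. -/
theorem plane_small {E : Subgroup U4} (hE : ∀ g ∈ E, g * g = 1) {a b : V} (ha : R.e0 a = 0) (hb : R.e0 b = 0)
    (hab : R.B a b = 1) (hfa : ∀ g ∈ E, R.r g a = a) (hfb : ∀ g ∈ E, R.r g b = b) : Nat.card E ≤ 12 := by
  classical
  haveI := R.finite
  let U := {w : V // R.e0 w = 0 ∧ R.B w a = 0 ∧ R.B w b = 0}
  have hBba : R.B b a = 1 := by rw [R.B_comm]; exact hab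
  have hX : ∀ (x : R.X0) (v : V), R.e0 v = 0 → R.B x.1 v = 0 := fun x v hv => (perp_iff hT v).2 hv x.1 x.2
  let g0 : V → V := fun v => v + R.e0 v + R.B v b • a + R.B v a • b
  have hg0 : ∀ v, R.e0 (g0 v) = 0 ∧ R.B (g0 v) a = 0 ∧ R.B (g0 v) b = 0 := fun v => by
    have e1 : R.B (R.e0 v) a = 0 := hX ⟨_, R.e0_mem v⟩ a ha
    have e2 : R.B (R.e0 v) b = 0 := hX ⟨_, R.e0_mem v⟩ b hb
    refine ⟨?_, ?_, ?_⟩
    · simp only [g0, map_add, map_smul, ha, hb, smul_zero, add_zero, R.e0_X0 (R.e0_mem v), two_self]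
    · show R.B (v + R.e0 v + R.B v b • a + R.B v a • b) a = 0
      rw [R.B_add_left, R.B_add_left, R.B_add_left, e1, R.B_comm (R.B v b • a) a, R.B_smul_right, R.B_smul_self,
        R.B_comm (R.B v a • b) a, R.B_smul_right, hab, mul_zero, mul_one, add_zero, add_zero,
        zmod2_self]
    · show R.B (v + R.e0 v + R.B v b • a + R.B v a • b) b = 0
      rw [R.B_add_left, R.B_add_left, R.B_add_left, e2, R.B_comm (R.B v b • a) b, R.B_smul_right, hBba,
        R.B_comm (R.B v a • b) b, R.B_smul_right, R.B_smul_self, mul_zero, mul_one, add_zero, add_zero, zmod2_self]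
  let Φ : V ≃ (R.X0 × ZMod 2 × ZMod 2) × U :=
    { toFun := fun v => ((⟨R.e0 v, R.e0_mem v⟩, R.B v b, R.B v a), ⟨g0 v, hg0 v⟩)
      invFun := fun p => p.1.1.1 + p.1.2.1 • a + p.1.2.2 • b + p.2.1
      left_inv := fun v => by
        show R.e0 v + R.B v b • a + R.B v a • b + (v + R.e0 v + R.B v b • a + R.B v a • b) = v
        calc _ = (R.e0 v + R.e0 v) + (R.B v b • a + R.B v b • a) + (R.B v a • b + R.B v a • b) + v := by abel
          _ = v := by simp only [two_self, zero_add]
      right_inv := by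
        rintro ⟨⟨x, i, j⟩, w, hw0, hwa, hwb⟩
        have e0v : R.e0 (x.1 + i • a + j • b + w) = x.1 := by
          simp [ha, hb, hw0, R.e0_X0 x.2]
        have eb : R.B (x.1 + i • a + j • b + w) b = i := by
          rw [R.B_add_left, R.B_add_left, R.B_add_left, hX x b hb, R.B_comm (i • a) b, R.B_smul_right, hBba,
            R.B_comm (j • b) b, R.B_smul_right, R.B_smul_self, hwb, mul_zero, mul_one, zero_add, add_zero, add_zero]
        have ea : R.B (x.1 + i • a + j • b + w) a = j := by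
          rw [R.B_add_left, R.B_add_left, R.B_add_left, hX x a ha, R.B_comm (i • a) a, R.B_smul_right,
            R.B_smul_self, R.B_comm (j • b) a, R.B_smul_right, hab, hwa, mul_zero, mul_one, zero_add, zero_add,
            add_zero]
        refine Prod.ext (Prod.ext (Subtype.ext e0v) (Prod.ext eb ea)) (Subtype.ext ?_)
        show x.1 + i • a + j • b + w + R.e0 (x.1 + i • a + j • b + w) + R.B (x.1 + i • a + j • b + w) b • a +
          R.B (x.1 + i • a + j • b + w) a • b = w
        rw [e0v, eb, ea]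
        calc _ = (x.1 + x.1) + (i • a + i • a) + (j • b + j • b) + w := by abel
          _ = w := by simp only [two_self, zero_add] }
  have hU : Nat.card U = 16 := by
    have h := Nat.card_congr Φ
    rw [R.card, Nat.card_prod, Nat.card_prod, Nat.card_prod, hT.2.1, Nat.card_zmod] at h
    omega
  have hpres : ∀ g ∈ E, ∀ w : U, R.e0 (R.r g w.1) = 0 ∧ R.B (R.r g w.1) a = 0 ∧ R.B (R.r g w.1) b = 0 :=
    fun g hg w => ⟨by rw [e0_r hT, w.2.1], by
      have h := R.B_inv g w.1 a
      rw [hfa g hg] at h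
      rw [h]; exact w.2.2.1, by
      have h := R.B_inv g w.1 b
      rw [hfb g hg] at h
      rw [h]; exact w.2.2.2⟩
  let S := {w : U // w.1 ≠ 0}
  letI : MulAction E S :=
    { smul := fun g w => ⟨⟨R.r g.1 w.1.1, hpres g.1 g.2 w.1⟩, fun e => w.2 ((R.r g.1).map_eq_zero_iff.1 e)⟩
      one_smul := fun w => Subtype.ext (Subtype.ext (R.r_one _))
      mul_smul := fun g k w => Subtype.ext (Subtype.ext (R.r_mul g.1 k.1 _)) }
  have hsm : ∀ (g : E) (w : S), (g • w).1.1 = R.r g.1 w.1.1 := fun _ _ => rfl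
  have hfix : ∀ g : E, g ≠ 1 → Nat.card (MulAction.fixedBy S g) = 3 := by
    intro g hg
    have hg1 : (g : U4) ≠ 1 := fun e => hg (Subtype.ext e)
    let U' := {w : U // R.r g.1 w.1 = w.1}
    let Ψ : {v : V // R.r g.1 v = v} ≃ (R.X0 × ZMod 2 × ZMod 2) × U' :=
      { toFun := fun v => ((Φ v.1).1, ⟨(Φ v.1).2, by
          show R.r g.1 (v.1 + R.e0 v.1 + R.B v.1 b • a + R.B v.1 a • b) = _
          rw [map_add, map_add, map_add, map_smul, map_smul, v.2, tri_fix hT g.1 _ (R.e0_mem _), hfa g.1 g.2,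
            hfb g.1 g.2]
          rfl⟩)
        invFun := fun p => ⟨Φ.symm (p.1, p.2.1), by
          show R.r g.1 (p.1.1.1 + p.1.2.1 • a + p.1.2.2 • b + p.2.1.1) = p.1.1.1 + p.1.2.1 • a + p.1.2.2 • b + p.2.1.1
          rw [map_add, map_add, map_add, map_smul, map_smul, p.2.2, tri_fix hT g.1 _ p.1.1.2, hfa g.1 g.2,
            hfb g.1 g.2]⟩
        left_inv := fun v => Subtype.ext (Φ.symm_apply_apply v.1)
        right_inv := fun p => by
          refine Prod.ext ?_ (Subtype.ext ?_)
          · show (Φ (Φ.symm (p.1, p.2.1))).1 = p.1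
            rw [Φ.apply_symm_apply]
          · show (Φ (Φ.symm (p.1, p.2.1))).2 = p.2.1
            rw [Φ.apply_symm_apply] }
    have h := Nat.card_congr Ψ
    rw [card_fix hT (hE g.1 g.2) hg1, Nat.card_prod, Nat.card_prod, Nat.card_prod, hT.2.1, Nat.card_zmod] at h
    have h4 : Nat.card U' = 4 := by omega
    let z0 : U' := ⟨⟨0, map_zero _, R.B_zero_left a, R.B_zero_left b⟩, map_zero _⟩
    have e : MulAction.fixedBy S g ≃ {w : U' // w ≠ z0} :=
      { toFun := fun w => ⟨⟨w.1.1, congrArg (fun q : S => q.1.1) w.2⟩,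
          fun e => w.1.2 (congrArg (fun q : U' => q.1.1) e)⟩
        invFun := fun w => ⟨⟨w.1.1, fun e => w.2 (Subtype.ext (Subtype.ext e))⟩,
          Subtype.ext (Subtype.ext w.1.2)⟩
        left_inv := fun w => rfl
        right_inv := fun w => rfl }
    rw [Nat.card_congr e]
    haveI : Fintype U' := Fintype.ofFinite _
    rw [Nat.card_eq_fintype_card, Fintype.card_subtype_compl, Fintype.card_subtype_eq, ← Nat.card_eq_fintype_card, h4]
  have hS : Nat.card S = 15 := by
    haveI : Fintype U := Fintype.ofFinite _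
    let z0 : U := ⟨0, map_zero _, R.B_zero_left a, R.B_zero_left b⟩
    have e : S ≃ {w : U // w ≠ z0} := Equiv.subtypeEquivRight fun w => ⟨fun h e => h (congrArg Subtype.val e),
      fun h e => h (Subtype.ext e)⟩
    rw [Nat.card_congr e, Nat.card_eq_fintype_card, Fintype.card_subtype_compl, Fintype.card_subtype_eq,
      ← Nat.card_eq_fintype_card, hU]
  haveI : Fintype E := Fintype.ofFinite _
  haveI : Fintype (Quotient (MulAction.orbitRel E S)) := Fintype.ofFinite _
  haveI : ∀ g : E, Fintype (MulAction.fixedBy S g) := fun g => Fintype.ofFinite _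
  have hb' := MulAction.sum_card_fixedBy_eq_card_orbits_mul_card_group E S
  rw [← Finset.add_sum_erase _ _ (Finset.mem_univ (1 : E))] at hb'
  have h1 : Fintype.card (MulAction.fixedBy S (1 : E)) = 15 := by
    rw [← Nat.card_eq_fintype_card, MulAction.fixedBy_one_eq_univ, Nat.card_congr (Equiv.Set.univ S), hS]
  rw [h1, Finset.sum_congr rfl fun g hg => by rw [← Nat.card_eq_fintype_card, hfix g (Finset.ne_of_mem_erase hg)],
    Finset.sum_const, Finset.card_erase_of_mem (Finset.mem_univ _), Finset.card_univ, smul_eq_mul] at hb'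
  rw [Nat.card_eq_fintype_card]
  have hpos : 0 < Fintype.card E := Fintype.card_pos
  have hd : Fintype.card E ∣ 12 := by
    have hN : 3 * Fintype.card E + 12 = Fintype.card (Quotient (MulAction.orbitRel E S)) * Fintype.card E := by omega
    refine (Nat.dvd_add_right (Dvd.intro_left 3 rfl)).1 (hN ▸ Dvd.intro_left _ rfl)
  exact Nat.le_of_dvd (by norm_num) hd

/-- A large absorbed subgroup meets the fixed space. -/
theorem X0_in (M : AddSubgroup V) (hq : ∀ m ∈ M, R.q m = 0) {s : V} (hs : s ∈ M) (h0 : s ≠ 0) (hse : R.e0 s = 0)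
    (hinv : ∀ g : U4, R.r g s = s → ∀ m ∈ M, R.r g m ∈ M) (h4 : 4 ≤ Nat.card M) :
    Nat.card M = 4 ∧ ∃ p ∈ M, p ≠ 0 ∧ p ∈ R.X0 := by
  classical
  haveI := R.finite
  have hP : ∀ x ∈ R.X0, R.B s x = 0 := fun x hx => by rw [R.B_comm]; exact (perp_iff hT s).2 hse x hx
  have hM : Nat.card M = 4 := le_antisymm (tri_absorb hT M hq hs h0 hP hinv) h4
  refine ⟨hM, ?_⟩
  obtain ⟨g, hg, hgs⟩ := exists_five hT hse (hq s hs) h0
  have hg5 : g ^ 5 = 1 := by rw [← hg, pow_orderOf_eq_one]
  let f : Equiv.Perm M :=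
    { toFun := fun v => ⟨R.r g v.1, hinv g hgs _ v.2⟩
      invFun := fun v => ⟨R.r g⁻¹ v.1, hinv g⁻¹ (by conv_lhs => rw [← hgs, R.r_inv]) _ v.2⟩
      left_inv := fun v => Subtype.ext (R.r_inv g v.1)
      right_inv := fun v => Subtype.ext (by
        show R.r g (R.r g⁻¹ v.1) = v.1
        rw [← R.r_mul, mul_inv_cancel, R.r_one]) }
  have hfp : ∀ (n : ℕ) (v : M), ((f ^ n) v).1 = R.r (g ^ n) v.1 := fun n => by
    induction n with
    | zero => intro v; rw [pow_zero, pow_zero, R.r_one]; rfl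
    | succ n ih =>
      intro v
      rw [pow_succ, Equiv.Perm.mul_apply, ih, pow_succ, R.r_mul]; rfl
  have hcong := card_fix_five f (Equiv.ext fun v => Subtype.ext (by rw [hfp, hg5, R.r_one]; rfl))
  rw [hM] at hcong
  have hfix : ∀ v : M, f v = v := by
    have hle : Nat.card {v : M // f v = v} ≤ 4 := hM ▸ Nat.card_le_card_of_injective Subtype.val Subtype.val_injective
    have hb : Function.Bijective (Subtype.val : {v : M // f v = v} → M) :=
      (Nat.bijective_iff_injective_and_card _).2 ⟨Subtype.val_injective, by omega⟩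
    intro v
    obtain ⟨w, rfl⟩ := hb.2 v
    exact w.2
  obtain ⟨p, hp, hp'⟩ := Set.exists_mem_notMem_of_ncard_lt_ncard (s := ({0, s} : Set V)) (t := (M : Set V))
    (by
      rw [← Nat.card_coe_set_eq (M : Set V)]
      simp only [SetLike.coe_sort_coe, hM]
      exact lt_of_le_of_lt ((Set.ncard_insert_le _ _).trans (Nat.succ_le_succ (Set.ncard_singleton _).le))
        (by norm_num))
  simp only [Set.mem_insert_iff, Set.mem_singleton_iff, not_or] at hp'
  have hgp : R.r g p = p := congrArg Subtype.val (hfix ⟨p, hp⟩)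
  have hBsp : R.B s p = 0 := by
    have h := R.q_add s p
    rw [hq _ (M.add_mem hs hp), hq s hs, hq p hp, zero_add, zero_add] at h
    exact h.symm
  refine ⟨R.e0 p, ?_, fun e => ?_, R.e0_mem p⟩
  · rcases five_fix hT hg hse h0 hgs (p := p + R.e0 p) (by rw [map_add, R.e0_X0 (R.e0_mem _), two_self])
      (by rw [map_add, hgp, tri_fix hT g _ (R.e0_mem _)]) (by rw [R.B_add_right, hBsp, hP _ (R.e0_mem _), add_zero])
      with e | e
    · rw [← eq_of_sum_zero e]; exact hp
    · rw [show R.e0 p = p + s by rw [← e, add_self_left]]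
      exact M.add_mem hp hs
  · rcases five_fix hT hg hse h0 hgs e hgp hBsp with e' | e'
    exacts [hp'.1 e', hp'.2 e']

end Rep

namespace Ce

variable {G : Type*} [Group G] {z : G} {R : Rep V} {f0 : V ≃ₗ[ZMod 2] V} (D : Ce z R f0)

include D

/-- The elements acting by the image of the unitary group. -/
def IsInn (a : G) : Prop := D.act a ∈ R.r.range

theorem act_qf {a : G} (ha : Commute a z) (v : V) : R.q (D.act a v) = R.q v := by
  obtain ⟨j, hj, rfl⟩ := D.pr_surj v
  rw [← D.pr_act a ha j hj]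
  have hj' := D.conj_mem ha hj
  have e : a * j * a⁻¹ * (a * j * a⁻¹) = a * (j * j) * a⁻¹ := by group
  rcases D.sq_cases hj with h | h
  · rw [(D.invol_iff hj).1 h, (D.invol_iff hj').1 (by rw [e, h]; group)]
  · have h1 : R.q (D.pr j) ≠ 0 := fun q => D.z_ne (h.symm.trans ((D.invol_iff hj).2 q))
    have h2 : R.q (D.pr (a * j * a⁻¹)) ≠ 0 := fun q => D.z_ne (by
      rw [← (D.invol_iff hj').2 q, e, h, ha.eq, mul_inv_cancel_right])
    rw [zmod2_ne _ h1, zmod2_ne _ h2]

theorem act_Bf {a : G} (ha : Commute a z) (v w : V) : R.B (D.act a v) (D.act a w) = R.B v w := by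
  simp only [Rep.B, QuadraticMap.polar, ← map_add, D.act_qf ha]

theorem act_invol {a : G} (ha : Commute a z) (h : a * a = 1) (v : V) : D.act a (D.act a v) = v := by
  rw [← LinearEquiv.mul_apply, ← D.act_mul _ _ ha ha, h, D.act_one]
  rfl

theorem inn_mul {a b : G} (ha : Commute a z) (hb : Commute b z) (h : D.IsInn a) (h' : D.IsInn b) :
    D.IsInn (a * b) := by
  rw [IsInn, D.act_mul a b ha hb]; exact mul_mem h h'

theorem inn_inv {a : G} (ha : Commute a z) (h : D.IsInn a) : D.IsInn a⁻¹ := by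
  rw [IsInn, D.act_inv ha]; exact inv_mem h

variable (hf : IsOuter R f0)
include hf

theorem out_mul_out {a b : G} (ha : Commute a z) (hb : Commute b z) (h : ¬D.IsInn a) (h' : ¬D.IsInn b) :
    D.IsInn (a * b) := by
  obtain ⟨u, e⟩ := D.act_range a ha
  obtain ⟨w, e'⟩ := D.act_range b hb
  replace e := e.resolve_left fun q => h ⟨u, q.symm⟩
  replace e' := e'.resolve_left fun q => h' ⟨w, q.symm⟩
  obtain ⟨w', hw'⟩ := hf.norm w
  refine ⟨u * w', ?_⟩
  rw [D.act_mul a b ha hb, e, e', map_mul, mul_assoc (R.r u) f0, ← mul_assoc f0, hw', mul_assoc (R.r w'), hf.sq,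
    mul_one]

theorem comm_inn {a b : G} (ha : Commute a z) (hb : Commute b z) : D.IsInn (a * b * a⁻¹ * b⁻¹) := by
  have hai : ¬D.IsInn a → ¬D.IsInn a⁻¹ := fun h q => h (by
    have := D.inn_inv ha.inv_left q
    rwa [inv_inv] at this)
  have hbi : ¬D.IsInn b → ¬D.IsInn b⁻¹ := fun h q => h (by
    have := D.inn_inv hb.inv_left q
    rwa [inv_inv] at this)
  -- three outer elements multiply to an outer one
  have mixed : ∀ x y, Commute x z → Commute y z → D.IsInn x → ¬D.IsInn y → ¬D.IsInn (x * y) :=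
    fun x y hx hy h h' q => h' (by
      have := D.inn_mul hx.inv_left (hx.mul_left hy) (D.inn_inv hx h) q
      rwa [inv_mul_cancel_left] at this)
  have mixed' : ∀ x y, Commute x z → Commute y z → ¬D.IsInn x → D.IsInn y → ¬D.IsInn (x * y) :=
    fun x y hx hy h h' q => h (by
      have := D.inn_mul (hx.mul_left hy) hy.inv_left q (D.inn_inv hy h')
      rwa [mul_inv_cancel_right] at this)
  rw [mul_assoc]
  by_cases hA : D.IsInn a <;> by_cases hB : D.IsInn b
  · exact D.inn_mul (ha.mul_left hb) (ha.inv_left.mul_left hb.inv_left) (D.inn_mul ha hb hA hB)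
      (D.inn_mul ha.inv_left hb.inv_left (D.inn_inv ha hA) (D.inn_inv hb hB))
  · exact D.out_mul_out hf (ha.mul_left hb) (ha.inv_left.mul_left hb.inv_left) (mixed a b ha hb hA hB)
      (mixed _ _ ha.inv_left hb.inv_left (D.inn_inv ha hA) (hbi hB))
  · exact D.out_mul_out hf (ha.mul_left hb) (ha.inv_left.mul_left hb.inv_left) (mixed' a b ha hb hA hB)
      (mixed' _ _ ha.inv_left hb.inv_left (hai hA) (D.inn_inv hb hB))
  · exact D.inn_mul (ha.mul_left hb) (ha.inv_left.mul_left hb.inv_left) (D.out_mul_out hf ha hb hA hB)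
      (D.out_mul_out hf ha.inv_left hb.inv_left (hai hA) (hbi hB))

theorem act_X0 {a : G} (ha : Commute a z) {x : V} (hx : x ∈ R.X0) (hT : R.IsTri) : D.act a x ∈ R.X0 := by
  obtain ⟨u, e | e⟩ := D.act_range a ha <;> rw [e]
  · exact Rep.X0_inv hT u x hx
  · refine Rep.X0_inv hT u _ fun l => ?_
    obtain ⟨w, hw⟩ := hf.norm (dE l.1)
    show R.r (dE l.1) (f0 x) = f0 x
    have h1 : R.r (dE l.1) * f0 = f0 * R.r w := by
      calc R.r (dE l.1) * f0 = f0 * (f0 * R.r (dE l.1)) * f0 := by rw [← mul_assoc f0 f0, hf.sq, one_mul]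
        _ = f0 * (R.r w * f0) * f0 := by rw [hw]
        _ = f0 * R.r w := by rw [mul_assoc, mul_assoc, hf.sq, mul_one]
    rw [← LinearEquiv.mul_apply, h1, LinearEquiv.mul_apply, Rep.tri_fix hT w x hx]

/-- The projection to the fixed space commutes with the action. -/
theorem act_e0 {a : G} (ha : Commute a z) (v : V) (hT : R.IsTri) : R.e0 (D.act a v) = D.act a (R.e0 v) := by
  have h1 : R.e0 (D.act a (v + R.e0 v)) = 0 := (Rep.perp_iff hT _).1 fun x hx => by
    have h := D.act_Bf ha.inv_left x (D.act a (v + R.e0 v))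
    rw [← h, D.act_inv ha]
    show R.B ((D.act a).symm x) ((D.act a).symm (D.act a (v + R.e0 v))) = 0
    rw [LinearEquiv.symm_apply_apply]
    refine (Rep.perp_iff hT _).2 (by rw [map_add, R.e0_X0 (R.e0_mem v), two_self]) _ ?_
    have := D.act_X0 hf ha.inv_left hx hT
    rwa [D.act_inv ha] at this
  rw [map_add (D.act a), map_add R.e0, R.e0_X0 (D.act_X0 hf ha (R.e0_mem v) hT)] at h1
  exact eq_of_sum_zero h1

end Ce

end CfsgLib.U62Cent
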