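import Cfsg.Agent.U62Cent.ExtTriFusion

/-!
The reducible case of extended type: no element of order four over the fixed space commutes with another conjugate.
-/

set_option autoImplicit false
set_option maxRecDepth 100000
set_option maxHeartbeats 1000000
set_option linter.style.haveILetI false
set_option linter.unusedSectionVars false

namespace CfsgLib.U62Cent

open CfsgLib Subgroup

universe v

variable {V : Type v} [AddCommGroup V] [Module (ZMod 2) V]
variable {G : Type*} [Group G] [Finite G] {z : G} {R : Rep V} {f0 : V ≃ₗ[ZMod 2] V}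

namespace Ce

variable (D : Ce z R f0) (hT : R.IsTri) (hf : IsOuter R f0) {u : G} (Du : Ce u R f0) (hcu : Commute z u)
  (hz : z ∉ Du.J)

include D Du hcu hz hT hf

theorem comm_other {r : G} (hr : r ∈ D.J) (hX : D.pr r ∈ R.X0) (hru : Commute r u) {y : G} (hy : y ∈ Du.J)
    (hyz : Commute y z) : Commute r y := by
  have hne : u ≠ z := fun e => hz (e ▸ Du.z_mem)
  have hm' : r⁻¹ * (y * r * y⁻¹) ∈ Du.J := by
    have h1 := mul_mem (Du.conj_mem hru.inv_left hy) (inv_mem hy)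
    rwa [inv_inv, show r⁻¹ * y * r * y⁻¹ = r⁻¹ * (y * r * y⁻¹) by group] at h1
  have hc := D.conj_mem hyz hr
  have hfix : D.pr (y * r * y⁻¹) = D.pr r := by
    by_contra hmove
    have hpy : D.pr (y * r * y⁻¹) = D.act y (D.pr r) := D.pr_act y hyz r hr
    have h0 : R.q (D.pr (r⁻¹ * (y * r * y⁻¹))) = 0 :=
      (D.invol_iff (mul_mem (inv_mem hr) hc)).1 (D.inter_invol Du hne (mul_mem (inv_mem hr) hc) hm')
    have hr0 : D.pr r ≠ 0 := fun e => hmove (by rw [hpy, e, map_zero])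
    rw [D.pr_mul _ (inv_mem hr) _ hc, D.pr_inv hr, hpy,
      Rep.X0_q_sum hT hX (D.act_X0 hf hyz hX hT) hr0 (fun e => hr0 ((D.act y).map_eq_zero_iff.1 e))
        (fun e => hmove (hpy.trans e.symm)) (D.act_qf hyz _)] at h0
    exact one_ne_zero h0
  rcases D.eq_of_pr hr hc hfix.symm with e | e
  · exact (mul_inv_eq_iff_eq_mul.1 e).symm
  · refine absurd ?_ hz
    rwa [e, inv_mul_cancel_left] at hm'

/-- No element of order four over the fixed space commutes with another conjugate. -/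
theorem no_four {r : G} (hr : r ∈ D.J) (hX : D.pr r ∈ R.X0) (hr2 : r * r = z) (hru : Commute r u) : False := by
  have hrz := D.J_comm r hr
  have hρ : Du.act r * Du.act r = Du.act z := by rw [← Du.act_mul _ _ hru hru, hr2]
  obtain ⟨f, hfz⟩ : Du.IsInn z := by
    by_cases h : Du.IsInn r
    · have := Du.inn_mul hru hru h h
      rwa [hr2] at this
    · have := Du.out_mul_out hf hru hru h h
      rwa [hr2] at this
  have hf2 : f * f = 1 := R.inj (by rw [map_mul, hfz, ← Du.act_mul _ _ hcu hcu, D.z_sq, Du.act_one, map_one])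
  have hf1 : f ≠ 1 := fun e => hz ((Du.act_J z hcu).1 (by rw [← hfz, e, map_one]))
  have hcom : ∀ w, Du.act r (R.r f w) = R.r f (Du.act r w) := fun w => by
    rw [← LinearEquiv.mul_apply, ← LinearEquiv.mul_apply, hfz, ← hρ, mul_assoc]
  by_cases hall : ∀ j ∈ Du.J, Commute (z * j * z⁻¹ * j⁻¹) z
  swap
  · push Not at hall
    obtain ⟨j, hj, hyc⟩ := hall
    set y := z * j * z⁻¹ * j⁻¹ with hy
    have hyJ : y ∈ Du.J := mul_mem (Du.conj_mem hcu hj) (inv_mem hj)
    have hinv : z * y * z⁻¹ = y⁻¹ := by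
      rw [hy, show z * (z * j * z⁻¹ * j⁻¹) * z⁻¹ = z * z * j * z⁻¹ * j⁻¹ * z⁻¹ by group, D.z_sq, one_mul,
        _root_.mul_inv_rev, _root_.mul_inv_rev, _root_.mul_inv_rev, inv_inv, inv_inv, D.z_inv]
      group
    have hy2 : y * y = u := (Du.sq_cases hyJ).resolve_left fun e => hyc
      (mul_inv_eq_iff_eq_mul.1 (by rw [hinv, inv_eq_of_mul_eq_one_right e])).symm
    set y' := r * y * r⁻¹ with hy'
    have hy'J : y' ∈ Du.J := Du.conj_mem hru hyJ
    have hy'2 : y' * y' = u := by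
      rw [hy', show r * y * r⁻¹ * (r * y * r⁻¹) = r * (y * y) * r⁻¹ by group, hy2, hru.eq, mul_inv_cancel_right]
    have hinv' : z * y' * z⁻¹ = y'⁻¹ := by
      calc z * y' * z⁻¹ = (z * r) * y * (z * r)⁻¹ := by rw [hy']; group
        _ = r * (z * y * z⁻¹) * r⁻¹ := by rw [← hrz.eq]; group
        _ = _ := by rw [hinv, hy']; group
    have hpy : Du.pr y = R.r f (Du.pr j) + Du.pr j := by
      rw [hy, Du.pr_mul _ (Du.conj_mem hcu hj) _ (inv_mem hj), Du.pr_act z hcu j hj, Du.pr_inv hj, ← hfz]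
    have hcyy : Commute y y' := (Du.comm_iff hyJ hy'J).2 (by
      rw [hy', Du.pr_act r hru y hyJ, hpy, map_add, hcom]
      exact R.image_iso hf2 _ _)
    set e := y⁻¹ * y' with he
    clear_value e y' y
    have he2 : e * e = 1 := by
      calc e * e = y⁻¹ * (y' * y⁻¹) * y' := by rw [he]; group
        _ = y⁻¹ * y⁻¹ * (y' * y') := by rw [← hcyy.inv_left.eq]; group
        _ = (y * y)⁻¹ * (y' * y') := by rw [_root_.mul_inv_rev]
        _ = 1 := by rw [hy2, hy'2, inv_mul_cancel]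
    have hze : Commute e z := by
      refine (mul_inv_eq_iff_eq_mul.1 ?_).symm
      calc z * e * z⁻¹ = (z * y * z⁻¹)⁻¹ * (z * y' * z⁻¹) := by rw [he]; group
        _ = y * y'⁻¹ := by rw [hinv, hinv', inv_inv]
        _ = e⁻¹ := by rw [he, _root_.mul_inv_rev, inv_inv, hcyy.inv_right.eq]
        _ = e := inv_eq_of_mul_eq_one_right he2
    have hre : Commute r e :=
      D.comm_other hT hf Du hcu hz hr hX hru (he ▸ mul_mem (inv_mem hyJ) hy'J) hze
    refine hyc (mul_inv_eq_iff_eq_mul.1 ?_).symm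
    calc z * y * z⁻¹ = r * (r * y * r⁻¹) * r⁻¹ := by rw [← hr2]; group
      _ = r * (y * e) * r⁻¹ := by rw [← hy', he, mul_inv_cancel_left]
      _ = (r * y * r⁻¹) * (r * e * r⁻¹) := by group
      _ = y * e * e := by
        rw [hre.eq, mul_inv_cancel_right, ← hy', show y' = y * e by rw [he, mul_inv_cancel_left]]
      _ = y := by rw [mul_assoc, he2, mul_one]
  obtain ⟨w, hw⟩ := R.exists_moved hf1
  obtain ⟨j, hj, rfl⟩ := Du.pr_surj w
  set k := r * j * r⁻¹ * j⁻¹ with hk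
  have hkJ : k ∈ Du.J := mul_mem (Du.conj_mem hru hj) (inv_mem hj)
  have hpk : Du.pr k = Du.act r (Du.pr j) + Du.pr j := by
    rw [hk, Du.pr_mul _ (Du.conj_mem hru hj) _ (inv_mem hj), Du.pr_act r hru j hj, Du.pr_inv hj]
  have hperp : ∀ x ∈ Du.J, Commute x z → R.B (Du.pr k) (Du.pr x) = 0 := fun x hx hxz =>
    hpk ▸ Rep.op_perp (Du.act r) (fun v w => Du.act_Bf hru v w)
      (Du.pr_fix hru hx (D.comm_other hT hf Du hcu hz hr hX hru hx hxz)) _
  have hW : ∀ w', ∃ y ∈ Du.J, Commute y z ∧ Du.pr y = R.r f w' + w' := fun w' => by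
    obtain ⟨j', hj', rfl⟩ := Du.pr_surj w'
    refine ⟨_, mul_mem (Du.conj_mem hcu hj') (inv_mem hj'), hall j' hj', ?_⟩
    rw [Du.pr_mul _ (Du.conj_mem hcu hj') _ (inv_mem hj'), Du.pr_act z hcu j' hj', Du.pr_inv hj', ← hfz]
  have hkfix : R.r f (Du.pr k) = Du.pr k := R.fix_of_perp hf2 fun w' => by
    obtain ⟨y, hyJ, hyz, e⟩ := hW w'
    rw [← e, R.B_comm]
    exact hperp y hyJ hyz
  have hflip : ∀ i ∈ Du.J, R.r f (Du.pr i) = Du.pr i → Commute i z ∨ z * i * z⁻¹ = i * u :=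
    fun i hi e => (Du.eq_of_pr hi (Du.conj_mem hcu hi) (by rw [Du.pr_act z hcu i hi, ← hfz, e])).imp_left
      fun q => (mul_inv_eq_iff_eq_mul.1 q).symm
  rcases hflip k hkJ hkfix with hkz | hkz
  · refine hw ?_
    have hrk : Commute r k := D.comm_other hT hf Du hcu hz hr hX hru hkJ hkz
    have e : z * j * z⁻¹ = k * (k * j) := by
      calc z * j * z⁻¹ = r * (r * j * r⁻¹) * r⁻¹ := by rw [← hr2]; group
        _ = r * (k * j) * r⁻¹ := by rw [hk, inv_mul_cancel_right]
        _ = (r * k * r⁻¹) * (r * j * r⁻¹) := by group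
        _ = k * (r * j * r⁻¹) := by rw [hrk.eq, mul_inv_cancel_right]
        _ = k * (k * j) := by rw [hk, inv_mul_cancel_right]
    rw [hfz, ← Du.pr_act z hcu j hj, e, Du.pr_mul _ hkJ _ (mul_mem hkJ hj), Du.pr_mul _ hkJ _ hj, ← add_assoc,
      two_self, zero_add]
  · obtain ⟨w', hw'⟩ := R.range_of_perp hf2 (k := Du.pr k) fun v hv => by
      obtain ⟨i, hi, rfl⟩ := Du.pr_surj v
      rcases hflip i hi hv with hiz | hiz
      · exact hperp i hi hiz
      have hik : Commute (i * k) z := (mul_inv_eq_iff_eq_mul.1 (by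
        calc z * (i * k) * z⁻¹ = (z * i * z⁻¹) * (z * k * z⁻¹) := by group
          _ = i * (u * k) * u := by rw [hiz, hkz]; group
          _ = i * k * (u * u) := by rw [← (Du.J_comm k hkJ).eq]; group
          _ = i * k := by rw [Du.z_sq, mul_one])).symm
      have := hperp _ (mul_mem hi hkJ) hik
      rwa [Du.pr_mul _ hi _ hkJ, R.B_add_right, R.B_smul_self, add_zero] at this
    obtain ⟨y, hyJ, hyz, ey⟩ := hW w'
    have hkc : Commute k z := by
      rcases Du.eq_of_pr hyJ hkJ (ey.trans hw') with e | e <;> rw [e]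
      exacts [hyz, hyz.mul_left hcu.symm]
    rw [hkc.symm.eq, mul_inv_cancel_right] at hkz
    exact Du.z_ne (mul_eq_left.1 hkz.symm)

/-- An element of order four over an anisotropic vector of the fixed space fixed by another conjugate. -/
theorem exists_four (hu : u * u = 1) :
    ∃ r, r ∈ D.J ∧ D.pr r ∈ R.X0 ∧ R.q (D.pr r) = 1 ∧ r * r = z ∧ u * r * u⁻¹ = r * z ∧ r * u * r⁻¹ = u * z := by
  obtain ⟨x, hx, hx0, hq, -⟩ := Rep.X0_vectors hT
  set T := D.act u
  have hxT : T x ∈ R.X0 := D.act_X0 hf hcu.symm hx hT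
  obtain ⟨x1, hx1, hq1, hfix⟩ : ∃ x1, x1 ∈ R.X0 ∧ R.q x1 = 1 ∧ T x1 = x1 := by
    by_cases e : T x = x
    · exact ⟨x, hx, hq, e⟩
    · refine ⟨x + T x, R.X0.add_mem hx hxT,
        Rep.X0_q_sum hT hx hxT hx0 (fun q => hx0 (T.map_eq_zero_iff.1 q)) (Ne.symm e) (D.act_qf hcu.symm x), ?_⟩
      rw [map_add, D.act_invol hcu.symm hu, add_comm]
  obtain ⟨r, hr, rfl⟩ := D.pr_surj x1
  have hr2 : r * r = z := by
    have e := D.sq r hr
    rwa [hq1, if_neg (by decide)] at e
  have hru : ¬ Commute r u := fun e => D.no_four hT hf Du hcu hz hr hx1 hr2 e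
  have hur : u * r * u⁻¹ = r * z :=
    (D.eq_of_pr hr (D.conj_mem hcu.symm hr) (by rw [D.pr_act u hcu.symm r hr]; exact hfix.symm)).resolve_left
      fun e => hru (mul_inv_eq_iff_eq_mul.1 e).symm
  refine ⟨r, hr, hx1, hq1, hr2, hur, ?_⟩
  have h1 : u * r = r * z * u := mul_inv_eq_iff_eq_mul.1 hur
  rw [mul_inv_eq_iff_eq_mul]
  calc r * u = r * z * u * z := by
        rw [mul_assoc (r * z) u z, hcu.symm.eq, ← mul_assoc, mul_assoc r z z, D.z_sq, mul_one]
    _ = u * r * z := by rw [h1]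
    _ = u * z * r := by rw [mul_assoc, (D.J_comm r hr).eq, ← mul_assoc]

end Ce

end CfsgLib.U62Cent
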