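import Cfsg.Agent.U62Cent.ExtTriBasic

/-!
The reducible case of extended type: the centre is fused to no further element of its radical.
-/

set_option autoImplicit false
set_option maxRecDepth 100000
set_option maxHeartbeats 1000000
set_option linter.style.haveILetI false
set_option linter.unusedSectionVars false

namespace CfsgLib.U62Cent

open CfsgLib Subgroup

universe v

variable {V : Type v} [AddCommGroup V] [Module (ZMod 2) V]
variable {G : Type*} [Group G] [Finite G] {z : G} {R : Rep V} {f0 : V ≃ₗ[ZMod 2] V}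

namespace Ce

variable (D : Ce z R f0) (hT : R.IsTri) (hf : IsOuter R f0) {s : G} (Ds : Ce s R f0)

include hT hf Ds in
/-- A member of the radical lies over a vector orthogonal to the fixed space. -/
theorem fusion_X0 (hs : s ∈ D.J) (hz : z ∈ Ds.J) (hne : s ≠ z) : R.e0 (D.pr s) = 0 := by
  classical
  haveI := R.finite
  by_contra he
  have hs0 : D.pr s ≠ 0 := fun e => he (by rw [e, map_zero])
  have hz0 : Ds.pr z ≠ 0 := fun e => ((Ds.pr_zero z hz).1 e).elim D.z_ne (Ne.symm hne)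
  have hbig := D.meetV_big Ds hf hs hz hz0
  have hcase : ∀ b ∈ Ds.cJ z, ∀ x ∈ D.J, x ∈ Ds.J → Commute b x ∨ D.act b (D.pr x) + D.pr x = D.pr s := by
    intro b hb x hx hx'
    obtain ⟨hbJ, hbz⟩ := Ds.mem_cJ.1 hb
    rcases Ds.comm_cases hbJ hx' with e | e
    · exact Or.inl (mul_inv_eq_iff_eq_mul.1 (mul_inv_eq_one.1 e))
    · right
      have e2 : D.pr (b * x * b⁻¹ * x⁻¹) = D.act b (D.pr x) + D.pr x := by
        rw [D.pr_mul _ (D.conj_mem hbz hx) _ (inv_mem hx), D.pr_act b hbz x hx, D.pr_inv hx]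
      rw [e] at e2
      exact e2.symm
  have hinn : ∀ b ∈ Ds.cJ z, D.IsInn b → ∀ x ∈ D.J, x ∈ Ds.J → Commute b x := by
    intro b hb ⟨u, hu⟩ x hx hx'
    refine (hcase b hb x hx hx').resolve_right fun e => he ?_
    rw [← e, map_add, ← hu, Rep.e0_r hT, two_self]
  have hcent : ∀ x ∈ D.J, x ∈ Ds.J → (∀ y ∈ Ds.cJ z, Commute x y) → D.pr x = 0 ∨ D.pr x = D.pr s := by
    intro x _ hx' h
    rcases Ds.central_cJ hz hx' h with e | e | e | e
    · left; rw [e, D.pr_one]
    · right; rw [e]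
    · left; rw [e, D.pr_z]
    · right; rw [e, D.pr_mul _ D.z_mem _ hs, D.pr_z, zero_add]
  by_cases hall : ∀ b ∈ Ds.cJ z, ∀ x ∈ D.J, x ∈ Ds.J → Commute b x
  · have hsub : (D.meetV Ds : Set V) ⊆ {0, D.pr s} := by
      rintro m ⟨x, hx, hx', rfl⟩
      rcases hcent x hx hx' fun y hy => (hall y hy x hx hx').symm with e | e
      exacts [Or.inl e, Or.inr e]
    have hc := Set.ncard_le_ncard hsub
    rw [← Nat.card_coe_set_eq] at hc
    have hpair : ({0, D.pr s} : Set V).ncard ≤ 2 :=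
      (Set.ncard_insert_le _ _).trans (Nat.succ_le_succ (Set.ncard_singleton _).le)
    simp only [SetLike.coe_sort_coe] at hc
    omega
  push Not at hall
  obtain ⟨a0, ha0, x0, hx0, hx0', hnc⟩ := hall
  obtain ⟨ha0J, ha0z⟩ := Ds.mem_cJ.1 ha0
  have hout : ¬D.IsInn a0 := fun h => hnc (hinn a0 ha0 h x0 hx0 hx0')
  have e0 := (hcase a0 ha0 x0 hx0 hx0').resolve_left hnc
  set p := D.pr x0 with hp
  have hsub : (D.meetV Ds : Set V) ⊆ {0, D.pr s, p, p + D.pr s} := by
    rintro m ⟨x, hx, hx', rfl⟩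
    have hcom : ∀ y, y ∈ D.J → y ∈ Ds.J → Commute a0 y → ∀ b ∈ Ds.cJ z, Commute y b := by
      intro y hy hy' hc b hb
      obtain ⟨hbJ, hbz⟩ := Ds.mem_cJ.1 hb
      by_cases h : D.IsInn b
      · exact (hinn b hb h y hy hy').symm
      · have h1 := hinn (b * a0) (mul_mem hb ha0) (D.out_mul_out hf hbz ha0z h hout) y hy hy'
        have h2 := h1.mul_left hc.inv_left
        rw [mul_inv_cancel_right] at h2
        exact h2.symm
    by_cases hc : Commute a0 x
    · rcases hcent x hx hx' (hcom x hx hx' hc) with e | e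
      exacts [Or.inl e, Or.inr (Or.inl e)]
    · have e1 := (hcase a0 ha0 x hx hx').resolve_left hc
      have hc' : Commute a0 (x0 * x) := by
        refine (hcase a0 ha0 _ (mul_mem hx0 hx) (mul_mem hx0' hx')).resolve_right fun e => hs0 ?_
        rw [D.pr_mul _ hx0 _ hx, map_add, ← hp] at e
        rw [show D.act a0 p + D.act a0 (D.pr x) + (p + D.pr x) = (D.act a0 p + p) + (D.act a0 (D.pr x) + D.pr x) by
          abel, e0, e1, two_self] at e
        exact e.symm
      rcases hcent _ (mul_mem hx0 hx) (mul_mem hx0' hx') (hcom _ (mul_mem hx0 hx) (mul_mem hx0' hx') hc') with e | e <;>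
        rw [D.pr_mul _ hx0 _ hx, ← hp] at e
      · exact Or.inr (Or.inr (Or.inl (eq_of_sum_zero e).symm))
      · exact Or.inr (Or.inr (Or.inr (by rw [Set.mem_singleton_iff, ← e, add_self_left])))
  have hM : Nat.card (D.meetV Ds) ≤ 4 := by
    have hc := Set.ncard_le_ncard hsub
    rw [← Nat.card_coe_set_eq] at hc
    simp only [SetLike.coe_sort_coe] at hc
    exact hc.trans ((Set.ncard_insert_le _ _).trans (Nat.succ_le_succ ((Set.ncard_insert_le _ _).trans
      (Nat.succ_le_succ ((Set.ncard_insert_le _ _).trans (Nat.succ_le_succ (Set.ncard_singleton _).le))))))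
  -- the inner part of the other radical fixes a hyperbolic pair
  set E := (D.other Ds).range.comap R.r
  have hE : 16 ≤ Nat.card E := by
    have h1 : Nat.card (D.other Ds).range ≤ 2 * Nat.card E := hf.card_le _ (D.other_range_ext Ds)
    have h2 := D.other_card Ds hz hz0
    have h3 := D.ker_card_le Ds
    have h4 : Nat.card (D.other Ds).range * Nat.card (D.other Ds).ker ≤ 2 * Nat.card E * 8 :=
      Nat.mul_le_mul h1 (by omega)
    omega
  have hfix : ∀ g ∈ E, R.r g (D.pr s) = D.pr s ∧ R.r g p = p := by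
    rintro g ⟨⟨b, hb⟩, hbg⟩
    change D.act b = R.r g at hbg
    obtain ⟨hbJ, hbz⟩ := Ds.mem_cJ.1 hb
    rw [← hbg]
    exact ⟨D.pr_fix hbz hs (Ds.J_comm b hbJ), D.pr_fix hbz hx0 (hinn b hb ⟨g, hbg.symm⟩ x0 hx0 hx0')⟩
  set p0 := R.e0 p
  set s0 := R.e0 (D.pr s)
  have es0 : D.act a0 p0 + p0 = s0 := by
    rw [← D.act_e0 hf ha0z p hT, ← map_add, e0]
  have hA : D.act a0 p0 ∈ R.X0 := D.act_X0 hf ha0z (R.e0_mem p) hT
  have hp00 : p0 ≠ 0 := fun e => he (by rw [← es0, e, map_zero, add_zero])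
  have hA0 : D.act a0 p0 ≠ 0 := fun e => hp00 ((D.act a0).map_eq_zero_iff.1 e)
  have hAp : D.act a0 p0 ≠ p0 := fun e => he (by rw [← es0, e, two_self])
  have hB0 : R.B s0 p0 = 1 := by
    rw [← es0, R.B_add_left, R.B_smul_self, add_zero]
    exact zmod2_ne _ (Rep.X0_pair hT hA (R.e0_mem p) hA0 hp00 hAp)
  have hBsp : R.B (D.pr s) p = 0 :=
    D.meetV_B Ds hne ⟨s, hs, Ds.z_mem, rfl⟩ ⟨x0, hx0, hx0', rfl⟩
  have hWs : R.e0 (D.pr s + s0) = 0 := by rw [map_add, R.e0_X0 (R.e0_mem _), two_self]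
  have hWp : R.e0 (p + p0) = 0 := by rw [map_add, R.e0_X0 (R.e0_mem _), two_self]
  have hBW : R.B (D.pr s + s0) (p + p0) = 1 := by
    have e1 : R.B s0 (p + p0) = 0 := (Rep.perp_iff hT _).2 hWp _ (R.e0_mem _)
    have e2 : R.B (D.pr s + s0) p0 = 0 := by
      rw [R.B_comm]; exact (Rep.perp_iff hT _).2 hWs _ (R.e0_mem _)
    have e3 : R.B (D.pr s + s0) (p + p0) = R.B (D.pr s + s0) p := by rw [R.B_add_right, e2, add_zero]
    rw [R.B_add_right, hB0] at e1
    rw [e3, R.B_add_left, hBsp, zero_add]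
    exact (by decide : ∀ b : ZMod 2, b + 1 = 0 → b = 1) _ e1
  have := Rep.plane_small hT (E := E) (D.other_inner_elem Ds hs) hWs hWp hBW
    (fun g hg => by rw [map_add, (hfix g hg).1, Rep.tri_fix hT g _ (R.e0_mem _)])
    (fun g hg => by rw [map_add, (hfix g hg).2, Rep.tri_fix hT g _ (R.e0_mem _)])
  omega

include hT hf Ds in
/-- In the reducible case the centre is fused to no further element of its radical. -/
theorem tri_no_fusion' (hs : s ∈ D.J) (hne : s ≠ z) : False := by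
  classical
  haveI := R.finite
  have hz := D.mem_of_mem Ds hf hs hne
  have hs0 : D.pr s ≠ 0 := fun e => ((D.pr_zero _ hs).1 e).elim Ds.z_ne hne
  have hz0 : Ds.pr z ≠ 0 := fun e => ((Ds.pr_zero z hz).1 e).elim D.z_ne (Ne.symm hne)
  have hse := D.fusion_X0 hT hf Ds hs hz hne
  have hze := Ds.fusion_X0 hT hf D hz hs (Ne.symm hne)
  obtain ⟨-, p, hpM, hp0, hpX⟩ := Rep.X0_in hT (D.meetV Ds) (fun m hm => D.meetV_q Ds hne hm)
    ⟨s, hs, Ds.z_mem, rfl⟩ hs0 hse (fun u hu m hm => D.meetV_stab Ds hs hs0 hu hm) (D.meetV_big Ds hf hs hz hz0)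
  obtain ⟨hM', q, hqM, hq0, hqX⟩ := Rep.X0_in hT (Ds.meetV D) (fun m hm => Ds.meetV_q D (Ne.symm hne) hm)
    ⟨z, hz, D.z_mem, rfl⟩ hz0 hze (fun u hu m hm => Ds.meetV_stab D hz hz0 hu hm) (Ds.meetV_big D hf hz hs hs0)
  obtain ⟨k, hk, hk', rfl⟩ := hpM
  have hsX : D.pr s ∉ R.X0 := fun h => hs0 (by rw [← R.e0_X0 h]; exact hse)
  have hzX : Ds.pr z ∉ R.X0 := fun h => hz0 (by rw [← R.e0_X0 h]; exact hze)
  -- a vector of the fixed space pairing with it
  obtain ⟨v, hv⟩ : ∃ v, R.B (D.pr k) v ≠ 0 := by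
    by_contra h
    push Not at h
    exact hp0 (R.nondeg _ h)
  obtain ⟨r, hr, hrv⟩ := D.pr_surj (R.e0 v)
  have hrs : Commute r s := (D.comm_iff hr hs).2 (by
    rw [hrv]; exact (Rep.perp_iff hT _).2 hse _ (R.e0_mem v))
  have hrk : r * k * r⁻¹ = k * z := D.comm_z hr hk fun e => hv (by
    have h1 : R.B (D.pr k) (v + R.e0 v) = 0 :=
      (Rep.perp_iff hT _).2 (by rw [map_add, R.e0_X0 (R.e0_mem v), two_self]) _ hpX
    rw [R.B_add_right] at h1
    rw [hrv, R.B_comm] at e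
    rwa [e, add_zero] at h1)
  have hact : Ds.act r (Ds.pr k) = Ds.pr k + Ds.pr z := by
    rw [← Ds.pr_act r hrs k hk', hrk, Ds.pr_mul _ hk' _ hz]
  set q2 := Ds.pr k
  have hq2 : q2 ≠ 0 := fun e => by
    rcases (Ds.pr_zero k hk').1 e with e' | e'
    · rw [e', D.pr_one] at hp0; exact hp0 rfl
    · rw [e'] at hpX; exact hsX hpX
  have hq2z : q2 ≠ Ds.pr z := fun e => by
    rcases Ds.eq_of_pr hz hk' e.symm with e' | e'
    · rw [e', D.pr_z] at hp0; exact hp0 rfl
    · rw [e', D.pr_mul _ D.z_mem _ hs, D.pr_z, zero_add] at hpX; exact hsX hpX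
  have hqz : q ≠ Ds.pr z := fun e => hzX (e ▸ hqX)
  have hset : ({0, Ds.pr z, q, q + Ds.pr z} : Set V) = (Ds.meetV D : Set V) := by
    refine Set.eq_of_subset_of_ncard_le ?_ (le_of_eq ?_) (Set.toFinite _)
    · rintro w (rfl | rfl | rfl | rfl)
      exacts [(Ds.meetV D).zero_mem, ⟨z, hz, D.z_mem, rfl⟩, hqM,
        (Ds.meetV D).add_mem hqM ⟨z, hz, D.z_mem, rfl⟩]
    · have hsum : q + Ds.pr z ≠ 0 := fun e => hqz (eq_of_sum_zero e)
      rw [Set.ncard_insert_of_notMem (by simp [hz0.symm, hq0.symm, hsum.symm]),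
        Set.ncard_insert_of_notMem (by
          simp only [Set.mem_insert_iff, Set.mem_singleton_iff, not_or]
          exact ⟨Ne.symm hqz, fun e => hq0 (add_eq_right.1 e.symm)⟩),
        Set.ncard_pair fun e => hz0 (add_eq_left.1 e.symm), ← Nat.card_coe_set_eq]
      exact hM'
  have hqq : Ds.act r q = q + Ds.pr z := by
    have hm : q2 ∈ (Ds.meetV D : Set V) := ⟨k, hk', hk, rfl⟩
    rw [← hset] at hm
    rcases hm with e | e | e | e
    · exact absurd e hq2
    · exact absurd e hq2z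
    · rwa [e] at hact
    · rw [e, map_add, Ds.pr_fix hrs hz (D.J_comm r hr), add_self_right] at hact
      calc Ds.act r q = Ds.act r q + Ds.pr z + Ds.pr z := (add_self_right _ _).symm
        _ = q + Ds.pr z := by rw [hact]
  refine hzX ?_
  have h1 : Ds.act r q ∈ R.X0 := Ds.act_X0 hf hrs hqX hT
  rw [hqq] at h1
  have := R.X0.add_mem hqX h1
  rwa [add_self_left] at this

include hT hf in
theorem tri_mem_J {x : G} (h : Mem z x) (hJ : x ∈ D.J) : x = z := by
  by_contra hne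
  obtain ⟨g, rfl⟩ := h
  exact D.tri_no_fusion' hT hf (D.conj g) hJ hne

end Ce

end CfsgLib.U62Cent
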