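import Cfsg.Agent.U62Cent.SigmaOut

/-!
The members commuting with the centre lie in fours over the points, commuting exactly over orthogonal points.
-/

set_option autoImplicit false
set_option maxRecDepth 100000
set_option maxHeartbeats 1000000
set_option linter.style.haveILetI false
set_option linter.unusedSectionVars false

open scoped Matrix

namespace CfsgLib.U62Cent

open CfsgLib Subgroup
open CfsgLib.FiLarge (F4 om omp)
open CfsgLib.Unitary (suMat suMat_mul suMat_one su_ext su_preserves)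

/-- Two transvections at points that are not orthogonal move each point to the same third point. -/
theorem tvp_braid_pt {p q : V4} (hp : IsPt4 p) (hq : IsPt4 q) (h : h4 p q ≠ 0) :
    tvp (suMat (tvp p) *ᵥ q) = tvp (suMat (tvp q) *ᵥ p) := by
  rw [tvp_apply hp q, tvp_apply hq p]
  have e : p + h4 p q • q = h4 p q • (q + h4 q p • p) := by
    rw [smul_add, smul_smul, h4_swap p q, show h4 p q * (h4 p q * h4 p q) = h4 p q * h4 p q * h4 p q by ring,
      f4_inv _ h, one_smul, add_comm]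
  have hr : IsPt4 (q + h4 q p • p) := by
    rw [← tvp_apply hp]
    exact pt_map hq _
  rw [e, tvp_smul hr h]

theorem coeff_zero {p q : V4} (hp : IsPt4 p) (hq : IsPt4 q) (hne : tvp p ≠ tvp q) {c c' : F4}
    (e : c • q = c' • p) : c = 0 := by
  by_contra hc
  have e' : q = (c * c * c') • p := by
    rw [← smul_smul, ← e, smul_smul, f4_inv c hc, one_smul]
  refine hne ?_
  rw [e', tvp_smul hp fun h0 => hq.1 (by rw [e', h0, zero_smul])]

variable {G : Type*} [Group G] [Finite G] {z : G}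

namespace Cd

/-- The members over a point. -/
def fib (D : Cd z R4) (p : V4) : Set G := D.cls (tvp p)

variable (D : Cd z R4)

theorem fib_ne_z {p : V4} (hp : IsPt4 p) {a : G} (ha : a ∈ D.fib p) : a ≠ z := fun e => by
  have := ha.2.2
  rw [e, D.ph_z] at this
  exact tvp_ne_one hp this.symm

theorem fib_smul {p : V4} (hp : IsPt4 p) {c : F4} (hc : c ≠ 0) : D.fib (c • p) = D.fib p := by
  rw [fib, fib, tvp_smul hp hc]

theorem fib_conj {p : V4} (hp : IsPt4 p) {a g : G} (ha : a ∈ D.fib p) (hg : Commute g z) :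
    g * a * g⁻¹ ∈ D.fib (suMat (D.ph g) *ᵥ p) := by
  obtain ⟨h, hc, e⟩ := ha
  exact ⟨h.conj g, (hg.mul_left hc).mul_left hg.inv_left, by rw [D.ph_conj hg hc, e, tvp_conj hp]⟩

theorem mem_fib {x : G} (h : Mem z x) (hc : Commute x z) (hne : x ≠ z) : ∃ p, IsPt4 p ∧ x ∈ D.fib p := by
  obtain ⟨p, hp, e⟩ := D.all_T h hc hne
  exact ⟨p, hp, h, hc, e⟩

/-- A point moves to the base point inside the centraliser. -/
theorem to_base {p : V4} (hp : IsPt4 p) : ∃ g, Commute g z ∧ suMat (D.ph g) *ᵥ p = p0 := by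
  obtain ⟨u, hu⟩ := to_p0 hp
  obtain ⟨g, hg, rfl⟩ := D.ph_surj u
  exact ⟨g, hg, hu⟩

theorem base_facts {u : G} (hu : u ∈ D.fib p0) :
    (∀ j ∈ D.J, h4 (D.pr j) p0 = 0 → Commute j u) ∧
    (∀ v ∈ D.fib p0, u * v ∈ D.J ∧ ∃ c : F4, D.pr (u * v) = c • p0) ∧
    (∀ c : F4, ∃ v ∈ D.fib p0, D.pr (u * v) = c • p0) ∧
    ∀ v ∈ D.fib p0, D.pr (u * v) = 0 → v = u := by
  obtain ⟨h, hc, e⟩ := hu
  have hne : u ≠ z := fun q => by rw [q, D.ph_z] at e; exact tvp_ne_one p0_pt e.symm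
  obtain ⟨-, hclass, huz, hall⟩ := D.cls_T h hc hne e
  rw [e] at hclass
  have key : ∀ j ∈ D.J, u * (j * u * j⁻¹) = (D.kk u j)⁻¹ ∧ D.pr ((D.kk u j)⁻¹) = h4 (D.pr j) p0 • p0 := by
    intro j hj
    refine ⟨?_, by rw [D.pr_inv (D.kk_mem h hc hj), D.pr_kk h hc hj, D.N_T h hc e]⟩
    rw [← D.kk_inverted h hc, D.kk_conj h hc, mul_assoc]
  refine ⟨hall, fun v hv => ?_, fun c => ?_, fun v hv hv0 => ?_⟩
  · obtain ⟨j, hj, rfl⟩ := hclass v hv
    rw [(key j hj).1]
    exact ⟨inv_mem (D.kk_mem h hc hj), _, (key j hj).2⟩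
  · obtain ⟨j, hj, ej⟩ := D.pr_surj (c • (![1, 0, 0, 0] : V4))
    refine ⟨j * u * j⁻¹, ⟨h.conj j, ((D.J_comm j hj).mul_left hc).mul_left (D.J_comm j hj).inv_left, ?_⟩, ?_⟩
    · rw [D.ph_conj (D.J_comm j hj) hc, D.ph_of_J hj, e]
      group
    · rw [(key j hj).1, (key j hj).2, ej, (smul_p0_facts c).2]
  · obtain ⟨j, hj, rfl⟩ := hclass v hv
    rw [(key j hj).1] at hv0
    rcases (D.pr_zero _ (inv_mem (D.kk_mem h hc hj))).1 hv0 with q | q
    · rw [D.kk_conj h hc, inv_eq_one.1 q, one_mul]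
    · exfalso
      refine huz ?_
      have e2 : j * u * j⁻¹ = u * z := by
        rw [D.kk_conj h hc, ← inv_inv (D.kk u j), q, D.z_inv, hc.eq]
      exact e2 ▸ h.conj j

/-- The facts at a point. -/
theorem pt_facts {p : V4} (hp : IsPt4 p) {u : G} (hu : u ∈ D.fib p) :
    (∀ j ∈ D.J, h4 (D.pr j) p = 0 → Commute j u) ∧
    (∀ v ∈ D.fib p, u * v ∈ D.J ∧ ∃ c : F4, D.pr (u * v) = c • p) ∧
    (∀ c : F4, ∃ v ∈ D.fib p, D.pr (u * v) = c • p) ∧
    ∀ v ∈ D.fib p, D.pr (u * v) = 0 → v = u := by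
  obtain ⟨g, hg, eg⟩ := D.to_base hp
  have hu' : g * u * g⁻¹ ∈ D.fib p0 := eg ▸ D.fib_conj hp hu hg
  obtain ⟨f1, f2, f3, f4⟩ := D.base_facts hu'
  have hback : suMat (D.ph g⁻¹) *ᵥ p0 = p := by rw [D.ph_inv hg]; exact pt_back eg
  have hmul : ∀ v, g * u * g⁻¹ * (g * v * g⁻¹) = g * (u * v) * g⁻¹ := fun v => by group
  have hJ : ∀ v, g * v * g⁻¹ ∈ D.J → v ∈ D.J := fun v hv => by
    have := D.conj_mem hg.inv_left hv
    rwa [show g⁻¹ * (g * v * g⁻¹) * g⁻¹⁻¹ = v by group] at this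
  refine ⟨fun j hj h0 => ?_, fun v hv => ?_, fun c => ?_, fun v hv hv0 => ?_⟩
  · have e := f1 _ (D.conj_mem hg hj) (by rw [D.pr_act g hg j hj, R4_r, ← eg, su_h4, h0])
    have := e.map (MulAut.conj g⁻¹).toMonoidHom
    simpa [mul_assoc] using this
  · obtain ⟨h1, c, h2⟩ := f2 _ (eg ▸ D.fib_conj hp hv hg)
    rw [hmul] at h1 h2
    refine ⟨hJ _ h1, c, ?_⟩
    rw [D.pr_act g hg _ (hJ _ h1), R4_r] at h2
    have := congrArg (fun x => suMat (D.ph g)⁻¹ *ᵥ x) h2
    simp only [su_inv_apply, Matrix.mulVec_smul, pt_back eg] at this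
    exact this
  · obtain ⟨v, hv, ev⟩ := f3 c
    obtain ⟨h1, -⟩ := f2 v hv
    refine ⟨g⁻¹ * v * g, by simpa [hback] using D.fib_conj p0_pt hv hg.inv_left, ?_⟩
    have hh : u * (g⁻¹ * v * g) = g⁻¹ * (g * u * g⁻¹ * v) * g⁻¹⁻¹ := by group
    rw [hh, D.pr_act g⁻¹ hg.inv_left _ h1, R4_r, ev, Matrix.mulVec_smul, hback]
  · have h1 := (f2 _ (eg ▸ D.fib_conj hp hv hg)).1
    rw [hmul] at h1
    have e := f4 _ (eg ▸ D.fib_conj hp hv hg) (by
      rw [hmul, D.pr_act g hg _ (hJ _ h1), hv0, map_zero])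
    exact mul_left_cancel (mul_right_cancel e)

theorem fib_card {p : V4} (hp : IsPt4 p) {u : G} (hu : u ∈ D.fib p) : (D.fib p).ncard = 4 := by
  obtain ⟨g, hg, eg⟩ := D.to_base hp
  obtain ⟨h1, h2, h3⟩ := conj_facts hg hu.1 hu.2.1 (D.fib_ne_z hp hu)
  have e : D.ph (g * u * g⁻¹) = tvp p0 := by rw [D.ph_conj hg hu.2.1, hu.2.2, tvp_conj hp, eg]
  have h4' := (D.cls_T h1 h2 h3 e).1
  rw [e] at h4'
  rw [← h4', fib]
  refine Set.ncard_congr (fun x _ => g * x * g⁻¹) (fun x hx => eg ▸ D.fib_conj hp hx hg)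
    (fun x y _ _ q => mul_left_cancel (mul_right_cancel q)) fun b hb => ?_
  refine ⟨g⁻¹ * b * g, ?_, by group⟩
  have hback : suMat (D.ph g⁻¹) *ᵥ p0 = p := by rw [D.ph_inv hg]; exact pt_back eg
  have := D.fib_conj p0_pt hb hg.inv_left
  rw [hback, inv_inv] at this
  exact this

theorem fib_same {p : V4} (hp : IsPt4 p) {a b : G} (ha : a ∈ D.fib p) (hb : b ∈ D.fib p) : Commute a b := by
  obtain ⟨f1, f2, -, -⟩ := D.pt_facts hp ha
  obtain ⟨hJ, c, e⟩ := f2 b hb
  have h := f1 _ hJ (by rw [e, h4_smul_left, hp.2, mul_zero])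
  have := (Commute.refl a).mul_right h.symm
  rwa [← mul_assoc, D.mem_sq ha.1, one_mul] at this

/-- Members over orthogonal points commute. -/
theorem fib_perp {p q : V4} (hp : IsPt4 p) (hq : IsPt4 q) (h : h4 p q = 0) {a b : G} (ha : a ∈ D.fib p)
    (hb : b ∈ D.fib q) : Commute a b := by
  by_cases heq : tvp p = tvp q
  · exact D.fib_same hp ha (show b ∈ D.cls (tvp p) by rw [heq]; exact hb)
  have hab : suMat (tvp p) *ᵥ q = q := by rw [tvp_apply hp, h4_zero_iff.1 h, zero_smul, add_zero]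
  have hba : suMat (tvp q) *ᵥ p = p := by rw [tvp_apply hq, h, zero_smul, add_zero]
  have ha2 := D.mem_sq ha.1
  have hb2 := D.mem_sq hb.1
  have hx : a * b * a ∈ D.fib q := by
    have := D.fib_conj hq hb ha.2.1
    rwa [ha.2.2, hab, D.mem_inv ha.1] at this
  have hy : b * a * b ∈ D.fib p := by
    have := D.fib_conj hp ha hb.2.1
    rwa [hb.2.2, hba, D.mem_inv hb.1] at this
  obtain ⟨-, f2, -, f4⟩ := D.pt_facts hq hb
  obtain ⟨hJ1, c, e1⟩ := f2 _ hx
  obtain ⟨-, g2, -, -⟩ := D.pt_facts hp ha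
  obtain ⟨hJ2, c', e2⟩ := g2 _ hy
  have einv : (b * (a * b * a))⁻¹ = a * (b * a * b) := by
    rw [mul_inv_rev, mul_inv_rev, mul_inv_rev, D.mem_inv ha.1, D.mem_inv hb.1]
    group
  rw [← einv, D.pr_inv hJ1, e1] at e2
  have hz := f4 _ hx (by rw [e1, coeff_zero hp hq heq e2, zero_smul])
  show a * b = b * a
  calc a * b = a * b * a * a := by rw [mul_assoc _ a a, ha2, mul_one]
    _ = b * a := by rw [hz]

/-- Members over other pairs of points generate a symmetric group of degree three. -/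
theorem fib_cube {p q : V4} (hp : IsPt4 p) (hq : IsPt4 q) (h : h4 p q ≠ 0) {a b : G} (ha : a ∈ D.fib p)
    (hb : b ∈ D.fib q) : a * b * a = b * a * b := by
  set r := suMat (tvp p) *ᵥ q with hr
  have hrp : IsPt4 r := pt_map hq _
  have hx : a * b * a ∈ D.fib r := by
    have := D.fib_conj hq hb ha.2.1
    rwa [ha.2.2, D.mem_inv ha.1] at this
  have hy : b * a * b ∈ D.fib r := by
    have := D.fib_conj hp ha hb.2.1
    rw [hb.2.2, D.mem_inv hb.1] at this
    show _ ∈ D.cls (tvp r)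
    rw [hr, tvp_braid_pt hp hq h]
    exact this
  obtain ⟨-, f2, -, f4⟩ := D.pt_facts hrp hx
  obtain ⟨hJ, c, e⟩ := f2 _ hy
  refine (f4 _ hy ?_).symm
  set j := a * b * a * (b * a * b) with hj
  have hc0 : c = 0 := by
    have e2 := D.pr_act a ha.2.1 j hJ
    have e3 : a * j * a⁻¹ = j⁻¹ := by
      refine eq_inv_of_mul_eq_one_left ?_
      have ha2 := D.mem_sq ha.1
      have hb2 := D.mem_sq hb.1
      rw [hj, D.mem_inv ha.1]
      calc a * (a * b * a * (b * a * b)) * a * (a * b * a * (b * a * b))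
          = (a * a) * b * a * b * a * b * (a * a) * b * a * b * a * b := by group
        _ = b * a * b * a * (b * b) * a * b * a * b := by rw [ha2]; group
        _ = b * a * b * (a * a) * b * a * b := by rw [hb2]; group
        _ = b * a * (b * b) * a * b := by rw [ha2]; group
        _ = b * (a * a) * b := by rw [hb2]; group
        _ = 1 := by rw [ha2, mul_one, hb2]
    rw [e3, D.pr_inv hJ, e, ha.2.2, R4_r, Matrix.mulVec_smul, tvp_apply hp] at e2
    by_contra hc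
    rw [smul_add, left_eq_add, smul_smul, smul_eq_zero] at e2
    refine (e2.resolve_right hp.1 |> mul_eq_zero.1).elim hc fun h0 => h ?_
    rw [hr, tvp_apply hp, h4_add_left, h4_smul_left, hp.2, mul_zero, add_zero] at h0
    exact h4_zero_iff.1 h0
  rw [e, hc0, zero_smul]

theorem fib_comm_iff {p q : V4} (hp : IsPt4 p) (hq : IsPt4 q) {a b : G} (ha : a ∈ D.fib p) (hb : b ∈ D.fib q) :
    Commute a b ↔ h4 p q = 0 := by
  refine ⟨fun hab => ?_, fun h => D.fib_perp hp hq h ha hb⟩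
  have e := D.ph_commute ha.2.1 hb.2.1 hab
  rw [ha.2.2, hb.2.2] at e
  exact (tvp_comm_iff hp hq).1 e

/-- Every point carries members once one member exists. -/
theorem fib_nonempty (hex : ∃ u, Mem z u ∧ Commute u z ∧ u ≠ z) {p : V4} (hp : IsPt4 p) : (D.fib p).Nonempty := by
  obtain ⟨u, h, hc, hne⟩ := hex
  obtain ⟨q, hq, hu⟩ := D.mem_fib h hc hne
  obtain ⟨g, hg, eg⟩ := D.to_base hq
  obtain ⟨k, hk, ek⟩ := D.to_base hp
  have h1 : g * u * g⁻¹ ∈ D.fib p0 := eg ▸ D.fib_conj hq hu hg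
  have := D.fib_conj p0_pt h1 hk.inv_left
  rw [D.ph_inv hk, pt_back ek] at this
  exact ⟨_, this⟩

end Cd

end CfsgLib.U62Cent
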