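import Cfsg.Agent.U62Cent.Fibre

/-!
The geometry of commuting members seen from each member: lines and the transposition property.
-/

set_option autoImplicit false
set_option maxRecDepth 100000
set_option maxHeartbeats 1000000
set_option linter.style.haveILetI false
set_option linter.unusedSectionVars false

open scoped Matrix

namespace CfsgLib.U62Cent

open CfsgLib Subgroup
open CfsgLib.FiLarge (F4 om omp)
open CfsgLib.Unitary (suMat suMat_mul suMat_one su_ext su_preserves)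

variable {G : Type*} [Group G] [Finite G] {z : G}

/-- Another member commutes with the centre. -/
def HasNb (z : G) : Prop := ∃ u, Mem z u ∧ Commute u z ∧ u ≠ z

theorem HasNb.trans {x : G} (hn : HasNb z) (h : Mem z x) : HasNb x := by
  obtain ⟨u, hu, hc, hne⟩ := hn
  obtain ⟨g, rfl⟩ := h
  exact ⟨g * u * g⁻¹, (show Mem (g * z * g⁻¹) z from ⟨g⁻¹, by group⟩).trans (hu.conj g),
    hc.map (MulAut.conj g).toMonoidHom, fun e => hne (mul_left_cancel (mul_right_cancel e))⟩

/-- A member commuting with two members of a line commutes with all of it. -/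
def OnLn (z x v m : G) : Prop := ∀ t, Mem z t → Commute t x → Commute t v → Commute t m

namespace Cd

variable (D : Cd z R4)

include D

/-- Coordinates at every member. -/
theorem view {x : G} (h : Mem z x) : Nonempty (Cd x R4) := by
  obtain ⟨g, rfl⟩ := h
  exact ⟨D.conj g⟩

/-- Members over the same point commute with the same members commuting with the centre. -/
theorem same_comm {p : V4} (hp : IsPt4 p) {a b : G} (ha : a ∈ D.fib p) (hb : b ∈ D.fib p) {t : G}
    (ht : Mem z t) (hc : Commute t z) (hta : Commute t a) : Commute t b := by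
  by_cases e : t = z
  · rw [e]; exact hb.2.1.symm
  obtain ⟨r, hr, hf⟩ := D.mem_fib ht hc e
  exact (D.fib_comm_iff hr hp hf hb).2 ((D.fib_comm_iff hr hp hf ha).1 hta)

theorem cases_mem {x : G} (hx : Mem z x) (hc : Commute x z) :
    x = z ∨ ∃ p, IsPt4 p ∧ x ∈ D.fib p := by
  by_cases e : x = z
  · exact Or.inl e
  · exact Or.inr (D.mem_fib hx hc e)

variable (hn : HasNb z)

include D hn

theorem fib_ex {p : V4} (hp : IsPt4 p) : ∃ d, d ∈ D.fib p := D.fib_nonempty hn hp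

/-- The converse of the previous fact. -/
theorem imp_same {p q : V4} (hp : IsPt4 p) (hq : IsPt4 q) {a b : G} (ha : a ∈ D.fib p) (hb : b ∈ D.fib q)
    (h : ∀ t, Mem z t → Commute t z → Commute t a → Commute t b) : tvp p = tvp q := by
  obtain ⟨c, hc, e⟩ := perp_point hp hq fun s hs hsp => by
    obtain ⟨d, hd⟩ := D.fib_ex hn hs
    exact (D.fib_comm_iff hs hq hd hb).1 (h d hd.1 hd.2.1 ((D.fib_comm_iff hs hp hd ha).2 hsp))
  rw [e, tvp_smul hp hc]

/-- The centre lies on the line of two members over one point. -/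
theorem same_line {p : V4} (hp : IsPt4 p) {x v : G} (hx : x ∈ D.fib p) (hv : v ∈ D.fib p) (hne : x ≠ v) :
    OnLn z x v z := by
  intro t ht htx htv
  obtain ⟨Dx⟩ := D.view hx.1
  obtain ⟨q, hq, hz⟩ := Dx.mem_fib hx.1.symm hx.2.1.symm (D.fib_ne_z hp hx).symm
  obtain ⟨q', hq', hv'⟩ := Dx.mem_fib (hx.1.symm.trans hv.1) (D.fib_same hp hv hx) hne.symm
  have e := Dx.imp_same (hn.trans hx.1) hq hq' hz hv' fun s hs hsx hsz =>
    D.same_comm hp hx hv (hx.1.trans hs) hsz hsx
  have hv'' : v ∈ Dx.fib q := show v ∈ Dx.cls (tvp q) by rw [e]; exact hv'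
  exact Dx.same_comm hq hv'' hz (hx.1.symm.trans ht) htx htv

/-- Two members with the centre on their line lie over one point. -/
theorem same_back {p q : V4} (hp : IsPt4 p) (hq : IsPt4 q) {x v : G} (hx : x ∈ D.fib p) (hv : v ∈ D.fib q)
    (hne : x ≠ v) (hc : Commute x v) (h : OnLn z x v z) : tvp p = tvp q := by
  obtain ⟨Dx⟩ := D.view hx.1
  obtain ⟨r, hr, hz⟩ := Dx.mem_fib hx.1.symm hx.2.1.symm (D.fib_ne_z hp hx).symm
  obtain ⟨r', hr', hv'⟩ := Dx.mem_fib (hx.1.symm.trans hv.1) hc.symm hne.symm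
  have e := Dx.imp_same (hn.trans hx.1) hr' hr hv' hz fun s hs hsx hsv => h s (hx.1.trans hs) hsx hsv
  have hv'' : v ∈ Dx.fib r := show v ∈ Dx.cls (tvp r) by rw [← e]; exact hv'
  exact D.imp_same hn hp hq hx hv fun t ht htz htx =>
    Dx.same_comm hr hz hv'' (hx.1.symm.trans ht) htx htz

/-- A line has five members, one of them commuting with a given neighbour. -/
theorem gamma_z {y x v : G} (hy : Mem z y) (cy : Commute y z) (hx : Mem z x) (cx : Commute x z) (hv : Mem z v)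
    (cv : Commute v z) (hvz : v ≠ z) (cxv : Commute x v) (hxv : x ≠ v) (hyx : ¬ Commute y x) :
    ∃ u, Mem z u ∧ Commute u y ∧ OnLn z x v u := by
  have hxz : x ≠ z := fun e => hyx (e ▸ cy)
  have hyz : y ≠ z := fun e => hyx (e ▸ cx.symm)
  obtain ⟨px, hpx, fx⟩ := D.mem_fib hx cx hxz
  obtain ⟨pv, hpv, fv⟩ := D.mem_fib hv cv hvz
  obtain ⟨py, hpy, fy⟩ := D.mem_fib hy cy hyz
  by_cases same : tvp px = tvp pv
  · have fv' : v ∈ D.fib px := show v ∈ D.cls (tvp px) by rw [same]; exact fv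
    exact ⟨z, mem_self z, cy.symm, D.same_line hn hpx fx fv' hxv⟩
  have hperp : h4 px pv = 0 := (D.fib_comm_iff hpx hpv fx fv).1 cxv
  have hzL : ¬ OnLn z x v z := fun h => same (D.same_back hn hpx hpv fx fv hxv cxv h)
  set L : Set G := {m | Mem z m ∧ OnLn z x v m} with hL
  set T : Set U4 := {g | ∃ r, IsPt4 r ∧ (∃ α β : F4, r = α • px + β • pv) ∧ g = tvp r} with hT
  have loc : ∀ m ∈ L, ∃ r, IsPt4 r ∧ m ∈ D.fib r ∧ ∃ α β : F4, r = α • px + β • pv := by
    rintro m ⟨hm, hl⟩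
    have cm : Commute m z := (hl z (mem_self z) cx.symm cv.symm).symm
    have hmz : m ≠ z := fun e => hzL (e ▸ hl)
    obtain ⟨r, hr, fm⟩ := D.mem_fib hm cm hmz
    refine ⟨r, hr, fm, perp_span hpx hpv hperp same hr fun s hs h1 h2 => ?_⟩
    obtain ⟨d, hd⟩ := D.fib_ex hn hs
    exact (D.fib_comm_iff hs hr hd fm).1
      (hl d hd.1 ((D.fib_comm_iff hs hpx hd fx).2 h1) ((D.fib_comm_iff hs hpv hd fv).2 h2))
  have maps : Set.MapsTo D.ph L T := fun m hm => by
    obtain ⟨r, hr, fm, hspan⟩ := loc m hm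
    exact ⟨r, hr, hspan, fm.2.2⟩
  have inj : Set.InjOn D.ph L := by
    intro m hm m' hm' e
    by_contra hne
    obtain ⟨r, hr, fm, -⟩ := loc m hm
    obtain ⟨r', hr', fm', -⟩ := loc m' hm'
    have fm'' : m' ∈ D.fib r := ⟨fm'.1, fm'.2.1, e.symm.trans fm.2.2⟩
    exact hzL fun t ht htx htv => D.same_line hn hr fm fm'' hne t ht (hm.2 t ht htx htv) (hm'.2 t ht htx htv)
  have five : 5 ≤ L.ncard := by
    obtain ⟨Dx⟩ := D.view hx
    obtain ⟨q, hq, fq⟩ := Dx.mem_fib (hx.symm.trans hv) cxv.symm hxv.symm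
    have sub : insert x (Dx.fib q) ⊆ L := by
      rintro m (rfl | hm)
      · exact ⟨hx, fun t _ h _ => h⟩
      · exact ⟨hx.trans hm.1, fun t ht htx htv => Dx.same_comm hq fq hm (hx.symm.trans ht) htx htv⟩
    refine le_trans ?_ (Set.ncard_le_ncard sub (Set.toFinite _))
    rw [Set.ncard_insert_of_notMem (fun h => Dx.fib_ne_z hq h rfl) (Set.toFinite _), Dx.fib_card hq fq]
  have himg : D.ph '' L = T :=
    Set.eq_of_subset_of_ncard_le maps.image_subset
      ((line_card px pv).trans (le_of_le_of_eq five inj.ncard_image.symm)) (Set.toFinite _)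
  have hnp : h4 py px ≠ 0 := fun e => hyx ((D.fib_comm_iff hpy hpx fy fx).2 e)
  obtain ⟨k, hk, hk0⟩ := exists_on_line hpx hpv hnp hperp same
  obtain ⟨u, hu, eu⟩ : tvp (pv + k • px) ∈ D.ph '' L := by
    rw [himg]
    exact ⟨_, hk, ⟨k, 1, by rw [one_smul, add_comm]⟩, rfl⟩
  obtain ⟨r, hr, fu, -⟩ := loc u hu
  have fu' : u ∈ D.fib (pv + k • px) := ⟨fu.1, fu.2.1, eu⟩
  exact ⟨u, hu.1, (D.fib_comm_iff hk hpy fu' fy).2 hk0, hu.2⟩

/-- Some member of a line commutes with a member sharing a neighbour with it. -/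
theorem gamma {w x v y : G} (hw : Mem z w) (hx : Mem z x) (hv : Mem z v) (hy : Mem z y) (cwx : Commute w x)
    (cwv : Commute w v) (cwy : Commute w y) (cxv : Commute x v) (hxv : x ≠ v) (hyx : ¬ Commute y x) :
    ∃ u, Mem z u ∧ Commute u y ∧ OnLn z x v u := by
  by_cases hvw : v = w
  · exact ⟨v, hv, by rw [hvw]; exact cwy, fun t _ _ h => h⟩
  obtain ⟨Dw⟩ := D.view hw
  obtain ⟨u, hu, cu, hl⟩ := Dw.gamma_z (hn.trans hw) (hw.symm.trans hy) cwy.symm (hw.symm.trans hx) cwx.symm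
    (hw.symm.trans hv) cwv.symm hvw cxv hxv hyx
  exact ⟨u, hw.trans hu, cu, fun t ht => hl t (hw.symm.trans ht)⟩

omit hn in
/-- A point for each member commuting with a member. -/
theorem view_pt {x w : G} (hx : Mem z x) (Dx : Cd x R4) (hw : Mem z w) (h : Commute w x) :
    ∃ p, IsPt4 p ∧ (w ≠ x → w ∈ Dx.fib p) := by
  by_cases e : w = x
  · exact ⟨p0, p0_pt, fun h => absurd e h⟩
  · obtain ⟨p, hp, hf⟩ := Dx.mem_fib (hx.symm.trans hw) h e
    exact ⟨p, hp, fun _ => hf⟩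

/-- A common neighbour of two neighbours. -/
theorem common {x w y : G} (hx : Mem z x) (hw : Mem z w) (hy : Mem z y) (cwx : Commute w x)
    (cyx : Commute y x) : ∃ v, Mem z v ∧ v ≠ x ∧ Commute v x ∧ Commute v w ∧ Commute v y := by
  obtain ⟨Dx⟩ := D.view hx
  obtain ⟨p, hp, fw⟩ := D.view_pt hx Dx hw cwx
  obtain ⟨q, hq, fy⟩ := D.view_pt hx Dx hy cyx
  obtain ⟨r, hr, h1, h2⟩ := exists_common hp hq
  obtain ⟨d, hd⟩ := Dx.fib_ex (hn.trans hx) hr
  refine ⟨d, hx.trans hd.1, Dx.fib_ne_z hr hd, hd.2.1, ?_, ?_⟩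
  · by_cases e : w = x
    · rw [e]; exact hd.2.1
    · exact (Dx.fib_comm_iff hr hp hd (fw e)).2 h1
  · by_cases e : y = x
    · rw [e]; exact hd.2.1
    · exact (Dx.fib_comm_iff hr hq hd (fy e)).2 h2

/-- A neighbour commuting with neither of two given ones. -/
theorem apart {x a b : G} (hx : Mem z x) (ha : Mem z a) (hb : Mem z b) (cax : Commute a x) (cbx : Commute b x)
    (hax : a ≠ x) (hbx : b ≠ x) : ∃ d, Mem z d ∧ Commute d x ∧ ¬ Commute d a ∧ ¬ Commute d b := by
  obtain ⟨Dx⟩ := D.view hx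
  obtain ⟨p, hp, fa⟩ := D.view_pt hx Dx ha cax
  obtain ⟨q, hq, fb⟩ := D.view_pt hx Dx hb cbx
  obtain ⟨r, hr, h1, h2⟩ := exists_apart hp hq
  obtain ⟨d, hd⟩ := Dx.fib_ex (hn.trans hx) hr
  exact ⟨d, hx.trans hd.1, hd.2.1, fun h => h1 ((Dx.fib_comm_iff hr hp hd (fa hax)).1 h),
    fun h => h2 ((Dx.fib_comm_iff hr hq hd (fb hbx)).1 h)⟩

omit hn in
/-- Two commuting members lie on a line with a third. -/
theorem third {a b : G} (ha : Mem z a) (hb : Mem z b) (hab : Commute a b) (hne : a ≠ b) :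
    ∃ c, Mem z c ∧ a ≠ c ∧ b ≠ c ∧ Commute a c ∧ Commute b c := by
  obtain ⟨Da⟩ := D.view ha
  obtain ⟨p, hp, fb⟩ := Da.mem_fib (ha.symm.trans hb) hab.symm hne.symm
  obtain ⟨c, hc, hcb⟩ := Set.exists_ne_of_one_lt_ncard (by rw [Da.fib_card hp fb]; norm_num) b
  exact ⟨c, ha.trans hc.1, (Da.fib_ne_z hp hc).symm, hcb.symm, hc.2.1.symm, Da.fib_same hp fb hc⟩

omit hn in
/-- The transposition property for members with a common neighbour. -/
theorem cube {v a b : G} (hv : Mem z v) (ha : Mem z a) (hb : Mem z b) (hva : Commute v a)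
    (hvb : Commute v b) (h : ¬ Commute a b) : (a * b) ^ 3 = 1 := by
  have hav : a ≠ v := fun e => h (by rw [e]; exact hvb)
  have hbv : b ≠ v := fun e => h (by rw [e]; exact hva.symm)
  obtain ⟨Dv⟩ := D.view hv
  obtain ⟨p, hp, fa⟩ := Dv.mem_fib (hv.symm.trans ha) hva.symm hav
  obtain ⟨q, hq, fb⟩ := Dv.mem_fib (hv.symm.trans hb) hvb.symm hbv
  have e := Dv.fib_cube hp hq (fun h0 => h ((Dv.fib_comm_iff hp hq fa fb).2 h0)) fa fb
  calc (a * b) ^ 3 = (a * b * a) * (b * a * b) := by rw [pow_succ, pow_two]; group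
    _ = (b * a * b) * (b * a * b) := by rw [e]
    _ = b * a * (b * b) * a * b := by group
    _ = b * (a * a) * b := by rw [D.mem_sq hb]; group
    _ = 1 := by rw [D.mem_sq ha, mul_one, D.mem_sq hb]

end Cd

end CfsgLib.U62Cent
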