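import Cfsg.Agent.U62Cent.Component
import Cfsg.Agent.Fischer.Start
import Cfsg.Agent.Fischer.UniCount
import Cfsg.Agent.Fischer.UniLocal
import Cfsg.Agent.Fischer.ModelsUnitary
import Cfsg.Agent.Solvable.Basics
import Cfsg.Agent.Unitary.Special

/-!
The group generated by the component contains the centraliser and is the six-dimensional unitary group.
-/

set_option autoImplicit false
set_option maxRecDepth 100000
set_option maxHeartbeats 1000000
set_option linter.style.haveILetI false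
set_option linter.unusedSectionVars false

open scoped Matrix

namespace CfsgLib.U62Cent

open CfsgLib Subgroup
open CfsgLib.FiLarge (F4 om omp)
open CfsgLib.Unitary (suMat suMat_mul suMat_one su_ext su_preserves card_center_SU)

theorem span_four : ∀ a b : F4, ∃ α β : F4, α + β = a ∧ α + β * om = b := by decide +kernel

theorem line_pts : IsPt4 ![1, 1, 0, 0] ∧ IsPt4 ![1, om, 0, 0] ∧ IsPt4 ![0, 0, 1, 1] ∧ IsPt4 ![0, 0, 1, om] := by
  decide +kernel

theorem four_sum : ∀ a b c d α β γ δ : F4, α + β = a → α + β * om = b → γ + δ = c → γ + δ * om = d →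
    (![a, b, c, d] : V4) = α • ![1, 1, 0, 0] + β • ![1, om, 0, 0] + γ • ![0, 0, 1, 1] + δ • ![0, 0, 1, om] := by
  rintro a b c d α β γ δ rfl rfl rfl rfl
  funext i
  fin_cases i <;> simp

theorem v4_eta' (q : V4) : (![q 0, q 1, q 2, q 3] : V4) = q := by funext i; fin_cases i <;> rfl

variable {G : Type*} [Group G] [Finite G] {z : G}

namespace Cd

variable (D : Cd z R4) (hn : HasNb z)

/-- The neighbours of the centre. -/
abbrev S1 (z : G) : Set G := ThreeT.Prod.nb (Om z) z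

theorem S1_comm {g : G} (hg : g ∈ closure (S1 z)) : Commute g z :=
  ThreeT.Prod.commute_of_closure (fun y hy => hy.2.2.symm) g hg

theorem closure_S1_le : closure (S1 z) ≤ closure (Om z) := closure_mono fun _ h => h.1

include D hn

theorem fib_S1 {p : V4} (hp : IsPt4 p) {d : G} (hd : d ∈ D.fib p) : d ∈ S1 z :=
  ⟨D.fib_Om hn hd, D.fib_ne_z hp hd, hd.2.1.symm⟩

/-- The neighbours of the centre generate the unitary group. -/
theorem ph_closure_S1 (u : U4) : ∃ g ∈ closure (S1 z), D.ph g = u := by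
  let T : Subgroup U4 :=
    { carrier := {u | ∃ g ∈ closure (S1 z), D.ph g = u}
      one_mem' := ⟨1, one_mem _, D.ph_one⟩
      mul_mem' := fun {a b} ha hb => by
        obtain ⟨g, hg, rfl⟩ := ha
        obtain ⟨k, hk, rfl⟩ := hb
        exact ⟨g * k, mul_mem hg hk, D.ph_mul _ _ (S1_comm hg) (S1_comm hk)⟩
      inv_mem' := fun {a} ha => by
        obtain ⟨g, hg, rfl⟩ := ha
        exact ⟨g⁻¹, inv_mem hg, D.ph_inv (S1_comm hg)⟩ }
  have h : T = ⊤ := by
    rw [eq_top_iff, ← closure_tvp, closure_le]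
    rintro _ ⟨p, hp, rfl⟩
    obtain ⟨d, hd⟩ := D.fib_ex hn hp
    exact ⟨d, subset_closure (D.fib_S1 hn hp hd), hd.2.2⟩
  exact (h ▸ mem_top u : u ∈ T)

/-- Every vector occurs in the group generated by the neighbours. -/
theorem pr_closure_S1 (v : V4) : ∃ j ∈ closure (S1 z), j ∈ D.J ∧ D.pr j = v := by
  have line : ∀ p, IsPt4 p → ∀ α : F4, ∃ j ∈ closure (S1 z), j ∈ D.J ∧ D.pr j = α • p := by
    intro p hp α
    obtain ⟨d, hd⟩ := D.fib_ex hn hp
    obtain ⟨-, f2, f3, -⟩ := D.pt_facts hp hd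
    obtain ⟨d', hd', e⟩ := f3 α
    exact ⟨d * d', mul_mem (subset_closure (D.fib_S1 hn hp hd)) (subset_closure (D.fib_S1 hn hp hd')),
      (f2 d' hd').1, e⟩
  obtain ⟨l1, l2, l3, l4⟩ := line_pts
  obtain ⟨α, β, h1, h2⟩ := span_four (v 0) (v 1)
  obtain ⟨γ, δ, h3, h4'⟩ := span_four (v 2) (v 3)
  obtain ⟨a, a1, a2, a3⟩ := line _ l1 α
  obtain ⟨b, b1, b2, b3⟩ := line _ l2 β
  obtain ⟨c, c1, c2, c3⟩ := line _ l3 γ
  obtain ⟨d, d1, d2, d3⟩ := line _ l4 δ
  refine ⟨a * b * c * d, mul_mem (mul_mem (mul_mem a1 b1) c1) d1, mul_mem (mul_mem (mul_mem a2 b2) c2) d2, ?_⟩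
  rw [D.pr_mul _ (mul_mem (mul_mem a2 b2) c2) _ d2, D.pr_mul _ (mul_mem a2 b2) _ c2, D.pr_mul _ a2 _ b2,
    a3, b3, c3, d3, ← four_sum _ _ _ _ α β γ δ h1 h2 h3 h4', v4_eta']

/-- The centraliser of the centre lies in the generated group. -/
theorem cent_le_Y {g : G} (hg : Commute g z) : g ∈ closure (Om z) := by
  obtain ⟨h, hh, eh⟩ := D.ph_closure_S1 hn (D.ph g)
  have hhc := S1_comm hh
  have hJ : h⁻¹ * g ∈ D.J := (D.ph_J _ (hhc.inv_left.mul_left hg)).1
    (by rw [D.ph_mul _ _ hhc.inv_left hg, D.ph_inv hhc, eh, inv_mul_cancel])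
  obtain ⟨j, hj, hjJ, ej⟩ := D.pr_closure_S1 hn (D.pr (h⁻¹ * g))
  have hmem : h⁻¹ * g ∈ closure (Om z) := by
    rcases D.eq_of_pr hjJ hJ ej with e | e <;> rw [e]
    · exact closure_S1_le hj
    · exact mul_mem (closure_S1_le hj) (subset_closure (z_Om z))
  have := mul_mem (closure_S1_le hh) hmem
  rwa [mul_inv_cancel_left] at this

/-- An element moving a member of the component into it lies in the generated group. -/
theorem Y_of_move {g v : G} (hv : v ∈ Om z) (h : g * v * g⁻¹ ∈ Om z) : g ∈ closure (Om z) := by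
  obtain ⟨y, hy, e⟩ := D.Om_class hn z (z_Om z) v hv
  obtain ⟨y', hy', e'⟩ := D.Om_class hn _ h z (z_Om z)
  have hc : Commute (y' * g * y) z := mul_inv_eq_iff_eq_mul.1 (by
    calc y' * g * y * z * (y' * g * y)⁻¹ = y' * (g * (y * z * y⁻¹) * g⁻¹) * y'⁻¹ := by group
      _ = z := by rw [e, e'])
  have := mul_mem (mul_mem (inv_mem hy') (D.cent_le_Y hn hc)) (inv_mem hy)
  rwa [show y'⁻¹ * (y' * g * y) * y⁻¹ = g by group] at this

theorem cent_mem_le_Y {g v : G} (hv : v ∈ Om z) (h : Commute g v) : g ∈ closure (Om z) :=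
  D.Y_of_move hn hv (by rw [h.eq, mul_inv_cancel_right]; exact hv)

theorem exists_far : ∃ d ∈ Om z, ¬ Commute z d := by
  by_contra h
  push Not at h
  obtain ⟨a, ha⟩ := D.fib_ex hn p0_pt
  obtain ⟨g, hg, e⟩ := D.Om_class hn z (z_Om z) a (D.fib_Om hn ha)
  have hc : Commute g z := ThreeT.Prod.commute_of_closure (fun y hy => (h y hy).symm) g hg
  exact D.fib_ne_z p0_pt ha (by rw [← e, hc.eq, mul_inv_cancel_right])

/-- Only the identity commutes with the component. -/
theorem fix_Om {g : G} (h : ∀ x ∈ Om z, Commute g x) : g = 1 := by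
  have hK : Commute g z := h z (z_Om z)
  have hcen : D.ph g ∈ Subgroup.center U4 := by
    refine mem_center_iff.2 fun u => ?_
    obtain ⟨k, hk, rfl⟩ := D.ph_closure_S1 hn u
    exact D.ph_commute (S1_comm hk) hK (ThreeT.Prod.commute_of_closure (fun y hy => (h y hy.1).symm) k hk)
  have h1 : Subgroup.center U4 = ⊥ :=
    eq_bot_of_card_eq _ (by rw [card_center_SU F4_natcard (by norm_num)]; rfl)
  rw [h1, mem_bot] at hcen
  have hJ := (D.ph_J g hK).1 hcen
  have hperp : ∀ p, IsPt4 p → h4 (D.pr g) p = 0 := by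
    intro p hp
    obtain ⟨d, hd⟩ := D.fib_ex hn hp
    have e := D.pr_fix hd.2.1 hJ (h d (D.fib_Om hn hd)).symm
    rw [hd.2.2, R4_r, tvp_apply hp, add_eq_left, smul_eq_zero] at e
    exact e.resolve_right hp.1
  rcases (D.pr_zero g hJ).1 (perp_all _ hperp) with e | e
  · exact e
  · obtain ⟨d, hd, hcd⟩ := D.exists_far hn
    exact absurd (e ▸ h d hd) hcd

theorem center_Y : Subgroup.center (closure (Om z)) = ⊥ := by
  rw [eq_bot_iff]
  intro g hg
  rw [mem_bot]
  refine Subtype.ext (D.fix_Om hn fun x hx => ?_)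
  exact (congrArg Subtype.val (mem_center_iff.1 hg ⟨x, subset_closure hx⟩)).symm

theorem qimg_fi : Fischer.Fi (Fischer.qimg (Om z)) :=
  Fischer.fi_quot (D.Om_closed hn) (D.Om_noTwins hn) (D.Om_conn hn) (D.Om_class hn) (D.Om_edge hn)

theorem qnb_card : (ThreeT.Prod.nb (Fischer.qimg (Om z)) (Fischer.qmap (Om z) z)).ncard = 180 := by
  rw [← ((Fischer.SIso.qmap (D.Om_closed hn) (D.Om_noTwins hn)).nb (z_Om z)).bij.ncard_eq, D.nb_card hn]

/-- The neighbourhood has a non-central two-core. -/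
theorem qnb_core : ¬ Cfsg.pCore 2 ↥(closure (ThreeT.Prod.nb (Fischer.qimg (Om z)) (Fischer.qmap (Om z) z))) ≤
    Subgroup.center ↥(closure (ThreeT.Prod.nb (Fischer.qimg (Om z)) (Fischer.qmap (Om z) z))) := by
  intro hle
  set π := QuotientGroup.mk' (Subgroup.center ↥(closure (Om z)))
  set T : Set ↥(closure (Om z)) := {x | (x : G) ∈ S1 z}
  have f := Fischer.SIso.qmap (D.Om_closed hn) (D.Om_noTwins hn)
  have hnb : ThreeT.Prod.nb (Fischer.qimg (Om z)) (Fischer.qmap (Om z) z) = π '' T := by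
    rw [← (f.nb (z_Om z)).bij.image_eq]
    ext q
    constructor
    · rintro ⟨x, hx, rfl⟩
      exact ⟨⟨x, subset_closure hx.1⟩, hx, (Fischer.qmap_eq hx.1).symm⟩
    · rintro ⟨x, hx, rfl⟩
      exact ⟨x, hx, Fischer.qmap_eq hx.1⟩
  set W := closure (ThreeT.Prod.nb (Fischer.qimg (Om z)) (Fischer.qmap (Om z) z))
  have hW : W = (closure T).map π := by rw [MonoidHom.map_closure, ← hnb]
  have hT : ∀ w ∈ closure T, Commute (w : G) z := fun w hw => by
    have := mem_map_of_mem (closure (Om z)).subtype hw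
    rw [MonoidHom.map_closure] at this
    exact S1_comm (closure_mono (by rintro _ ⟨x, hx, rfl⟩; exact hx) this)
  set N : Subgroup ↥W := ((D.J.subgroupOf (closure (Om z)) ⊓ closure T).map π).subgroupOf W
  have hN : N.Normal := by
    refine ⟨fun n hn' w => ?_⟩
    obtain ⟨m, ⟨hmJ, hmT⟩, em⟩ := mem_subgroupOf.1 hn'
    obtain ⟨w0, hw0, ew⟩ : (w : Fischer.QG (Om z)) ∈ (closure T).map π := hW ▸ w.2
    refine mem_subgroupOf.2 ⟨w0 * m * w0⁻¹, ⟨?_,
      (show w0 * m * w0⁻¹ ∈ closure T from mul_mem (mul_mem hw0 hmT) (inv_mem hw0))⟩, ?_⟩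
    · exact mem_subgroupOf.2 (D.conj_mem (hT w0 hw0) (mem_subgroupOf.1 hmJ))
    · simp [← em, ← ew]
  have hp : IsPGroup 2 N := by
    intro n
    obtain ⟨m, ⟨hmJ, -⟩, em⟩ := mem_subgroupOf.1 n.2
    obtain ⟨k, hk⟩ := IsPGroup.of_card (p := 2) (n := 9) (show Nat.card D.J = 2 ^ 9 by rw [D.card_J]; norm_num)
      ⟨(m : G), mem_subgroupOf.1 hmJ⟩
    refine ⟨k, Subtype.ext (Subtype.ext ?_)⟩
    have hm1 : m ^ 2 ^ k = 1 := Subtype.ext (by simpa using congrArg Subtype.val hk)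
    simp only [SubgroupClass.coe_pow, coe_one, ← em, ← map_pow, hm1, map_one]
  obtain ⟨a, ha⟩ := D.fib_ex hn p0_pt
  obtain ⟨-, f2, f3, -⟩ := D.pt_facts p0_pt ha
  obtain ⟨a', ha', e1⟩ := f3 1
  have hne : a ≠ a' := by
    rintro rfl
    rw [D.mem_sq ha.1, D.pr_one, one_smul] at e1
    exact p0_pt.1 e1.symm
  obtain ⟨r, hr, hr1, -⟩ := exists_apart p0_pt p0_pt
  obtain ⟨v, hv⟩ := D.fib_ex hn hr
  have haS := D.fib_S1 hn p0_pt ha
  have ha'S := D.fib_S1 hn p0_pt ha'
  have hvS := D.fib_S1 hn hr hv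
  let t : ↥(closure (Om z)) := ⟨a, subset_closure haS.1⟩ * ⟨a', subset_closure ha'S.1⟩
  have htT : t ∈ closure T := mul_mem (subset_closure (show _ ∈ T from haS)) (subset_closure (show _ ∈ T from ha'S))
  have htJ : t ∈ D.J.subgroupOf (closure (Om z)) := mem_subgroupOf.2 (f2 a' ha').1
  have htW : π t ∈ W := hW ▸ mem_map_of_mem π htT
  have hvW : Fischer.qmap (Om z) v ∈ W := subset_closure ((f.nb (z_Om z)).bij.mapsTo hvS)
  have hcen : (⟨π t, htW⟩ : ↥W) ∈ Subgroup.center ↥W :=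
    hle (Solvable.le_pCore 2 hN hp (mem_subgroupOf.2 ⟨t, ⟨htJ, htT⟩, rfl⟩))
  have hcom : Commute (π t) (Fischer.qmap (Om z) v) :=
    (congrArg Subtype.val (mem_center_iff.1 hcen ⟨_, hvW⟩)).symm
  rw [show π t = Fischer.qmap (Om z) a * Fischer.qmap (Om z) a' by
    rw [Fischer.qmap_eq haS.1, Fischer.qmap_eq ha'S.1, ← map_mul]] at hcom
  have h2 := ((ThreeT.commute_mul_iff (D.qimg_fi hn).cls.1 (f.bij.mapsTo haS.1) (f.bij.mapsTo ha'S.1)
    (f.bij.mapsTo hvS.1) ((f.com a haS.1 a' ha'S.1).2 (D.fib_same p0_pt ha ha'))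
    fun e => hne (f.bij.injOn haS.1 ha'S.1 e)).1 hcom).1
  exact hr1 (h4_zero_iff.1 ((D.fib_comm_iff p0_pt hr ha hv).1 ((f.com a haS.1 v hvS.1).1 h2)))

/-- The generated group is the six-dimensional unitary group. -/
theorem exists_model : ∃ (K : Type) (_ : Field K) (_ : Fintype K), Fintype.card K = 4 ∧
    Nonempty (↥(closure (Om z)) ≃* Cfsg.PSU 6 K 2) := by
  classical
  have hfi := D.qimg_fi hn
  have f := Fischer.SIso.qmap (D.Om_closed hn) (D.Om_noTwins hn)
  set q := Fischer.qmap (Om z) z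
  have hq : q ∈ Fischer.qimg (Om z) := f.bij.mapsTo (z_Om z)
  have hcount : {x | x ∈ Fischer.qimg (Om z) ∧ Commute x q}.ncard = 181 := by
    rw [show {x | x ∈ Fischer.qimg (Om z) ∧ Commute x q} = insert q (ThreeT.Prod.nb (Fischer.qimg (Om z)) q) by
      ext x
      constructor
      · intro h
        by_cases e : x = q
        · exact Or.inl e
        · exact Or.inr ⟨h.1, e, h.2.symm⟩
      · rintro (rfl | h)
        · exact ⟨hq, Commute.refl _⟩
        · exact ⟨h.1, h.2.2.symm⟩]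
    rw [Set.ncard_insert_of_notMem (fun h => h.2.1 rfl), D.qnb_card hn]
  rcases Fischer.start_tv hfi hq (D.qnb_core hn) with ⟨m, -, φ, hφ⟩ | ⟨n, hn', K, _, _, hK, φ, hφ⟩
  · exfalso
    set δ := φ q
    let P : AddSubgroup (Fin m ⊕ Fin m → ZMod 2) := (Fischer.sform m δ).toAddMonoidHom.ker
    have hbij : Set.BijOn φ {x | x ∈ Fischer.qimg (Om z) ∧ Commute x q} ((P : Set _) \ {0}) := by
      refine ⟨fun x hx => ⟨?_, hφ.bij.mapsTo hx.1⟩, hφ.bij.injOn.mono fun x hx => hx.1, ?_⟩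
      · exact (hφ.commute_iff hfi.closed hq hx.1).1 hx.2.symm
      · rintro v ⟨hv, hv0⟩
        obtain ⟨x, hx, rfl⟩ := hφ.bij.surjOn (show v ∈ {v | v ≠ 0} from hv0)
        exact ⟨x, ⟨hx, ((hφ.commute_iff hfi.closed hq hx).2 hv).symm⟩, rfl⟩
    have h182 : Nat.card P = 182 := by
      have h : (P : Set (Fin m ⊕ Fin m → ZMod 2)).ncard = 182 := by
        rw [← Set.ncard_diff_singleton_add_one
            (show (0 : Fin m ⊕ Fin m → ZMod 2) ∈ (P : Set (Fin m ⊕ Fin m → ZMod 2)) from zero_mem P),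
          ← hbij.ncard_eq, hcount]
      rw [← h]; exact Nat.card_coe_set_eq _
    have hd : 182 ∣ 2 ^ (m + m) := by
      have := AddSubgroup.card_addSubgroup_dvd_card P
      rwa [h182, Nat.card_eq_fintype_card, Fintype.card_fun, Fintype.card_sum, ZMod.card, Fintype.card_fin] at this
    have := (Nat.prime_seven).dvd_of_dvd_pow ((show 7 ∣ 182 by norm_num).trans hd)
    norm_num at this
  · obtain ⟨W⟩ := ThreeT.Tv.exists_wt hK
    obtain ⟨m, rfl⟩ : ∃ m, n = m + 2 := ⟨n - 2, by omega⟩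
    have h1 := hφ.ncard_perp W (m := m) rfl (hφ.nz q hq) (hφ.iso q hq)
    rw [show {x | x ∈ Fischer.qimg (Om z) ∧ Cfsg.hermForm (m + 2) K 2 (φ x) (φ q) = 0} =
        {x | x ∈ Fischer.qimg (Om z) ∧ Commute x q} by
      ext x
      exact and_congr_right fun hx => (hφ.com_iff W hfi.closed hx hq).symm, hcount] at h1
    have h3 := Unitary.numLen_zero (Fischer.wt_card W) m
    rw [show Unitary.numLen K 2 m 0 = 136 by omega] at h3
    push_cast at h3
    obtain rfl : m = 4 := by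
      rcases Nat.lt_or_ge m 5 with h | h
      · interval_cases m <;> norm_num at h3 <;> rfl
      · exfalso
        have h5 : (32 : ℤ) ≤ 2 ^ m := by
          have := pow_le_pow_right₀ (one_le_two (α := ℤ)) h
          norm_num at this; exact this
        rcases neg_one_pow_eq_or ℤ m with e | e <;> rw [e] at h3 <;> nlinarith [h3, h5]
    obtain ⟨e, -⟩ := Fischer.uni_model hK (n := 4 + 2) (by norm_num) hfi.cls hfi.center ⟨q, hq⟩ hφ
    exact ⟨K, _, _, hK, ⟨(QuotientGroup.quotientBot.symm.trans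
      (QuotientGroup.quotientMulEquivOfEq (D.center_Y hn).symm)).trans e⟩⟩

end Cd

end CfsgLib.U62Cent
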