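import Cfsg.Agent.U62Cent.Member

/-!
The involution of the second class, and orbits in elementary abelian groups.
-/

set_option autoImplicit false
set_option maxRecDepth 100000
set_option maxHeartbeats 1000000
set_option linter.style.haveILetI false
set_option linter.unusedSectionVars false

open scoped Matrix

namespace CfsgLib.U62Cent

open CfsgLib Subgroup
open CfsgLib.FiLarge (F4 om omp)
open CfsgLib.Unitary (suMat suMat_mul suMat_one su_ext su_preserves)

instance decLS (x : V4) : Decidable (LS x) := by unfold LS; infer_instance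

theorem LS_qn4 : ∀ x : V4, LS x → qn4 x = 0 := by decide +kernel

theorem LS_orth : ∀ x y : V4, LS x → LS y → R4.B x y = 0 := by
  have key : ∀ a b c d : F4, h4 ![a, a, b, b] ![c, c, d, d] = 0 := by decide +kernel
  intro x y hx hy
  have ex : x = ![x 0, x 0, x 2, x 2] := funext fun i => by fin_cases i <;> simp [hx.1, hx.2]
  have ey : y = ![y 0, y 0, y 2, y 2] := funext fun i => by fin_cases i <;> simp [hy.1, hy.2]
  rw [R4_B, ex, ey, key]
  rfl

theorem LS_perp : ∀ x : V4, (∀ y, LS y → R4.B x y = 0) → LS x := by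
  intro x h
  have key : ∀ x : V4, (h4 x p0).im = 0 → (h4 x (om • p0)).im = 0 → (h4 x p1).im = 0 →
      (h4 x (om • p1)).im = 0 → LS x := by decide +kernel
  refine key x ?_ ?_ ?_ ?_ <;> (rw [← R4_B]; exact h _ (by decide +kernel))

theorem LS_image (w : V4) : LS (w + suMat s0 *ᵥ w) := by
  rw [add_comm, s0_image]
  exact ⟨rfl, rfl⟩

theorem LS_lift {x : V4} (h : LS x) :
    (![x 0, 0, x 2, 0] : V4) + suMat s0 *ᵥ (![x 0, 0, x 2, 0] : V4) = x := by
  rw [add_comm, s0_image]
  funext i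
  fin_cases i <;> simp [h.1, h.2]

theorem card_LS : Set.ncard {x : V4 | LS x} = 16 := by
  rw [← Nat.card_coe_set_eq]
  simp only [Set.coe_ofPred]
  rw [Nat.card_eq_fintype_card]
  decide +kernel

theorem LS_key : ∀ v : V4, h4 (![v 0 + v 1, v 0 + v 1, v 2 + v 3, v 2 + v 3] : V4) v = 1 →
    ∃ c : F4, c ≠ 0 ∧ ((![v 0 + v 1, v 0 + v 1, v 2 + v 3, v 2 + v 3] : V4) = c • p0 ∨
      (![v 0 + v 1, v 0 + v 1, v 2 + v 3, v 2 + v 3] : V4) = c • p1) := by decide +kernel

theorem d3_pts : suMat d3 *ᵥ p0 = om • p0 ∧ suMat d3 *ᵥ p1 = (om * om) • p1 := by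
  rw [d3_apply, d3_apply]
  decide +kernel

/-- An involution centralising the standard one and commuting with its twist fixes its fixed space. -/
theorem fix_LS {e : U4} (h2 : e * e = 1) (hs : e * s0 = s0 * e)
    (hd : d3 * e * d3⁻¹ * e * (d3 * e * d3⁻¹ * e) = 1) : ∀ x, LS x → suMat e *ᵥ x = x := by
  have hsq : ∀ x, suMat e *ᵥ (suMat e *ᵥ x) = x := fun x => by
    rw [Matrix.mulVec_mulVec, ← suMat_mul, h2, suMat_one, Matrix.one_mulVec]
  have himg : ∀ w p : V4, suMat s0 *ᵥ w + w = p → h4 p w = 1 →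
      ∃ c : F4, c ≠ 0 ∧ (suMat e *ᵥ p = c • p0 ∨ suMat e *ᵥ p = c • p1) := by
    intro w p hp hw
    have e1 : suMat e *ᵥ p = suMat s0 *ᵥ (suMat e *ᵥ w) + suMat e *ᵥ w := by
      rw [← hp, Matrix.mulVec_add, Matrix.mulVec_mulVec, ← suMat_mul, hs, suMat_mul, ← Matrix.mulVec_mulVec]
    rw [e1, s0_image]
    refine LS_key _ ?_
    rw [← s0_image, ← e1, su_h4, hw]
  obtain ⟨c0, hc0, a0⟩ := himg ![1, 0, 0, 0] p0 (by rw [s0_image]; decide +kernel) (by decide +kernel)
  obtain ⟨c1, hc1, a1⟩ := himg ![0, 0, 1, 0] p1 (by rw [s0_image]; decide +kernel) (by decide +kernel)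
  have one_of_sq : ∀ c : F4, c * c = 1 → c = 1 := by decide +kernel
  have k0 : ∀ a b : F4, a • p0 = b • p0 → a = b := fun a b h => by simpa [p0] using congrFun h 0
  have k1 : ∀ a b : F4, a • p1 = b • p1 → a = b := fun a b h => by simpa [p1] using congrFun h 2
  have hne : ∀ a b : F4, a • p0 = b • p1 → a = 0 := fun a b h => by simpa [p0, p1] using congrFun h 0
  have h0 : suMat e *ᵥ p0 = p0 := by
    rcases a0 with a0 | a0
    · have h := hsq p0
      rw [a0, Matrix.mulVec_smul, a0, smul_smul] at h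
      rw [a0, one_of_sq c0 (k0 _ _ (h.trans (one_smul _ _).symm)), one_smul]
    · exfalso
      have h := hsq p0
      rw [a0, Matrix.mulVec_smul] at h
      rcases a1 with a1 | a1
      swap
      · rw [a1, smul_smul] at h
        exact one_ne_zero (hne 1 _ ((one_smul F4 p0).trans h.symm))
      rw [a1, smul_smul] at h
      have hc : c0 * c1 = 1 := k0 _ _ (h.trans (one_smul _ _).symm)
      have hi1 : suMat d3⁻¹ *ᵥ p1 = om • p1 := by
        have h' := congrArg (fun v => om • (suMat d3⁻¹ *ᵥ v)) d3_pts.2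
        simp only [su_inv_apply, Matrix.mulVec_smul, smul_smul] at h'
        rw [show om * (om * om) = 1 by decide +kernel, one_smul] at h'
        exact h'.symm
      have hf : suMat (d3 * e * d3⁻¹ * e) *ᵥ p0 = (om * om) • p0 := by
        rw [suMat_mul, suMat_mul, suMat_mul, ← Matrix.mulVec_mulVec, ← Matrix.mulVec_mulVec,
          ← Matrix.mulVec_mulVec, a0]
        simp only [Matrix.mulVec_smul, hi1, smul_smul, a1, d3_pts.1]
        rw [show c0 * om * c1 * om = c0 * c1 * (om * om) by ring, hc, one_mul]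
      have h' := congrArg (fun g => suMat g *ᵥ p0) hd
      simp only [suMat_mul (d3 * e * d3⁻¹ * e), ← Matrix.mulVec_mulVec, hf, Matrix.mulVec_smul, smul_smul,
        suMat_one, Matrix.one_mulVec] at h'
      exact absurd (k0 _ _ (h'.trans (one_smul _ _).symm)) (by decide +kernel)
  have h1 : suMat e *ᵥ p1 = p1 := by
    rcases a1 with a1 | a1
    · exfalso
      have h := hsq p1
      rw [a1, Matrix.mulVec_smul, h0] at h
      exact hc1 (hne _ 1 (h.trans (one_smul F4 p1).symm))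
    · have h := hsq p1
      rw [a1, Matrix.mulVec_smul, a1, smul_smul] at h
      rw [a1, one_of_sq c1 (k1 _ _ (h.trans (one_smul _ _).symm)), one_smul]
  intro x hx
  have ex : x = x 0 • p0 + x 2 • p1 := funext fun i => by fin_cases i <;> simp [p0, p1, hx.1, hx.2]
  rw [ex, Matrix.mulVec_add, Matrix.mulVec_smul, Matrix.mulVec_smul, h0, h1]

theorem free_three {α : Type*} [DecidableEq α] (S : Finset α) (g : S → S) (h3 : ∀ a, g (g (g a)) = a)
    (hfix : ∀ a, g a ≠ a) : 3 ∣ S.card := by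
  haveI : Fact (Nat.Prime 3) := ⟨Nat.prime_three⟩
  have h := Equiv.Perm.card_fixedPoints_modEq (f := (g : Function.End S)) (p := 3) (n := 1)
    (funext fun a => h3 a)
  rw [Fintype.card_coe] at h
  have h0 : Fintype.card (Function.fixedPoints (g : Function.End S)) = 0 := by
    rw [Fintype.card_eq_zero_iff]
    exact ⟨fun a => hfix a.1 a.2⟩
  rw [h0] at h
  exact Nat.modEq_zero_iff_dvd.1 h

/-- A prime dividing the size of an orbit in an elementary abelian group divides a Mersenne number. -/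
theorem orbit_prime' {G : Type*} [Group G] [Finite G] (A N : Subgroup G) (hN : ∀ n ∈ N, ∀ a ∈ A, n * a * n⁻¹ ∈ A)
    (hA : ∀ a ∈ A, a * a = 1) {z : G} (hz : z ∈ A) {p : ℕ} (hp : p.Prime)
    (hdvd : p ∣ {x | ∃ n ∈ N, n * z * n⁻¹ = x}.ncard) : ∃ a b, True ∧ b < a ∧ 2 ^ a % p = 2 ^ b % p ∧ Nat.card A = 2 ^ a := by
  classical
  haveI := Fintype.ofFinite A
  haveI : Fact p.Prime := ⟨hp⟩
  haveI : Fact (Nat.Prime 2) := ⟨Nat.prime_two⟩
  let ρ : N →* Equiv.Perm A :=
    { toFun := fun n =>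
        { toFun := fun a => ⟨(n : G) * a * (n : G)⁻¹, hN n n.2 a a.2⟩
          invFun := fun a => ⟨(n : G)⁻¹ * a * (n : G), by
            have := hN _ (inv_mem n.2) a a.2
            rwa [inv_inv] at this⟩
          left_inv := fun a => Subtype.ext (show (n : G)⁻¹ * ((n : G) * a * (n : G)⁻¹) * n = a by group)
          right_inv := fun a => Subtype.ext (show (n : G) * ((n : G)⁻¹ * a * n) * (n : G)⁻¹ = a by group) }
      map_one' := Equiv.ext fun a => Subtype.ext (show ((1 : N) : G) * a * ((1 : N) : G)⁻¹ = a by simp)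
      map_mul' := fun m n => Equiv.ext fun a => Subtype.ext (show ((m * n : N) : G) * a * ((m * n : N) : G)⁻¹ =
        (m : G) * ((n : G) * a * (n : G)⁻¹) * (m : G)⁻¹ by simp [mul_assoc]) }
  set P := ρ.range
  have horb : {x | ∃ n ∈ N, n * z * n⁻¹ = x} = Subtype.val '' (MulAction.orbit P (⟨z, hz⟩ : A)) := by
    ext x
    constructor
    · rintro ⟨n, hn, rfl⟩
      exact ⟨_, ⟨⟨ρ ⟨n, hn⟩, ⟨n, hn⟩, rfl⟩, rfl⟩, rfl⟩
    · rintro ⟨_, ⟨⟨_, n, rfl⟩, rfl⟩, rfl⟩
      exact ⟨n, n.2, rfl⟩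
  rw [horb, Set.ncard_image_of_injective _ Subtype.val_injective, ← Nat.card_coe_set_eq] at hdvd
  have hdP : p ∣ Nat.card P := by
    rw [← Nat.card_congr (MulAction.orbitProdStabilizerEquivGroup P (⟨z, hz⟩ : A)), Nat.card_prod]
    exact dvd_mul_of_dvd_left hdvd _
  obtain ⟨⟨f, n, hn⟩, hf⟩ := exists_prime_orderOf_dvd_card' p hdP
  have hfp : f ^ p = 1 := by
    have h := pow_orderOf_eq_one (⟨f, n, hn⟩ : P)
    rw [hf] at h
    exact congrArg Subtype.val h
  have hf1 : f ≠ 1 := fun e => by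
    have : (⟨f, n, hn⟩ : P) = 1 := Subtype.ext e
    rw [this, orderOf_one] at hf
    exact hp.ne_one hf.symm
  -- the fixed points
  let Fx : Subgroup A :=
    { carrier := {a | f a = a}
      one_mem' := by rw [← hn]; exact Subtype.ext (show (n : G) * ((1 : A) : G) * (n : G)⁻¹ = ((1 : A) : G) by simp)
      mul_mem' := fun {a b} ha hb => by
        have h1 : (n : G) * a * (n : G)⁻¹ = a := congrArg Subtype.val (show ρ n a = a by rw [hn]; exact ha)
        have h2 : (n : G) * b * (n : G)⁻¹ = b := congrArg Subtype.val (show ρ n b = b by rw [hn]; exact hb)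
        show f (a * b) = a * b
        rw [← hn]
        exact Subtype.ext (show (n : G) * ((a : G) * b) * (n : G)⁻¹ = (a : G) * b by
          calc (n : G) * ((a : G) * b) * (n : G)⁻¹ = (n : G) * a * (n : G)⁻¹ * ((n : G) * b * (n : G)⁻¹) := by group
            _ = _ := by rw [h1, h2])
      inv_mem' := fun {a} ha => by
        have e : a⁻¹ = a := inv_eq_of_mul_eq_one_right (Subtype.ext (hA a a.2))
        show f a⁻¹ = a⁻¹
        rw [e]; exact ha }
  have hmod := Equiv.Perm.card_compl_support_modEq (p := p) (n := 1) (σ := f) (by rw [pow_one]; exact hfp)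
  have h2 : IsPGroup 2 A := fun a => ⟨1, Subtype.ext (by simpa [pow_two] using hA a a.2)⟩
  obtain ⟨a, ha⟩ := IsPGroup.iff_card.1 h2
  obtain ⟨b, hb⟩ := IsPGroup.iff_card.1 (h2.to_subgroup Fx)
  have hlt : Nat.card Fx < Nat.card A := by
    refine lt_of_le_of_ne (Nat.le_of_dvd Nat.card_pos (Subgroup.card_subgroup_dvd_card Fx)) fun e => hf1 ?_
    have htop := Subgroup.eq_top_of_card_eq Fx e
    exact Equiv.ext fun x => (show x ∈ Fx from htop ▸ Subgroup.mem_top x)
  refine ⟨a, b, trivial, ?_, ?_, ha⟩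
  · rw [ha, hb] at hlt
    exact (Nat.pow_lt_pow_iff_right (by norm_num)).1 hlt
  · have e : Nat.card Fx = f.supportᶜ.card := by
      rw [← Nat.card_eq_finsetCard]
      exact Nat.card_congr (Equiv.subtypeEquivRight fun x => by
        rw [Finset.mem_compl, Equiv.Perm.mem_support, not_not]
        rfl)
    rw [← ha, ← hb, e, Nat.card_eq_fintype_card]
    exact hmod.symm

theorem orbit_prime {G : Type*} [Group G] [Finite G] (A N : Subgroup G) (hN : ∀ n ∈ N, ∀ a ∈ A, n * a * n⁻¹ ∈ A)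
    (hA : ∀ a ∈ A, a * a = 1) (hcard : Nat.card A ≤ 512) {z : G} (hz : z ∈ A) {p : ℕ} (hp : p.Prime)
    (hdvd : p ∣ {x | ∃ n ∈ N, n * z * n⁻¹ = x}.ncard) : ∃ a b, a ≤ 9 ∧ b < a ∧ 2 ^ a % p = 2 ^ b % p := by
  obtain ⟨a, b, -, hb, e, hc⟩ := orbit_prime' A N hN hA hz hp hdvd
  refine ⟨a, b, ?_, hb, e⟩
  by_contra h
  have := Nat.pow_le_pow_right (show 0 < 2 by norm_num) (show 10 ≤ a by omega)
  omega

/-- The same in a group of order at most sixty-four. -/
theorem orbit_prime64 {G : Type*} [Group G] [Finite G] (A N : Subgroup G) (hN : ∀ n ∈ N, ∀ a ∈ A, n * a * n⁻¹ ∈ A)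
    (hA : ∀ a ∈ A, a * a = 1) (hcard : Nat.card A ≤ 64) {z : G} (hz : z ∈ A) {p : ℕ} (hp : p.Prime)
    (hdvd : p ∣ {x | ∃ n ∈ N, n * z * n⁻¹ = x}.ncard) : ∃ a b, a ≤ 6 ∧ b < a ∧ 2 ^ a % p = 2 ^ b % p := by
  obtain ⟨a, b, -, hb, e, hc⟩ := orbit_prime' A N hN hA hz hp hdvd
  refine ⟨a, b, ?_, hb, e⟩
  by_contra h
  have := Nat.pow_le_pow_right (show 0 < 2 by norm_num) (show 7 ≤ a by omega)
  omega

theorem no_mersenne : ∀ p ∈ ({29, 41, 13, 11, 113} : Finset ℕ), ∀ a < 10, ∀ b < a,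
    ¬ (2 ^ a % p = 2 ^ b % p) := by decide +kernel

theorem no_mersenne17 : ∀ a < 7, ∀ b < a, ¬ (2 ^ a % 17 = 2 ^ b % 17) := by decide +kernel

end CfsgLib.U62Cent
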