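import Cfsg.Agent.U62Cent.MemberT
import Cfsg.Agent.U62Cent.SigmaPure

/-!
A member over an involution of the second class.
-/

set_option autoImplicit false
set_option maxRecDepth 100000
set_option maxHeartbeats 1000000
set_option linter.style.haveILetI false
set_option linter.unusedSectionVars false

open scoped Matrix

namespace CfsgLib.U62Cent

open CfsgLib Subgroup
open CfsgLib.FiLarge (F4 om omp)
open CfsgLib.Unitary (suMat suMat_mul suMat_one su_ext su_preserves)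

variable {G : Type*} [Group G] [Finite G] {z : G}

namespace Cd

/-- Transvection type. -/
def TType (D : Cd z R4) (u : G) : Prop := ∃ a, Commute a z ∧ D.ph (a * u * a⁻¹) = tvp p0

/-- The second type. -/
def SType (D : Cd z R4) (u : G) : Prop := ∃ a, Commute a z ∧ D.ph (a * u * a⁻¹) = s0

/-- The members with a given image. -/
def cls (D : Cd z R4) (e : U4) : Set G := {x | Mem z x ∧ Commute x z ∧ D.ph x = e}

section base

variable (D : Cd z R4) {u : G} (h : Mem z u) (hc : Commute u z) (hS : D.ph u = s0)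

include h hc hS

theorem qn4_N_S (w : V4) : qn4 (w + suMat (D.ph u) *ᵥ w) = 0 := by
  rw [hS]
  exact LS_qn4 _ (LS_image w)

theorem lift_LS {m : G} (hm : m ∈ D.J) (e : LS (D.pr m)) :
    Commute m u ∧ ∃ j ∈ D.J, m = D.kk u j ∨ m = D.kk u j * z :=
  D.lift_image h hc (w := ![D.pr m 0, 0, D.pr m 2, 0]) (D.qn4_N_S h hc hS _) hm (by rw [hS, LS_lift e])

theorem mem_cJ_S {m : G} : m ∈ D.cJ u ↔ m ∈ D.J ∧ LS (D.pr m) := by
  constructor
  · intro hm
    obtain ⟨hJ, hu⟩ := D.mem_cJ.1 hm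
    refine ⟨hJ, (s0_fix _).1 ?_⟩
    have e := D.pr_conj_u h hc hJ
    rwa [show u * m * u = m by rw [hu.symm.eq, mul_assoc, D.mem_sq h, mul_one], hS, eq_comm] at e
  · rintro ⟨hJ, hl⟩
    exact D.mem_cJ.2 ⟨hJ, (D.lift_LS h hc hS hJ hl).1⟩

theorem card_cJ_S : Nat.card (D.cJ u) = 32 := by
  rw [← SetLike.coe_sort_coe, Nat.card_coe_set_eq,
    show (D.cJ u : Set G) = {x | x ∈ D.J ∧ D.pr x ∈ {w : V4 | LS w}} from Set.ext fun x => D.mem_cJ_S h hc hS,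
    D.two_fibres, card_LS]

theorem cJ_S_sq {m : G} (hm : m ∈ D.cJ u) : m * m = 1 := by
  obtain ⟨hJ, hl⟩ := (D.mem_cJ_S h hc hS).1 hm
  exact (D.invol_iff hJ).2 (by rw [R4_q]; exact LS_qn4 _ hl)

theorem cJ_S_comm {m n : G} (hm : m ∈ D.cJ u) (hn : n ∈ D.cJ u) : Commute m n := by
  obtain ⟨hJ, hl⟩ := (D.mem_cJ_S h hc hS).1 hm
  obtain ⟨hJ', hl'⟩ := (D.mem_cJ_S h hc hS).1 hn
  exact (D.comm_iff hJ hJ').2 (LS_orth _ _ hl hl')

theorem two_small (P : Subgroup G) (hP : IsPGroup 2 P) (hcm : ∀ x ∈ P, Commute x z ∧ Commute x u) :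
    Nat.card P ≤ 2 ^ 10 := by
  haveI : Fact (Nat.Prime 2) := ⟨Nat.prime_two⟩
  let φ : P →* U4 :=
    { toFun := fun x => D.ph x
      map_one' := D.ph_one
      map_mul' := fun a b => D.ph_mul _ _ (hcm a a.2).1 (hcm b b.2).1 }
  have h1 := Subgroup.card_eq_card_quotient_mul_card_subgroup φ.ker
  rw [Nat.card_congr (QuotientGroup.quotientKerEquivRange φ).toEquiv] at h1
  have hk : Nat.card φ.ker ≤ 32 := by
    rw [← D.card_cJ_S h hc hS]
    refine Nat.card_le_card_of_injective (fun a => (⟨a.1.1, D.mem_cJ.2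
      ⟨(D.ph_J _ (hcm _ a.1.2).1).1 (MonoidHom.mem_ker.1 a.2), (hcm _ a.1.2).2⟩⟩ : D.cJ u)) ?_
    intro a b e
    exact Subtype.ext (Subtype.ext (congrArg (fun t : D.cJ u => (t : G)) e))
  have hr2 : IsPGroup 2 φ.range := hP.of_surjective φ.rangeRestrict φ.rangeRestrict_surjective
  obtain ⟨n, hn⟩ := IsPGroup.iff_card.1 hr2
  have hdvd : Nat.card φ.range ∣ 25920 := card_SU4 ▸ Subgroup.card_subgroup_dvd_card _
  have hn6 : n ≤ 6 := by
    by_contra hlt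
    rw [hn] at hdvd
    exact absurd ((pow_dvd_pow 2 (show 7 ≤ n by omega)).trans hdvd) (by norm_num)
  have hne : n ≠ 6 := by
    rintro rfl
    obtain ⟨p, hp, e⟩ := cent_sylow φ.range (by rw [hn]; norm_num) (g := s0) s0_sq
      (fun e => by have := s0_rank; rw [e, suMat_one, sub_self, Matrix.rank_zero] at this; omega)
      (by
        rintro _ ⟨x, rfl⟩
        show s0 * D.ph x = D.ph x * s0
        rw [← hS]
        exact D.ph_commute hc (hcm x x.2).1 (hcm x x.2).2.symm)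
    exact tvp_ne_s0 hp 1 (by rw [e]; group)
  have hr : Nat.card φ.range ≤ 32 := by
    rw [hn]
    calc 2 ^ n ≤ 2 ^ 5 := Nat.pow_le_pow_right (by norm_num) (by omega)
      _ = 32 := by norm_num
  have := Nat.mul_le_mul hr hk
  omega

end base

theorem kinds (D : Cd z R4) {u : G} (h : Mem z u) (hc : Commute u z) (hne : u ≠ z) : D.TType u ∨ D.SType u := by
  obtain ⟨a, ha, e | e⟩ := D.mem_kinds h hc hne
  exacts [Or.inl ⟨a, ha, e⟩, Or.inr ⟨a, ha, e⟩]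

theorem conj_facts {u a : G} (ha : Commute a z) (h : Mem z u) (hc : Commute u z) (hne : u ≠ z) :
    Mem z (a * u * a⁻¹) ∧ Commute (a * u * a⁻¹) z ∧ a * u * a⁻¹ ≠ z := by
  refine ⟨h.conj a, (ha.mul_left hc).mul_left ha.inv_left, fun e => hne ?_⟩
  calc u = a⁻¹ * (a * u * a⁻¹) * a := by group
    _ = z := by rw [e, ha.inv_left.eq, inv_mul_cancel_right]

theorem conj_two {P : Subgroup G} (hP : IsPGroup 2 P) {x y : G} (hcm : ∀ p ∈ P, Commute p x ∧ Commute p y) (c : G) :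
    IsPGroup 2 (P.map (MulAut.conj c).toMonoidHom) ∧
      (∀ p ∈ P.map (MulAut.conj c).toMonoidHom, Commute p (c * x * c⁻¹) ∧ Commute p (c * y * c⁻¹)) ∧
        Nat.card (P.map (MulAut.conj c).toMonoidHom) = Nat.card P := by
  refine ⟨hP.map _, ?_, Subgroup.card_map_of_injective (MulAut.conj c).injective⟩
  rintro _ ⟨p, hp, rfl⟩
  exact ⟨(hcm p hp).1.map (MulAut.conj c).toMonoidHom, (hcm p hp).2.map (MulAut.conj c).toMonoidHom⟩

/-- A transvection on one side is one on the other side. -/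
theorem ttype_sym (D : Cd z R4) {u : G} (Du : Cd u R4) (h : Mem z u) (hc : Commute u z) (hne : u ≠ z)
    (hT : D.TType u) : Du.TType z := by
  refine (Du.kinds h.symm hc.symm (Ne.symm hne)).resolve_right ?_
  rintro ⟨b, hb, eb⟩
  obtain ⟨a, ha, ea⟩ := hT
  obtain ⟨h1, h2, -⟩ := conj_facts ha h hc hne
  obtain ⟨k1, k2, -⟩ := conj_facts hb h.symm hc.symm (Ne.symm hne)
  obtain ⟨P, hP, hcm, hbig⟩ := D.two_large h1 h2 ea
  obtain ⟨hP', hcm', hcard'⟩ := conj_two hP hcm (b * a⁻¹)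
  have e1 : b * a⁻¹ * z * (b * a⁻¹)⁻¹ = b * z * b⁻¹ := by
    calc b * a⁻¹ * z * (b * a⁻¹)⁻¹ = b * (a⁻¹ * z * a) * b⁻¹ := by group
      _ = _ := by rw [ha.inv_left.eq, inv_mul_cancel_right]
  have e2 : b * a⁻¹ * (a * u * a⁻¹) * (b * a⁻¹)⁻¹ = u := by
    calc b * a⁻¹ * (a * u * a⁻¹) * (b * a⁻¹)⁻¹ = b * u * b⁻¹ := by group
      _ = u := by rw [hb.eq, mul_inv_cancel_right]
  have h' := Du.two_small k1 k2 eb _ hP' fun p hp => by
    obtain ⟨c1, c2⟩ := hcm' p hp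
    rw [e1] at c1
    rw [e2] at c2
    exact ⟨c2, c1⟩
  rw [hcard'] at h'
  norm_num at h' hbig
  omega

theorem ttype_large (D : Cd z R4) {u : G} (h : Mem z u) (hc : Commute u z) (hne : u ≠ z) (hT : D.TType u) :
    64 ≤ Nat.card (D.cJ u) := by
  obtain ⟨a, ha, ea⟩ := hT
  obtain ⟨h1, h2, -⟩ := conj_facts ha h hc hne
  refine (D.cJ_large h1 h2 ea).trans (Nat.card_le_card_of_injective
    (fun x => (⟨a⁻¹ * (x : G) * a, D.mem_cJ.2 ⟨?_, ?_⟩⟩ : D.cJ u)) ?_)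
  · have := D.conj_mem ha.inv_left (D.mem_cJ.1 x.2).1
    rwa [inv_inv] at this
  · have := (D.mem_cJ.1 x.2).2.map (MulAut.conj a⁻¹).toMonoidHom
    simpa [mul_assoc] using this
  · intro x y e
    have := congrArg Subtype.val e
    exact Subtype.ext (mul_left_cancel (mul_right_cancel this))

section core

variable (D : Cd z R4) {u : G} (Du : Cd u R4) (h : Mem z u) (hc : Commute u z) (hne : u ≠ z)
  (hS : D.ph u = s0) (hS' : Du.ph z = s0)

include h hc hne hS hS'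

theorem exists_i : ∃ i, i ∈ D.J ∧ i ∈ Du.J ∧ i ≠ 1 ∧ D.pr i ≠ 0 ∧ LS (D.pr i) := by
  have hsq : ∀ e ∈ (Du.other D).range, e * e = 1 := by
    rintro _ ⟨a, rfl⟩
    rw [← map_mul, show a * a = 1 from Subtype.ext (D.cJ_S_sq h hc hS a.2), map_one]
  have h1 := elem_le _ hsq
  have h2 := Subgroup.card_eq_card_quotient_mul_card_subgroup (Du.other D).ker
  rw [Nat.card_congr (QuotientGroup.quotientKerEquivRange (Du.other D)).toEquiv, D.card_cJ_S h hc hS] at h2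
  by_cases hk : (Du.other D).ker = ⊥
  · rw [hk, Subgroup.card_bot] at h2
    omega
  · obtain ⟨⟨a, ha⟩, ha'⟩ := Subgroup.ne_bot_iff_exists_ne_one.1 hk
    have ha1 : a ≠ 1 := fun e => ha' (Subtype.ext e)
    obtain ⟨hJ, hl⟩ := (D.mem_cJ_S h hc hS).1 a.2
    have hne1 : (a : G) ≠ 1 := fun e => ha1 (Subtype.ext e)
    refine ⟨a, hJ, (Du.mem_other_ker D).1 ha, hne1, fun e => ?_, hl⟩
    exact ((D.pr_zero _ hJ).1 e).elim hne1 fun e' => D.z_notMem Du h hne (e' ▸ (Du.mem_other_ker D).1 ha)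

theorem uz_S : ¬ Mem z (u * z) := by
  obtain ⟨i, hi, hiu, -, h0, hl⟩ := D.exists_i Du h hc hne hS hS'
  exact D.uz_not h hc Du hi hiu h0 (w := ![D.pr i 0, 0, D.pr i 2, 0]) (D.qn4_N_S h hc hS _)
    (by rw [hS, LS_lift hl])

/-- The members over the image are conjugate. -/
theorem class_S {u' : G} (h' : Mem z u') (hc' : Commute u' z) (e' : D.ph u' = s0) :
    ∃ j ∈ D.J, j * u * j⁻¹ = u' := by
  have hu := D.mem_sq h
  have hu' := D.mem_sq h'
  have hxJ : u' * u ∈ D.J := (D.ph_J _ (hc'.mul_left hc)).1 (by rw [D.ph_mul _ _ hc' hc, e', hS, s0_sq])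
  have hxinv : u * (u' * u) * u = (u' * u)⁻¹ := by
    rw [mul_inv_rev, D.mem_inv h, D.mem_inv h', mul_assoc, mul_assoc, hu, mul_one]
  have hl : LS (D.pr (u' * u)) := by
    have e := D.pr_conj_u h hc hxJ
    rw [hxinv, D.pr_inv hxJ, hS] at e
    exact (s0_fix _).1 e.symm
  obtain ⟨-, j, hj, e | e⟩ := D.lift_LS h hc hS hxJ hl
  · exact ⟨j, hj, by rw [D.kk_conj h hc, ← e, mul_assoc, hu, mul_one]⟩
  · exfalso
    refine D.uz_S Du h hc hne hS hS' ?_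
    have e1 : j * u * j⁻¹ = u' * z := by
      rw [D.kk_conj h hc, show D.kk u j = u' * u * z by rw [e, mul_assoc, D.z_sq, mul_one],
        mul_assoc (u' * u) z u, ← hc.eq, ← mul_assoc, mul_assoc u' u u, hu, mul_one]
    have hjz : j⁻¹ * z * j = z := by rw [(D.J_comm j hj).inv_left.eq, inv_mul_cancel_right]
    have e2 : j⁻¹ * u' * j⁻¹⁻¹ = u * z := by
      calc j⁻¹ * u' * j⁻¹⁻¹ = j⁻¹ * (u' * z) * j * (j⁻¹ * z * j)⁻¹ := by group
        _ = u * z := by rw [hjz, D.z_inv, ← e1]; group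
    exact e2 ▸ h'.conj j⁻¹

/-- Centralising elements lift to the pair. -/
theorem lift_S {v : U4} (hv : v * s0 = s0 * v) : ∃ a, Commute a z ∧ Commute a u ∧ D.ph a = v := by
  obtain ⟨a, ha, rfl⟩ := D.ph_surj v
  obtain ⟨j, hj, e⟩ := D.class_S Du h hc hne hS hS' (h.conj a) ((ha.mul_left hc).mul_left ha.inv_left)
    (by rw [D.ph_conj ha hc, hS, hv, mul_inv_cancel_right])
  refine ⟨j⁻¹ * a, (D.J_comm j hj).inv_left.mul_left ha, mul_inv_eq_iff_eq_mul.1 ?_,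
    by rw [D.ph_mul _ _ (D.J_comm j hj).inv_left ha, D.ph_of_J (inv_mem hj), one_mul]⟩
  calc j⁻¹ * a * u * (j⁻¹ * a)⁻¹ = j⁻¹ * (a * u * a⁻¹) * j := by group
    _ = u := by rw [← e]; group

/-- The other radical fixes the fixed space pointwise. -/
theorem fixes {y : G} (hy : y ∈ Du.cJ z) {x : V4} (hx : LS x) : suMat (D.ph y) *ᵥ x = x := by
  obtain ⟨hyJ, hyz⟩ := Du.mem_cJ.1 hy
  obtain ⟨a, haz, hau, ea⟩ := D.lift_S Du h hc hne hS hS' d3_s0
  have hy' := Du.conj_cJ hau haz hy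
  have hyz' := (Du.mem_cJ.1 hy').2
  refine fix_LS ?_ ?_ ?_ x hx
  · rw [← D.ph_mul _ _ hyz hyz, Du.cJ_S_sq h.symm hc.symm hS' hy, D.ph_one]
  · rw [← hS]
    exact D.ph_commute hyz hc (Du.J_comm y hyJ)
  · rw [← ea, ← D.ph_conj haz hyz, ← D.ph_mul _ _ hyz' hyz,
      ← D.ph_mul _ _ (hyz'.mul_left hyz) (hyz'.mul_left hyz),
      Du.cJ_S_sq h.symm hc.symm hS' (mul_mem hy' hy), D.ph_one]

theorem cJ_commute {x y : G} (hx : x ∈ D.cJ u) (hy : y ∈ Du.cJ z) : Commute x y := by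
  obtain ⟨hyJ, hyz⟩ := Du.mem_cJ.1 hy
  obtain ⟨hxJ, hl⟩ := (D.mem_cJ_S h hc hS).1 hx
  have hxu := (D.mem_cJ.1 hx).2
  have hy' : y * x * y⁻¹ * x⁻¹ ∈ D.J := mul_mem (D.conj_mem hyz hxJ) (inv_mem hxJ)
  have hyu : y * x * y⁻¹ * x⁻¹ ∈ Du.J := by
    rw [show y * x * y⁻¹ * x⁻¹ = y * (x * y⁻¹ * x⁻¹) by group]
    exact mul_mem hyJ (Du.conj_mem hxu (inv_mem hyJ))
  have e : D.pr (y * x * y⁻¹ * x⁻¹) = 0 := by
    rw [D.pr_mul _ (D.conj_mem hyz hxJ) _ (inv_mem hxJ), D.pr_act y hyz x hxJ, D.pr_inv hxJ, R4_r,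
      D.fixes Du h hc hne hS hS' hy hl, v4_self]
  rcases (D.pr_zero _ hy').1 e with e | e
  · exact (mul_inv_eq_iff_eq_mul.1 (mul_inv_eq_one.1 e)).symm
  · exact absurd (e ▸ hyu) (D.z_notMem Du h hne)

/-- The product of the two small parts. -/
def pairGrp : Subgroup G where
  carrier := {a | ∃ x ∈ D.cJ u, ∃ y ∈ Du.cJ z, a = x * y}
  one_mem' := ⟨1, one_mem _, 1, one_mem _, (mul_one 1).symm⟩
  mul_mem' := by
    rintro _ _ ⟨x, hx, y, hy, rfl⟩ ⟨x', hx', y', hy', rfl⟩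
    refine ⟨x * x', mul_mem hx hx', y * y', mul_mem hy hy', ?_⟩
    have := (D.cJ_commute Du h hc hne hS hS' hx' hy).eq
    calc x * y * (x' * y') = x * (y * x') * y' := by group
      _ = x * (x' * y) * y' := by rw [← this]
      _ = _ := by group
  inv_mem' := by
    rintro _ ⟨x, hx, y, hy, rfl⟩
    exact ⟨x⁻¹, inv_mem hx, y⁻¹, inv_mem hy,
      by rw [mul_inv_rev, (D.cJ_commute Du h hc hne hS hS' (inv_mem hx) (inv_mem hy)).eq]⟩

theorem pair_J {j a : G} (hj : j ∈ D.J) (ha : a ∈ D.pairGrp Du h hc hne hS hS') :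
    j * a * j⁻¹ ∈ D.pairGrp Du h hc hne hS hS' := by
  obtain ⟨x, hx, y, hy, rfl⟩ := ha
  obtain ⟨hyJ, hyz⟩ := Du.mem_cJ.1 hy
  obtain ⟨hxJ, hl⟩ := (D.mem_cJ_S h hc hS).1 hx
  have hx' : j * x * j⁻¹ ∈ D.cJ u := by
    refine (D.mem_cJ_S h hc hS).2 ⟨mul_mem (mul_mem hj hxJ) (inv_mem hj), ?_⟩
    rwa [D.pr_mul _ (mul_mem hj hxJ) _ (inv_mem hj), D.pr_mul _ hj _ hxJ, D.pr_inv hj, add_right_comm, v4_self,
      zero_add]
  have hd : j * y * j⁻¹ * y⁻¹ ∈ D.J := by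
    rw [show j * y * j⁻¹ * y⁻¹ = j * (y * j⁻¹ * y⁻¹) by group]
    exact mul_mem hj (D.conj_mem hyz (inv_mem hj))
  have hd' : j * y * j⁻¹ * y⁻¹ ∈ D.cJ u := by
    refine (D.mem_cJ_S h hc hS).2 ⟨hd, LS_perp _ fun w hw => ?_⟩
    have e : D.pr (j * y * j⁻¹ * y⁻¹) = D.pr j + suMat (D.ph y) *ᵥ D.pr j := by
      rw [show j * y * j⁻¹ * y⁻¹ = j * (y * j⁻¹ * y⁻¹) by group, D.pr_mul _ hj _ (D.conj_mem hyz (inv_mem hj)),
        D.pr_act y hyz _ (inv_mem hj), D.pr_inv hj, R4_r]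
    rw [e, R4.B_add_left]
    have e2 : R4.B (suMat (D.ph y) *ᵥ D.pr j) w = R4.B (D.pr j) w := by
      conv_lhs => rw [← D.fixes Du h hc hne hS hS' hy hw, ← R4_r, ← R4_r, R4.B_inv]
    rw [e2]
    exact (by decide : ∀ a : ZMod 2, a + a = 0) _
  refine ⟨_, mul_mem hx' hd', y, hy, ?_⟩
  group

theorem pair_mem_left {x : G} (hx : x ∈ D.cJ u) : x ∈ D.pairGrp Du h hc hne hS hS' :=
  ⟨x, hx, 1, one_mem _, (mul_one x).symm⟩

theorem pair_mem_right {y : G} (hy : y ∈ Du.cJ z) : y ∈ D.pairGrp Du h hc hne hS hS' :=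
  ⟨1, one_mem _, y, hy, (one_mul y).symm⟩

theorem pair_swap {a : G} (ha : a ∈ D.pairGrp Du h hc hne hS hS') :
    a ∈ Du.pairGrp D h.symm hc.symm (Ne.symm hne) hS' hS := by
  obtain ⟨x, hx, y, hy, rfl⟩ := ha
  exact ⟨y, hy, x, hx, (D.cJ_commute Du h hc hne hS hS' hx hy).eq⟩

theorem pair_z {a : G} (ha : a ∈ D.pairGrp Du h hc hne hS hS') : Commute a z := by
  obtain ⟨x, hx, y, hy, rfl⟩ := ha
  exact (D.J_comm x (D.mem_cJ.1 hx).1).mul_left (Du.mem_cJ.1 hy).2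

theorem pair_sq {a : G} (ha : a ∈ D.pairGrp Du h hc hne hS hS') : a * a = 1 := by
  obtain ⟨x, hx, y, hy, rfl⟩ := ha
  have e := (D.cJ_commute Du h hc hne hS hS' hx hy).symm.eq
  calc x * y * (x * y) = x * (y * x) * y := by group
    _ = (x * x) * (y * y) := by rw [e]; group
    _ = 1 := by rw [D.cJ_S_sq h hc hS hx, Du.cJ_S_sq h.symm hc.symm hS' hy, mul_one]

/-- The centre and the member are conjugate under the normaliser. -/
theorem swap_conj : ∃ j ∈ D.J, ∃ j' ∈ Du.J, j * u * j⁻¹ = j' * z * j'⁻¹ := by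
  obtain ⟨i, hi, hiu, hi1, h0, hl⟩ := D.exists_i Du h hc hne hS hS'
  have key : ∀ {a b : G} (Da : Cd a R4) (Db : Cd b R4), Mem a b → Commute b a → b ≠ a → Da.ph b = s0 →
      i ∈ Da.J → i ∈ Db.J → LS (Da.pr i) → ∃ j ∈ Da.J, j * b * j⁻¹ = i * b * a := by
    intro a b Da Db hm hcb hnb hSb hia hib hla
    obtain ⟨-, j, hj, e | e⟩ := Da.lift_LS hm hcb hSb hia hla
    · exfalso
      have hx : j * b * j⁻¹ ∈ Db.J := by rw [Da.kk_conj hm hcb, ← e]; exact mul_mem hib Db.z_mem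
      have h2 := Db.mem_J (hm.symm.trans (hm.conj j)) hx
      rw [Da.kk_conj hm hcb, ← e] at h2
      exact hi1 (mul_eq_right.1 h2)
    · refine ⟨j, hj, ?_⟩
      rw [Da.kk_conj hm hcb, show Da.kk b j = i * a by rw [e, mul_assoc, Da.z_sq, mul_one], mul_assoc, ← hcb.eq,
        mul_assoc]
  obtain ⟨j, hj, e⟩ := key D Du h hc hne hS hi hiu hl
  obtain ⟨j', hj', e'⟩ := key Du D h.symm hc.symm (Ne.symm hne) hS' hiu hi
    ((Du.mem_cJ_S h.symm hc.symm hS').1 (Du.mem_cJ.2 ⟨hiu, D.J_comm i hi⟩)).2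
  exact ⟨j, hj, j', hj', by rw [e, e', mul_assoc, mul_assoc, hc.eq]⟩

end core

end Cd

end CfsgLib.U62Cent
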