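import Cfsg.Agent.U62Cent.Member

/-!
A member over the transvection of the base point.
-/

set_option autoImplicit false
set_option maxRecDepth 100000
set_option maxHeartbeats 1000000
set_option linter.style.haveILetI false
set_option linter.unusedSectionVars false

open scoped Matrix

namespace CfsgLib.U62Cent

open CfsgLib Subgroup
open CfsgLib.FiLarge (F4 om omp)
open CfsgLib.Unitary (suMat suMat_mul suMat_one su_ext su_preserves)

theorem smul_p0_facts : ∀ c : F4, qn4 (c • p0) = 0 ∧ h4 (c • (![1, 0, 0, 0] : V4)) p0 = c := by decide +kernel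

theorem perp_hyper0 : ∀ x : V4, h4 p0 x = 0 → h4 (wv 1 0) x = 0 → h4 (wv 0 1) x = 0 → ∃ c : F4, x = c • p0 := by
  decide +kernel

/-- The orthogonal of the hyperplane of the base point. -/
theorem perp_hyper {x : V4} (h : ∀ y, h4 y p0 = 0 → R4.B y x = 0) : ∃ c : F4, x = c • p0 := by
  have h' : ∀ y, h4 y p0 = 0 → h4 y x = 0 := fun y hy => by
    have h1 := h y hy
    have h2 := h (om • y) (by rw [h4_smul_left, hy, mul_zero])
    rw [R4_B] at h1 h2
    rw [h4_smul_left] at h2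
    exact f4_of_im _ _ (by rw [h1]; rfl) (by rw [h2, mul_zero]; rfl)
  exact perp_hyper0 x (h' _ p0_pt.2) (h' _ (h4_p0_wv 1 0).1) (h' _ (h4_p0_wv 0 1).1)

theorem card_hyper : Nat.card {w : V4 // h4 w p0 = 0} = 64 := by
  rw [Nat.card_eq_fintype_card]
  decide +kernel

theorem fix_unique {e e0 : U4} (hp : suMat e *ᵥ p0 = p0) (hp0 : suMat e0 *ᵥ p0 = p0) {c1 c2 : F4} (hc1 : c1 ≠ 0)
    (hc2 : c2 ≠ 0) (h1 : suMat e *ᵥ (c1 • wv 1 0) = suMat e0 *ᵥ (c1 • wv 1 0))
    (h2 : suMat e *ᵥ (c2 • wv 0 1) = suMat e0 *ᵥ (c2 • wv 0 1)) : e = e0 ∨ e = e0 * tvp p0 := by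
  have key : ∀ c : F4, c ≠ 0 → ∀ w : V4, suMat e *ᵥ (c • w) = suMat e0 *ᵥ (c • w) →
      suMat (e0⁻¹ * e) *ᵥ w = w := fun c hc w hw => by
    rw [Matrix.mulVec_smul, Matrix.mulVec_smul] at hw
    rw [suMat_mul, ← Matrix.mulVec_mulVec, smul_right_injective V4 hc hw, su_inv_apply]
  rcases fix_perp (g := e0⁻¹ * e)
      (by
        rw [suMat_mul, ← Matrix.mulVec_mulVec, hp]
        have h := su_inv_apply e0 p0
        rw [hp0] at h
        exact h)
      (key c1 hc1 _ h1) (key c2 hc2 _ h2) with e' | e'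
  · refine Or.inl ?_
    have h := mul_inv_cancel_left e0 e
    rw [e', mul_one] at h
    exact h.symm
  · refine Or.inr ?_
    have h := mul_inv_cancel_left e0 e
    rw [e'] at h
    exact h.symm

/-- A group moving two vectors into small sets is small. -/
theorem fix_pair_card (E : Subgroup U4) (hp : ∀ e ∈ E, suMat e *ᵥ p0 = p0) {c1 c2 : F4} (hc1 : c1 ≠ 0)
    (hc2 : c2 ≠ 0) (A1 A2 : Set V4) (n1 : A1.ncard ≤ 2) (n2 : A2.ncard ≤ 2)
    (m1 : ∀ e ∈ E, suMat e *ᵥ (c1 • wv 1 0) ∈ A1) (m2 : ∀ e ∈ E, suMat e *ᵥ (c2 • wv 0 1) ∈ A2) :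
    Nat.card E ≤ 8 := by
  classical
  haveI := Fintype.ofFinite E
  let f : E → V4 × V4 := fun e => (suMat (e : U4) *ᵥ (c1 • wv 1 0), suMat (e : U4) *ᵥ (c2 • wv 0 1))
  have hfib : ∀ b ∈ Finset.univ.image f, (Finset.univ.filter fun e => f e = b).card ≤ 2 := by
    intro b hb
    obtain ⟨e0, -, rfl⟩ := Finset.mem_image.1 hb
    refine (Finset.card_le_card_of_injOn (t := ({(e0 : U4), (e0 : U4) * tvp p0} : Finset U4))
      (Subtype.val : E → U4) ?_ (Subtype.val_injective.injOn)).trans Finset.card_le_two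
    intro e he
    obtain ⟨e1, e2⟩ := Prod.ext_iff.1 (Finset.mem_filter.1 he).2
    simp only [Finset.coe_insert, Finset.coe_singleton, Set.mem_insert_iff, Set.mem_singleton_iff]
    exact fix_unique (hp e e.2) (hp e0 e0.2) hc1 hc2 e1 e2
  have hle := Finset.card_le_mul_card_image (s := Finset.univ) (f := f) 2 hfib
  have himg : (Finset.univ.image f).card ≤ 4 := by
    rw [← Set.ncard_coe_finset]
    refine (Set.ncard_le_ncard (t := A1 ×ˢ A2) fun b hb => ?_).trans ?_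
    · obtain ⟨e, -, rfl⟩ := Finset.mem_image.1 (Finset.mem_coe.1 hb)
      exact ⟨m1 e e.2, m2 e e.2⟩
    · rw [Set.ncard_prod]
      exact Nat.mul_le_mul n1 n2
  rw [Finset.card_univ, ← Nat.card_eq_fintype_card] at hle
  omega

variable {G : Type*} [Group G] [Finite G] {z : G}

namespace Cd

theorem two_fibres (D : Cd z R4) (S : Set V4) : {x | x ∈ D.J ∧ D.pr x ∈ S}.ncard = 2 * S.ncard := by
  classical
  set c : V4 → G := fun w => (D.pr_surj w).choose with hc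
  have hcs : ∀ w, c w ∈ D.J ∧ D.pr (c w) = w := fun w => (D.pr_surj w).choose_spec
  have e : {x | x ∈ D.J ∧ D.pr x ∈ S} = c '' S ∪ (fun w => c w * z) '' S := by
    ext x
    constructor
    · rintro ⟨hx, hS⟩
      rcases D.eq_of_pr (hcs (D.pr x)).1 hx (hcs (D.pr x)).2 with e | e
      · exact Or.inl ⟨_, hS, e.symm⟩
      · exact Or.inr ⟨_, hS, e.symm⟩
    · rintro (⟨w, hw, rfl⟩ | ⟨w, hw, rfl⟩)
      · exact ⟨(hcs w).1, by rw [(hcs w).2]; exact hw⟩
      · exact ⟨mul_mem (hcs w).1 D.z_mem,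
          by rw [D.pr_mul _ (hcs w).1 _ D.z_mem, (hcs w).2, D.pr_z, add_zero]; exact hw⟩
  have i1 : Function.Injective c := fun v w h => by rw [← (hcs v).2, h, (hcs w).2]
  rw [e, Set.ncard_union_eq, Set.ncard_image_of_injective S i1,
    Set.ncard_image_of_injective S (f := fun w => c w * z) (fun v w h => i1 (mul_right_cancel h)), two_mul]
  rw [Set.disjoint_left]
  rintro _ ⟨v, -, rfl⟩ ⟨w, -, h⟩
  have h' := congrArg D.pr h
  simp only [D.pr_mul _ (hcs w).1 _ D.z_mem, (hcs w).2, (hcs v).2, D.pr_z, add_zero] at h'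
  subst h'
  exact D.z_ne (mul_eq_left.1 h)

variable (D : Cd z R4) {u : G} (h : Mem z u) (hc : Commute u z) (hT : D.ph u = tvp p0)

include h hc hT

theorem N_T (w : V4) : w + suMat (D.ph u) *ᵥ w = h4 w p0 • p0 := by
  rw [hT, tvp_apply p0_pt, ← add_assoc, v4_self, zero_add]

theorem qn4_N_T (w : V4) : qn4 (w + suMat (D.ph u) *ᵥ w) = 0 := by
  rw [D.N_T h hc hT]
  exact (smul_p0_facts _).1

theorem lift_p0 {m : G} (hm : m ∈ D.J) {c : F4} (e : D.pr m = c • p0) :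
    Commute m u ∧ ∃ j ∈ D.J, m = D.kk u j ∨ m = D.kk u j * z :=
  D.lift_image h hc (w := c • ![1, 0, 0, 0]) (D.qn4_N_T h hc hT _) hm
    (by rw [D.N_T h hc hT, (smul_p0_facts c).2, e])

/-- The action of the member on an element over the hyperplane. -/
theorem psi_cases {x : G} (hx : x ∈ D.J) (hF : h4 (D.pr x) p0 = 0) : x * u * x⁻¹ = u ∨ x * u * x⁻¹ = u * z := by
  have hk := D.kk_mem h hc hx
  have e : D.pr (D.kk u x) = 0 := by rw [D.pr_kk h hc hx, D.N_T h hc hT, hF, zero_smul]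
  rcases (D.pr_zero _ hk).1 e with e | e
  · exact Or.inl (by rw [D.kk_conj h hc, e, one_mul])
  · exact Or.inr (by rw [D.kk_conj h hc, e, hc.eq])

theorem cJ_perp {x : G} (hx : x ∈ D.cJ u) : h4 (D.pr x) p0 = 0 := by
  obtain ⟨hJ, hu⟩ := D.mem_cJ.1 hx
  have e := D.pr_kk h hc hJ
  rw [kk, hu.eq, mul_inv_cancel_right, D.mem_sq h, D.pr_one, D.N_T h hc hT] at e
  exact (smul_eq_zero.1 e.symm).resolve_right p0_pt.1

theorem cJ_large : 64 ≤ Nat.card (D.cJ u) := by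
  classical
  set F : Set G := {x | x ∈ D.J ∧ D.pr x ∈ {w : V4 | h4 w p0 = 0}}
  have hF : F.ncard = 128 := by
    rw [D.two_fibres, ← Nat.card_coe_set_eq]
    simp only [Set.coe_ofPred]
    rw [card_hyper]
  have key : ∀ x0 ∈ F, ¬ Commute x0 u → F ⊆ (D.cJ u : Set G) ∪ (fun x => x0 * x) '' (D.cJ u : Set G) := by
    intro x0 hx0 hn x hx
    by_cases hcx : Commute x u
    · exact Or.inl (D.mem_cJ.2 ⟨hx.1, hcx⟩)
    · refine Or.inr ⟨x0⁻¹ * x, D.mem_cJ.2 ⟨mul_mem (inv_mem hx0.1) hx.1, ?_⟩, by group⟩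
      have e0 : x0 * u * x0⁻¹ = u * z :=
        (D.psi_cases h hc hT hx0.1 hx0.2).resolve_left fun e => hn (mul_inv_eq_iff_eq_mul.1 e)
      have e1 : x * u * x⁻¹ = u * z :=
        (D.psi_cases h hc hT hx.1 hx.2).resolve_left fun e => hcx (mul_inv_eq_iff_eq_mul.1 e)
      refine mul_inv_eq_iff_eq_mul.1 ?_
      calc x0⁻¹ * x * u * (x0⁻¹ * x)⁻¹ = x0⁻¹ * (x * u * x⁻¹) * x0 := by group
        _ = x0⁻¹ * (x0 * u * x0⁻¹) * x0 := by rw [e1, e0]
        _ = u := by group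
  have hcard : (D.cJ u : Set G).ncard = Nat.card (D.cJ u) := (Nat.card_coe_set_eq _).symm
  by_cases hall : ∀ x ∈ F, Commute x u
  · have h1 := Set.ncard_le_ncard (show F ⊆ (D.cJ u : Set G) from fun x hx => D.mem_cJ.2 ⟨hx.1, hall x hx⟩)
    omega
  · push Not at hall
    obtain ⟨x0, hx0, hn⟩ := hall
    have h1 := (Set.ncard_le_ncard (key x0 hx0 hn)).trans (Set.ncard_union_le _ _)
    have h2 := Set.ncard_image_le (f := fun x => x0 * x) (s := (D.cJ u : Set G))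
    omega

/-- The radical moves the member by few elements. -/
theorem UU_orbit {g : G} (hg : g ∈ D.pre UU) : ∃ c : F4, u * (g * u * g⁻¹) ∈ D.J ∧ D.pr (u * (g * u * g⁻¹)) = c • p0 := by
  obtain ⟨hgz, hgU⟩ := hg
  have hgp : suMat (D.ph g) *ᵥ p0 = p0 := UU_fix hgU
  have hgu : Commute (g * u * g⁻¹) z := (hgz.mul_left hc).mul_left hgz.inv_left
  set x := u * (g * u * g⁻¹) with hx
  have hxJ : x ∈ D.J := by
    refine (D.ph_J _ (hc.mul_left hgu)).1 ?_
    rw [D.ph_mul _ _ hc hgu, D.ph_conj hgz hc, hT, tvp_conj p0_pt, hgp, tvp_sq p0_pt]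
  have hu' := D.mem_sq h
  have hg2 : g * u * g⁻¹ * (g * u * g⁻¹) = 1 := D.mem_sq (h.conj g)
  have hxinv : u * x * u = x⁻¹ := by
    refine eq_inv_of_mul_eq_one_left ?_
    rw [hx]
    calc u * (u * (g * u * g⁻¹)) * u * (u * (g * u * g⁻¹)) = (u * u) * (g * u * g⁻¹) * (u * u) * (g * u * g⁻¹) := by
          group
      _ = 1 := by rw [hu', one_mul, mul_one, hg2]
  have hxF : h4 (D.pr x) p0 = 0 := by
    have e := D.pr_conj_u h hc hxJ
    rw [hxinv, D.pr_inv hxJ] at e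
    have e' := D.N_T h hc hT (D.pr x)
    rw [← e, v4_self] at e'
    exact (smul_eq_zero.1 e'.symm).resolve_right p0_pt.1
  obtain ⟨c, hcx⟩ := perp_hyper (x := D.pr x) fun w hw => by
    obtain ⟨y, hy, rfl⟩ := D.pr_surj w
    refine (D.comm_iff hy hxJ).1 ?_
    obtain ⟨l, hl⟩ := UU_perp hgU hw
    set m := y⁻¹ * (g * y * g⁻¹) with hm
    have hmJ : m ∈ D.J := mul_mem (inv_mem hy) (D.conj_mem hgz hy)
    have hmp : D.pr m = l • p0 := by
      rw [D.pr_mul _ (inv_mem hy) _ (D.conj_mem hgz hy), D.pr_inv hy, D.pr_act g hgz y hy, R4_r, hl, ← add_assoc,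
        v4_self, zero_add]
    have hmu := (D.lift_p0 h hc hT hmJ hmp).1
    have hmx : Commute m x := (D.comm_iff hmJ hxJ).2 (by
      rw [hmp, R4_B, h4_smul_left, h4_zero_iff.1 hxF, mul_zero]; rfl)
    have hux : g * u * g⁻¹ = u * x := by rw [hx, ← mul_assoc, hu', one_mul]
    rcases D.psi_cases h hc hT hy hw with e | e
    · have e1 : g * (y * u * y⁻¹) * g⁻¹ = y * u * y⁻¹ * (y * x * y⁻¹) := by
        calc g * (y * u * y⁻¹) * g⁻¹ = y * m * (g * u * g⁻¹) * (y * m)⁻¹ := by rw [hm]; group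
          _ = y * (m * (u * x)) * m⁻¹ * y⁻¹ := by rw [hux]; group
          _ = y * ((u * x) * m) * m⁻¹ * y⁻¹ := by rw [(hmu.mul_right hmx).eq]
          _ = _ := by group
      rw [e, hux] at e1
      exact mul_inv_eq_iff_eq_mul.1 (mul_left_cancel e1.symm)
    · have e1 : g * (y * u * y⁻¹) * g⁻¹ = y * u * y⁻¹ * (y * x * y⁻¹) := by
        calc g * (y * u * y⁻¹) * g⁻¹ = y * m * (g * u * g⁻¹) * (y * m)⁻¹ := by rw [hm]; group
          _ = y * (m * (u * x)) * m⁻¹ * y⁻¹ := by rw [hux]; group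
          _ = y * ((u * x) * m) * m⁻¹ * y⁻¹ := by rw [(hmu.mul_right hmx).eq]
          _ = _ := by group
      rw [e, show g * (u * z) * g⁻¹ = g * u * g⁻¹ * (g * z * g⁻¹) by group, hgz.eq, mul_inv_cancel_right,
        hux, mul_assoc u x z, (D.J_comm x hxJ).eq, ← mul_assoc] at e1
      exact mul_inv_eq_iff_eq_mul.1 (mul_left_cancel e1.symm)
  exact ⟨c, hxJ, hcx⟩

/-- A large two-group centralises the pair. -/
theorem two_large : ∃ P : Subgroup G, IsPGroup 2 P ∧ (∀ x ∈ P, Commute x z ∧ Commute x u) ∧ 2 ^ 11 ≤ Nat.card P := by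
  classical
  set Q := D.pre UU with hQ
  have hQc : Nat.card Q = 2 ^ 14 := by rw [hQ, D.card_pre, card_UU]; norm_num
  set K := (centralizer ({u} : Set G)).subgroupOf Q
  have hS : (D.pr ⁻¹' (Set.range fun c : F4 => c • p0) ∩ (D.J : Set G)).ncard ≤ 8 := by
    rw [show D.pr ⁻¹' (Set.range fun c : F4 => c • p0) ∩ (D.J : Set G) =
      {x | x ∈ D.J ∧ D.pr x ∈ Set.range fun c : F4 => c • p0} from Set.ext fun x => and_comm, D.two_fibres]
    have := Finite.card_range_le (fun c : F4 => c • p0)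
    rw [Nat.card_coe_set_eq, Nat.card_eq_fintype_card, show Fintype.card F4 = 4 from rfl] at this
    omega
  let f : Q ⧸ K → (D.pr ⁻¹' (Set.range fun c : F4 => c • p0) ∩ (D.J : Set G) : Set G) :=
    Quotient.lift (fun g => ⟨u * ((g : G) * u * (g : G)⁻¹), by
      obtain ⟨c, h1, h2⟩ := D.UU_orbit h hc hT g.2
      exact ⟨⟨c, h2.symm⟩, h1⟩⟩) fun a b hab => Subtype.ext (by
        have h1 : Commute ((a : G)⁻¹ * b) u :=
          mem_centralizer_singleton_iff.1 (mem_subgroupOf.1 (QuotientGroup.leftRel_apply.1 hab))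
        show u * ((a : G) * u * (a : G)⁻¹) = u * ((b : G) * u * (b : G)⁻¹)
        congr 1
        calc (a : G) * u * (a : G)⁻¹ = a * (((a : G)⁻¹ * b) * u * ((a : G)⁻¹ * b)⁻¹) * (a : G)⁻¹ := by
              rw [h1.eq, mul_inv_cancel_right]
          _ = _ := by group)
  have hf : Function.Injective f := by
    intro a b
    obtain ⟨a, rfl⟩ := QuotientGroup.mk_surjective a
    obtain ⟨b, rfl⟩ := QuotientGroup.mk_surjective b
    intro e
    refine QuotientGroup.eq.2 (mem_subgroupOf.2 (mem_centralizer_singleton_iff.2 ?_))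
    have e' : (a : G) * u * (a : G)⁻¹ = (b : G) * u * (b : G)⁻¹ := mul_left_cancel (congrArg Subtype.val e)
    show (a : G)⁻¹ * b * u = u * ((a : G)⁻¹ * b)
    calc (a : G)⁻¹ * b * u = (a : G)⁻¹ * ((b : G) * u * (b : G)⁻¹) * b := by group
      _ = u * ((a : G)⁻¹ * b) := by rw [← e']; group
  have hidx : Nat.card (Q ⧸ K) ≤ 8 := (Nat.card_le_card_of_injective f hf).trans (by rwa [Nat.card_coe_set_eq])
  have hK := Subgroup.card_eq_card_quotient_mul_card_subgroup K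
  haveI : Fact (Nat.Prime 2) := ⟨Nat.prime_two⟩
  refine ⟨K.map Q.subtype, ((IsPGroup.of_card hQc).to_subgroup K).map _, ?_, ?_⟩
  · rintro _ ⟨x, hx, rfl⟩
    exact ⟨x.2.1, mem_centralizer_singleton_iff.1 (mem_subgroupOf.1 hx)⟩
  · rw [Subgroup.card_map_of_injective Q.subtype_injective]
    have := Nat.mul_le_mul_right (Nat.card K) hidx
    omega

/-- An element over the hyperplane commutes with the member. -/
theorem all_comm (hne : u ≠ z) (Du : Cd u R4) (h64 : 64 ≤ Nat.card (Du.cJ z)) {y : G} (hy : y ∈ D.J)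
    (hyF : h4 (D.pr y) p0 = 0) : Commute y u := by
  classical
  by_contra hn
  have hy0 : y * u * y⁻¹ = u * z :=
    (D.psi_cases h hc hT hy hyF).resolve_left fun e => hn (mul_inv_eq_iff_eq_mul.1 e)
  have huz : Mem z (u * z) := hy0 ▸ h.conj y
  -- the common part meets the line trivially
  have hI0 : ∀ i, i ∈ D.J → i ∈ Du.J → ∀ c : F4, D.pr i = c • p0 → i = 1 := by
    intro i hi hiu c e
    by_cases h0 : D.pr i = 0
    · exact ((D.pr_zero i hi).1 h0).resolve_right fun e' => D.z_notMem Du h hne (e' ▸ hiu)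
    · exact absurd huz (D.uz_not h hc Du hi hiu h0 (w := c • ![1, 0, 0, 0]) (D.qn4_N_T h hc hT _)
        (by rw [D.N_T h hc hT, (smul_p0_facts c).2, e]))
  have hI1 : ∀ i, i ∈ D.J → i ∈ Du.J → ∀ x ∈ D.cJ u, Commute i x := by
    intro i hi hiu x hx
    obtain ⟨hxJ, hxu⟩ := D.mem_cJ.1 hx
    rcases D.comm_cases hi hxJ with e | e
    · exact mul_inv_eq_iff_eq_mul.1 (mul_inv_eq_one.1 e)
    · refine absurd ?_ (D.z_notMem Du h hne)
      rw [← e, show i * x * i⁻¹ * x⁻¹ = i * (x * i⁻¹ * x⁻¹) by group]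
      exact mul_mem hiu (Du.conj_mem hxu (inv_mem hiu))
  have hI2 : ∀ i, i ∈ D.J → i ∈ Du.J → i ≠ 1 → R4.B (D.pr i) (D.pr y) ≠ 0 := by
    intro i hi hiu hi1 e0
    obtain ⟨c, hc'⟩ := perp_hyper (x := D.pr i) fun w hw => by
      obtain ⟨x, hx, rfl⟩ := D.pr_surj w
      rw [R4.B_comm]
      by_cases hxu : Commute x u
      · exact (D.comm_iff hi hx).1 (hI1 i hi hiu x (D.mem_cJ.2 ⟨hx, hxu⟩))
      · have e1 : x * u * x⁻¹ = u * z :=
          (D.psi_cases h hc hT hx hw).resolve_left fun e => hxu (mul_inv_eq_iff_eq_mul.1 e)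
        have hm : Commute (y⁻¹ * x) u := mul_inv_eq_iff_eq_mul.1 (by
          calc y⁻¹ * x * u * (y⁻¹ * x)⁻¹ = y⁻¹ * (x * u * x⁻¹) * y := by group
            _ = y⁻¹ * (y * u * y⁻¹) * y := by rw [e1, hy0]
            _ = u := by group)
        have := (D.comm_iff hi (mul_mem (inv_mem hy) hx)).1
          (hI1 i hi hiu _ (D.mem_cJ.2 ⟨mul_mem (inv_mem hy) hx, hm⟩))
        rwa [D.pr_mul _ (inv_mem hy) _ hx, D.pr_inv hy, R4.B_add_right, e0, zero_add] at this
    exact hi1 (hI0 i hi hiu c hc')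
  have hI3 : ∀ i i', i ∈ D.J → i ∈ Du.J → i' ∈ D.J → i' ∈ Du.J → i ≠ 1 → i' ≠ 1 → i = i' := by
    intro i i' hi hiu hi' hiu' h1 h1'
    by_contra hne'
    refine hI2 _ (mul_mem hi (inv_mem hi')) (mul_mem hiu (inv_mem hiu')) (fun e => hne' (mul_inv_eq_one.1 e)) ?_
    rw [D.pr_mul _ hi _ (inv_mem hi'), D.pr_inv hi', R4.B_add_left, zmod2_ne _ (hI2 i hi hiu h1),
      zmod2_ne _ (hI2 i' hi' hiu' h1')]
    decide
  -- the image of the other radical
  set E := (D.other Du).range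
  have hker : Nat.card (D.other Du).ker ≤ 2 := by
    by_cases hex : ∃ a : (D.other Du).ker, a ≠ 1
    · obtain ⟨a, ha⟩ := hex
      have hset : (Set.univ : Set (D.other Du).ker) ⊆ {1, a} := fun b _ => by
        by_cases hb : b = 1
        · exact Or.inl hb
        · exact Or.inr (Subtype.ext (Subtype.ext (hI3 _ _ ((D.mem_other_ker Du).1 b.2) (Du.mem_cJ.1 b.1.2).1
            ((D.mem_other_ker Du).1 a.2) (Du.mem_cJ.1 a.1.2).1
            (fun e => hb (Subtype.ext (Subtype.ext e))) fun e => ha (Subtype.ext (Subtype.ext e)))))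
      have := (Set.ncard_le_ncard hset).trans ((Set.ncard_insert_le _ _).trans
        (Nat.succ_le_succ (Set.ncard_singleton _).le))
      rwa [Set.ncard_univ] at this
    · push Not at hex
      haveI : Subsingleton (D.other Du).ker := ⟨fun a b => (hex a).trans (hex b).symm⟩
      rw [Nat.card_of_subsingleton (1 : (D.other Du).ker)]
      norm_num
  have hE : 32 ≤ Nat.card E := by
    have h1 := Subgroup.card_eq_card_quotient_mul_card_subgroup (D.other Du).ker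
    rw [Nat.card_congr (QuotientGroup.quotientKerEquivRange (D.other Du)).toEquiv] at h1
    have h2 := Nat.mul_le_mul_left (Nat.card (D.other Du).range) hker
    have h3 : 32 ≤ Nat.card (D.other Du).range := by omega
    exact h3
  -- it moves the hyperplane by few vectors
  have hmove : ∀ e ∈ E, ∀ x ∈ D.cJ u, ∃ i, i ∈ D.J ∧ i ∈ Du.J ∧ suMat e *ᵥ D.pr x = D.pr x + D.pr i := by
    rintro _ ⟨⟨a, ha⟩, rfl⟩ x hx
    obtain ⟨haJ, haz⟩ := Du.mem_cJ.1 ha
    obtain ⟨hxJ, hxu⟩ := D.mem_cJ.1 hx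
    refine ⟨a * x * a⁻¹ * x⁻¹, mul_mem (D.conj_mem haz hxJ) (inv_mem hxJ), ?_, ?_⟩
    · rw [show a * x * a⁻¹ * x⁻¹ = a * (x * a⁻¹ * x⁻¹) by group]
      exact mul_mem haJ (Du.conj_mem hxu (inv_mem haJ))
    · rw [D.pr_mul _ (D.conj_mem haz hxJ) _ (inv_mem hxJ), D.pr_act a haz x hxJ, D.pr_inv hxJ, R4_r,
        add_left_comm, v4_self, add_zero]
      rfl
  have hp : ∀ e ∈ E, suMat e *ᵥ p0 = p0 := by
    intro e he
    obtain ⟨m, hm, hmp⟩ := D.pr_surj p0
    have hmu := (D.lift_p0 h hc hT (c := 1) hm (by rw [one_smul, hmp])).1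
    obtain ⟨i, hi, hiu, e1⟩ := hmove e he m (D.mem_cJ.2 ⟨hm, hmu⟩)
    rw [hmp] at e1
    obtain ⟨⟨a, ha⟩, rfl⟩ := he
    obtain ⟨haJ, haz⟩ := Du.mem_cJ.1 ha
    have e2 : D.ph a * tvp p0 * (D.ph a)⁻¹ = tvp p0 := by
      rw [← hT, D.ph_commute haz hc (Du.J_comm a haJ), mul_inv_cancel_right]
    rw [tvp_conj p0_pt] at e2
    obtain ⟨c, -, hc2⟩ := tvp_eq_smul p0_pt (pt_map p0_pt _) e2.symm
    change suMat (D.ph a) *ᵥ p0 = c • p0 at hc2
    change suMat (D.ph a) *ᵥ p0 = p0 + D.pr i at e1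
    rw [hc2] at e1
    have : D.pr i = (c + 1) • p0 := by
      rw [add_smul, one_smul, e1, add_comm p0, add_assoc, v4_self, add_zero]
    show suMat (D.ph a) *ᵥ p0 = p0
    rw [hc2, e1, hI0 i hi hiu _ this, D.pr_one, add_zero]
  have hex : ∀ w, h4 w p0 = 0 → ∃ c : F4, c ≠ 0 ∧ ∃ x ∈ D.cJ u, D.pr x = c • w := by
    intro w hw
    have hw' : h4 (om • w) p0 = 0 := by rw [h4_smul_left, hw, mul_zero]
    obtain ⟨x, hx, ex⟩ := D.pr_surj w
    obtain ⟨x', hx', ex'⟩ := D.pr_surj (om • w)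
    by_cases c1 : Commute x u
    · exact ⟨1, one_ne_zero, x, D.mem_cJ.2 ⟨hx, c1⟩, by rw [ex, one_smul]⟩
    by_cases c2 : Commute x' u
    · exact ⟨om, by decide +kernel, x', D.mem_cJ.2 ⟨hx', c2⟩, ex'⟩
    refine ⟨1 + om, by decide +kernel, x⁻¹ * x', D.mem_cJ.2 ⟨mul_mem (inv_mem hx) hx', mul_inv_eq_iff_eq_mul.1 ?_⟩,
      by rw [D.pr_mul _ (inv_mem hx) _ hx', D.pr_inv hx, ex, ex', add_smul, one_smul]⟩
    have e0 : x * u * x⁻¹ = u * z :=
      (D.psi_cases h hc hT hx (by rw [ex]; exact hw)).resolve_left fun e => c1 (mul_inv_eq_iff_eq_mul.1 e)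
    have e1 : x' * u * x'⁻¹ = u * z :=
      (D.psi_cases h hc hT hx' (by rw [ex']; exact hw')).resolve_left fun e => c2 (mul_inv_eq_iff_eq_mul.1 e)
    calc x⁻¹ * x' * u * (x⁻¹ * x')⁻¹ = x⁻¹ * (x' * u * x'⁻¹) * x := by group
      _ = x⁻¹ * (x * u * x⁻¹) * x := by rw [e1, e0]
      _ = u := by group
  obtain ⟨c1, hc1, x1, hx1, ex1⟩ := hex (wv 1 0) (h4_p0_wv 1 0).1
  obtain ⟨c2, hc2, x2, hx2, ex2⟩ := hex (wv 0 1) (h4_p0_wv 0 1).1
  let I : Set V4 := {w | ∃ i, i ∈ D.J ∧ i ∈ Du.J ∧ D.pr i = w}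
  have hI : I.ncard ≤ 2 := by
    by_cases hex' : ∃ i, i ∈ D.J ∧ i ∈ Du.J ∧ i ≠ 1
    · obtain ⟨i, hi, hiu, hi1⟩ := hex'
      refine (Set.ncard_le_ncard (t := {0, D.pr i}) ?_).trans
        ((Set.ncard_insert_le _ _).trans (Nat.succ_le_succ (Set.ncard_singleton _).le))
      rintro _ ⟨i', hi', hiu', rfl⟩
      by_cases h1 : i' = 1
      · exact Or.inl (by rw [h1, D.pr_one])
      · exact Or.inr (by rw [hI3 i' i hi' hiu' hi hiu h1 hi1]; rfl)
    · push Not at hex'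
      refine (Set.ncard_le_ncard (t := {0}) ?_).trans (by rw [Set.ncard_singleton]; norm_num)
      rintro _ ⟨i', hi', hiu', rfl⟩
      rw [hex' i' hi' hiu', D.pr_one]
      rfl
  have hbound := fix_pair_card E hp hc1 hc2 (((fun w => D.pr x1 + w) '' I)) (((fun w => D.pr x2 + w) '' I))
    ((Set.ncard_image_le).trans hI) ((Set.ncard_image_le).trans hI)
    (fun e he => by
      obtain ⟨i, hi, hiu, e1⟩ := hmove e he x1 hx1
      exact ⟨_, ⟨i, hi, hiu, rfl⟩, by rw [← ex1]; exact e1.symm⟩)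
    (fun e he => by
      obtain ⟨i, hi, hiu, e1⟩ := hmove e he x2 hx2
      exact ⟨_, ⟨i, hi, hiu, rfl⟩, by rw [← ex2]; exact e1.symm⟩)
  exact absurd hE (by omega)

/-- The member times the centre is no member. -/
theorem uz_notMem (hne : u ≠ z) (Du : Cd u R4) (h64 : 64 ≤ Nat.card (Du.cJ z)) : ¬ Mem z (u * z) := by
  classical
  have hall : ∀ y ∈ D.J, h4 (D.pr y) p0 = 0 → Commute y u := fun y hy hyF =>
    D.all_comm h hc hT hne Du h64 hy hyF
  have hcard : 128 ≤ Nat.card (D.cJ u) := by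
    have e : {x | x ∈ D.J ∧ D.pr x ∈ {w : V4 | h4 w p0 = 0}} ⊆ (D.cJ u : Set G) :=
      fun x hx => D.mem_cJ.2 ⟨hx.1, hall x hx.1 hx.2⟩
    have h1 := Set.ncard_le_ncard e
    rw [D.two_fibres, ← Nat.card_coe_set_eq, ← Nat.card_coe_set_eq] at h1
    simp only [Set.coe_ofPred, SetLike.coe_sort_coe] at h1
    rw [card_hyper] at h1
    omega
  by_cases hi : ∃ i, i ∈ D.J ∧ i ∈ Du.J ∧ i ≠ 1
  · obtain ⟨i, hi, hiu, hi1⟩ := hi
    obtain ⟨c, hc'⟩ := perp_hyper (x := D.pr i) fun w hw => by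
      obtain ⟨x, hx, rfl⟩ := D.pr_surj w
      rw [R4.B_comm]
      refine (D.comm_iff hi hx).1 ?_
      rcases D.comm_cases hi hx with e | e
      · exact mul_inv_eq_iff_eq_mul.1 (mul_inv_eq_one.1 e)
      · refine absurd ?_ (D.z_notMem Du h hne)
        rw [← e, show i * x * i⁻¹ * x⁻¹ = i * (x * i⁻¹ * x⁻¹) by group]
        exact mul_mem hiu (Du.conj_mem (hall x hx hw) (inv_mem hiu))
    refine D.uz_not h hc Du hi hiu ?_ (w := c • ![1, 0, 0, 0]) (D.qn4_N_T h hc hT _)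
      (by rw [D.N_T h hc hT, (smul_p0_facts c).2, hc'])
    intro e0
    exact hi1 (((D.pr_zero i hi).1 e0).resolve_right fun e' => D.z_notMem Du h hne (e' ▸ hiu))
  · push Not at hi
    exfalso
    have hinj : Function.Injective (Du.other D) := by
      rw [← MonoidHom.ker_eq_bot_iff, Subgroup.eq_bot_iff_forall]
      intro a ha
      exact Subtype.ext (hi _ (D.mem_cJ.1 a.2).1 ((Du.mem_other_ker D).1 ha))
    have h1 : Nat.card (Du.other D).range = Nat.card (D.cJ u) :=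
      (Nat.card_congr (MonoidHom.ofInjective hinj).toEquiv).symm
    have h2 : Nat.card (D.cJ u) ∣ 25920 := h1 ▸ card_SU4 ▸ Subgroup.card_subgroup_dvd_card _
    have h3 : Nat.card (D.cJ u) ∣ 512 := D.card_J ▸ Subgroup.card_dvd_of_le inf_le_left
    have h4 := Nat.le_of_dvd (by norm_num) ((Nat.dvd_gcd h2 h3).trans (show Nat.gcd 25920 512 ∣ 64 by norm_num))
    omega

/-- The members over one image are conjugate under the radical. -/
theorem class_eq (hne : u ≠ z) (Du : Cd u R4) (h64 : 64 ≤ Nat.card (Du.cJ z)) {u' : G} (h' : Mem z u')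
    (hc' : Commute u' z) (hT' : D.ph u' = tvp p0) (Du' : Cd u' R4) (h64' : 64 ≤ Nat.card (Du'.cJ z))
    (hne' : u' ≠ z) : ∃ j ∈ D.J, j * u * j⁻¹ = u' := by
  have hu := D.mem_sq h
  have hxz : Commute (u' * u) z := hc'.mul_left hc
  have hxJ : u' * u ∈ D.J := (D.ph_J _ hxz).1 (by rw [D.ph_mul _ _ hc' hc, hT', hT, tvp_sq p0_pt])
  obtain ⟨c, hcx⟩ := perp_hyper (x := D.pr (u' * u)) fun w hw => by
    obtain ⟨y, hy, rfl⟩ := D.pr_surj w
    refine (D.comm_iff hy hxJ).1 ?_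
    exact (D.all_comm h' hc' hT' hne' Du' h64' hy hw).mul_right (D.all_comm h hc hT hne Du h64 hy hw)
  obtain ⟨-, j, hj, e | e⟩ := D.lift_p0 h hc hT hxJ hcx
  · exact ⟨j, hj, by rw [D.kk_conj h hc, ← e, mul_assoc, hu, mul_one]⟩
  · exfalso
    refine D.uz_notMem h hc hT hne Du h64 ?_
    have e' : j * u * j⁻¹ = u' * z := by
      rw [D.kk_conj h hc, show D.kk u j = u' * u * z by rw [e, mul_assoc, D.z_sq, mul_one],
        mul_assoc (u' * u) z u, ← hc.eq, ← mul_assoc, mul_assoc u' u u, hu, mul_one]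
    have hjz : j⁻¹ * z * j = z := by rw [(D.J_comm j hj).inv_left.eq, inv_mul_cancel_right]
    have e2 : j⁻¹ * u' * j⁻¹⁻¹ = u * z := by
      calc j⁻¹ * u' * j⁻¹⁻¹ = j⁻¹ * (u' * z) * j * (j⁻¹ * z * j)⁻¹ := by group
        _ = u * z := by rw [hjz, D.z_inv, ← e']; group
    exact e2 ▸ h'.conj j⁻¹

end Cd

end CfsgLib.U62Cent
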