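import Cfsg.Agent.FiLarge.Field
import Cfsg.Agent.Unitary.InvolClass
import Cfsg.Agent.Unitary.Generated
import Cfsg.Agent.Unitary.Simple
import Cfsg.Agent.Classical.FortyPoints.Iso

/-!
The unitary group of dimension four over four elements: transvections, generation and involutions.
-/

set_option autoImplicit false
set_option maxRecDepth 100000
set_option linter.style.haveILetI false
set_option linter.unusedSectionVars false
set_option maxHeartbeats 1000000

open scoped Matrix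

namespace CfsgLib.U62Cent

open CfsgLib CfsgLib.Unitary CfsgLib.Unitary.Invol Matrix
open CfsgLib.FiLarge (F4 om omp omp_add omp_ne omp_inj exists_omp omp_zero)

/-- The four-dimensional space. -/
abbrev V4 : Type := Fin 4 → F4

theorem F4_natcard : Nat.card F4 = 2 ^ 2 := by rw [Nat.card_eq_fintype_card]; rfl


theorem add_self_F4 : ∀ x : F4, x + x = 0 := by decide +kernel

theorem eq_of_add_F4 : ∀ x y : F4, x + y = 0 → x = y := by decide +kernel

/-- The determinant in four variables. -/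
def det4 (M : Matrix (Fin 4) (Fin 4) F4) : F4 :=
  M 0 0 * (M 1 1 * (M 2 2 * M 3 3 - M 2 3 * M 3 2) - M 1 2 * (M 2 1 * M 3 3 - M 2 3 * M 3 1) +
      M 1 3 * (M 2 1 * M 3 2 - M 2 2 * M 3 1)) -
    M 0 1 * (M 1 0 * (M 2 2 * M 3 3 - M 2 3 * M 3 2) - M 1 2 * (M 2 0 * M 3 3 - M 2 3 * M 3 0) +
      M 1 3 * (M 2 0 * M 3 2 - M 2 2 * M 3 0)) +
    M 0 2 * (M 1 0 * (M 2 1 * M 3 3 - M 2 3 * M 3 1) - M 1 1 * (M 2 0 * M 3 3 - M 2 3 * M 3 0) +
      M 1 3 * (M 2 0 * M 3 1 - M 2 1 * M 3 0)) -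
    M 0 3 * (M 1 0 * (M 2 1 * M 3 2 - M 2 2 * M 3 1) - M 1 1 * (M 2 0 * M 3 2 - M 2 2 * M 3 0) +
      M 1 2 * (M 2 0 * M 3 1 - M 2 1 * M 3 0))

theorem det4_eq (M : Matrix (Fin 4) (Fin 4) F4) : M.det = det4 M := by
  rw [Matrix.det_succ_row_zero]
  simp [Fin.sum_univ_succ, Matrix.det_fin_three, det4, Fin.succAbove]
  ring

/-- The condition on a matrix to lie in the special unitary group. -/
def IsU (M : Matrix (Fin 4) (Fin 4) F4) : Prop :=
  det4 M = 1 ∧ ∀ k m : Fin 4, M 0 k * M 0 m ^ 2 + M 1 k * M 1 m ^ 2 + M 2 k * M 2 m ^ 2 + M 3 k * M 3 m ^ 2 =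
    if k = m then 1 else 0

instance (M : Matrix (Fin 4) (Fin 4) F4) : Decidable (IsU M) := by unfold IsU; infer_instance

theorem sq_add4 : ∀ x y : F4, (x + y) ^ 2 = x ^ 2 + y ^ 2 := by decide +kernel

theorem mem_SU4 {M : Matrix (Fin 4) (Fin 4) F4} (h : IsU M) :
    (⟨M, (det4_eq M).trans h.1⟩ : Matrix.SpecialLinearGroup (Fin 4) F4) ∈ Cfsg.SU 4 F4 2 := by
  intro u v
  show Cfsg.hermForm 4 F4 2 (M *ᵥ u) (M *ᵥ v) = Cfsg.hermForm 4 F4 2 u v
  have h00 := h.2 0 0
  have h01 := h.2 0 1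
  have h02 := h.2 0 2
  have h03 := h.2 0 3
  have h10 := h.2 1 0
  have h11 := h.2 1 1
  have h12 := h.2 1 2
  have h13 := h.2 1 3
  have h20 := h.2 2 0
  have h21 := h.2 2 1
  have h22 := h.2 2 2
  have h23 := h.2 2 3
  have h30 := h.2 3 0
  have h31 := h.2 3 1
  have h32 := h.2 3 2
  have h33 := h.2 3 3
  simp only [Fin.reduceEq, if_true, if_false] at h00 h01 h02 h03 h10 h11 h12 h13 h20 h21 h22 h23 h30 h31 h32 h33
  simp only [Cfsg.hermForm, Matrix.mulVec, dotProduct, Fin.sum_univ_four, sq_add4, mul_pow]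
  linear_combination u 0 * v 0 ^ 2 * h00 + u 0 * v 1 ^ 2 * h01 + u 0 * v 2 ^ 2 * h02 + u 0 * v 3 ^ 2 * h03 +
    u 1 * v 0 ^ 2 * h10 + u 1 * v 1 ^ 2 * h11 + u 1 * v 2 ^ 2 * h12 + u 1 * v 3 ^ 2 * h13 +
    u 2 * v 0 ^ 2 * h20 + u 2 * v 1 ^ 2 * h21 + u 2 * v 2 ^ 2 * h22 + u 2 * v 3 ^ 2 * h23 +
    u 3 * v 0 ^ 2 * h30 + u 3 * v 1 ^ 2 * h31 + u 3 * v 2 ^ 2 * h32 + u 3 * v 3 ^ 2 * h33

/-- An element of the special unitary group from a matrix. -/
def suElt (M : Matrix (Fin 4) (Fin 4) F4) (h : IsU M) : Cfsg.SU 4 F4 2 :=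
  ⟨⟨M, (det4_eq M).trans h.1⟩, mem_SU4 h⟩


/-- The hermitian form. -/
def h4 (u v : V4) : F4 := u 0 * (v 0 * v 0) + u 1 * (v 1 * v 1) + u 2 * (v 2 * v 2) + u 3 * (v 3 * v 3)

theorem h4_eq (u v : V4) : Cfsg.hermForm 4 F4 2 u v = h4 u v := by
  simp [Cfsg.hermForm, h4, Fin.sum_univ_four, pow_two]

/-- An isotropic point. -/
def IsPt4 (p : V4) : Prop := p ≠ 0 ∧ h4 p p = 0

instance (p : V4) : Decidable (IsPt4 p) := by unfold IsPt4; infer_instance

instance f4CharTwo : CharP F4 2 := CharTwo.of_one_ne_zero_of_two_eq_zero one_ne_zero (by decide +kernel)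

theorem f4_inv : ∀ c : F4, c ≠ 0 → c * c * c = 1 := by decide +kernel

theorem f4_sq_add' : ∀ x y : F4, (x + y) * (x + y) = x * x + y * y := by decide +kernel

theorem v4_self (x : V4) : x + x = 0 := funext fun i => add_self_F4 _

theorem h4_add_left (u v w : V4) : h4 (u + v) w = h4 u w + h4 v w := by simp only [h4, Pi.add_apply]; ring

theorem h4_smul_left (c : F4) (u w : V4) : h4 (c • u) w = c * h4 u w := by
  simp only [h4, Pi.smul_apply, smul_eq_mul]; ring

theorem h4_smul_right (c : F4) (u w : V4) : h4 u (c • w) = c * c * h4 u w := by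
  simp only [h4, Pi.smul_apply, smul_eq_mul]; ring

theorem h4_add_right (u v w : V4) : h4 u (v + w) = h4 u v + h4 u w := by
  simp only [h4, Pi.add_apply, f4_sq_add']; ring

theorem h4_swap (u v : V4) : h4 v u = h4 u v * h4 u v := by
  have key : ∀ a b : F4, b * (a * a) = a * (b * b) * (a * (b * b)) := by decide +kernel
  simp only [h4, f4_sq_add']
  rw [← key, ← key, ← key, ← key]

theorem h4_zero_iff {u v : V4} : h4 u v = 0 ↔ h4 v u = 0 := by
  rw [h4_swap u v, mul_self_eq_zero]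

theorem exists_h4_ne {p : V4} (hp : p ≠ 0) : ∃ x, h4 x p ≠ 0 := by
  obtain ⟨i, hi⟩ := Function.ne_iff.1 hp
  refine ⟨Pi.single i 1, ?_⟩
  have hi' : p i ≠ 0 := hi
  fin_cases i <;> simp [h4] <;> simpa using hi'

/-- The matrix of a transvection. -/
def tmat (p : V4) : Matrix (Fin 4) (Fin 4) F4 :=
  Matrix.of fun i j => (if i = j then 1 else 0) + p i * (p j * p j)

theorem tmat_isU : ∀ p : V4, IsPt4 p → IsU (tmat p) := by decide +kernel

/-- The transvection at a point. -/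
noncomputable def tvp (p : V4) : Cfsg.SU 4 F4 2 := if h : IsPt4 p then suElt (tmat p) (tmat_isU p h) else 1

theorem tvp_mat {p : V4} (hp : IsPt4 p) : suMat (tvp p) = tmat p := by
  rw [tvp, dif_pos hp]; rfl

theorem tvp_apply {p : V4} (hp : IsPt4 p) (x : V4) : suMat (tvp p) *ᵥ x = x + h4 x p • p := by
  rw [tvp_mat hp]
  funext i
  simp only [Matrix.mulVec, dotProduct, tmat, Matrix.of_apply, Fin.sum_univ_four, Pi.add_apply, Pi.smul_apply,
    smul_eq_mul, h4]
  fin_cases i <;> simp <;> ring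

theorem tvp_self {p : V4} (hp : IsPt4 p) : suMat (tvp p) *ᵥ p = p := by
  rw [tvp_apply hp, hp.2, zero_smul, add_zero]

theorem tvp_sq {p : V4} (hp : IsPt4 p) : tvp p * tvp p = 1 := su_ext fun x => by
  rw [suMat_mul, ← Matrix.mulVec_mulVec, tvp_apply hp x, Matrix.mulVec_add, Matrix.mulVec_smul, tvp_self hp,
    tvp_apply hp x, suMat_one, Matrix.one_mulVec, add_assoc, v4_self, add_zero]

theorem tvp_inv {p : V4} (hp : IsPt4 p) : (tvp p)⁻¹ = tvp p := inv_eq_of_mul_eq_one_right (tvp_sq hp)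

theorem tvp_ne_one {p : V4} (hp : IsPt4 p) : tvp p ≠ 1 := fun e => by
  obtain ⟨x, hx⟩ := exists_h4_ne hp.1
  have h := congrArg (fun g => suMat g *ᵥ x) e
  simp only [tvp_apply hp, suMat_one, Matrix.one_mulVec, add_eq_left, smul_eq_zero] at h
  exact h.elim hx hp.1

theorem pt_smul {p : V4} (hp : IsPt4 p) {c : F4} (hc : c ≠ 0) : IsPt4 (c • p) :=
  ⟨smul_ne_zero hc hp.1, by rw [h4_smul_left, h4_smul_right, hp.2, mul_zero, mul_zero]⟩

theorem pt_map {p : V4} (hp : IsPt4 p) (g : Cfsg.SU 4 F4 2) : IsPt4 (suMat g *ᵥ p) := by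
  refine ⟨fun e => hp.1 ?_, ?_⟩
  · have h := congrArg (fun y => suMat g⁻¹ *ᵥ y) e
    simpa only [Matrix.mulVec_mulVec, ← suMat_mul, inv_mul_cancel, suMat_one, Matrix.one_mulVec,
      Matrix.mulVec_zero] using h
  · rw [← h4_eq, su_preserves, h4_eq, hp.2]

theorem tvp_smul {p : V4} (hp : IsPt4 p) {c : F4} (hc : c ≠ 0) : tvp (c • p) = tvp p := su_ext fun x => by
  rw [tvp_apply (pt_smul hp hc), tvp_apply hp, h4_smul_right, smul_smul,
    show c * c * h4 x p * c = h4 x p * (c * c * c) by ring, f4_inv c hc, mul_one]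

theorem tvp_conj {p : V4} (hp : IsPt4 p) (g : Cfsg.SU 4 F4 2) : g * tvp p * g⁻¹ = tvp (suMat g *ᵥ p) := by
  refine su_ext fun x => ?_
  rw [suMat_mul, suMat_mul, ← Matrix.mulVec_mulVec, ← Matrix.mulVec_mulVec, tvp_apply hp,
    tvp_apply (pt_map hp g), Matrix.mulVec_add, Matrix.mulVec_smul, Matrix.mulVec_mulVec, ← suMat_mul,
    mul_inv_cancel, suMat_one, Matrix.one_mulVec]
  congr 2
  rw [← h4_eq, ← h4_eq, ← su_preserves g, Matrix.mulVec_mulVec, ← suMat_mul, mul_inv_cancel, suMat_one,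
    Matrix.one_mulVec]

theorem tvp_eq_smul {p q : V4} (hp : IsPt4 p) (hq : IsPt4 q) (e : tvp p = tvp q) : ∃ c : F4, c ≠ 0 ∧ q = c • p := by
  obtain ⟨x, hx⟩ := exists_h4_ne hq.1
  have h := congrArg (fun g => suMat g *ᵥ x) e
  simp only [tvp_apply hp, tvp_apply hq, add_right_inj] at h
  refine ⟨h4 x q * h4 x q * h4 x p, mul_ne_zero (mul_ne_zero hx hx) fun e0 => ?_, ?_⟩
  · rw [e0, zero_smul] at h
    exact (smul_eq_zero.1 h.symm).elim hx hq.1
  · rw [← smul_smul, h, smul_smul, f4_inv _ hx, one_smul]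

theorem tvp_comm_iff {p q : V4} (hp : IsPt4 p) (hq : IsPt4 q) :
    Commute (tvp p) (tvp q) ↔ h4 p q = 0 := by
  constructor
  · intro h
    by_contra h0
    have e : tvp p * tvp q * (tvp p)⁻¹ = tvp q := by rw [h.eq, mul_inv_cancel_right]
    rw [tvp_conj hq, tvp_apply hp] at e
    obtain ⟨c, -, hc⟩ := tvp_eq_smul hq
      (show IsPt4 (q + h4 q p • p) by rw [← tvp_apply hp]; exact pt_map hq _) e.symm
    have h2 := congrArg (fun v => h4 v q) hc
    simp only [h4_add_left, h4_smul_left, hq.2, mul_zero, zero_add, mul_eq_zero] at h2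
    exact h2.elim (fun e' => h0 (h4_zero_iff.1 e')) h0
  · intro h
    have h' := h4_zero_iff.1 h
    refine su_ext fun x => ?_
    simp only [suMat_mul, ← Matrix.mulVec_mulVec, tvp_apply hp, tvp_apply hq, h4_add_left, h4_smul_left, h, h',
      mul_zero, add_zero]
    abel

theorem tvp_rank {p : V4} (hp : IsPt4 p) : (suMat (tvp p) - 1).rank = 1 := by
  have e : suMat (tvp p) - 1 = Matrix.vecMulVec p (fun j => p j * p j) := by
    rw [tvp_mat hp]
    refine Matrix.ext fun i j => ?_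
    simp [tmat, Matrix.vecMulVec_apply, Matrix.one_apply]
  refine le_antisymm (e ▸ Matrix.rank_vecMulVec_le _ _) ?_
  rw [Nat.one_le_iff_ne_zero, Matrix.rank]
  intro h0
  refine tvp_ne_one hp (su_ext fun x => ?_)
  have hx : (suMat (tvp p) - 1) *ᵥ x = 0 := by
    have := Submodule.finrank_eq_zero.1 h0
    exact (Submodule.eq_bot_iff _).1 this _ ⟨x, rfl⟩
  rw [Matrix.sub_mulVec, Matrix.one_mulVec, sub_eq_zero] at hx
  rw [suMat_one, Matrix.one_mulVec, hx]

theorem rank_le_two {a : Cfsg.SU 4 F4 2} (ha : a * a = 1) : (suMat a - 1).rank ≤ 2 := by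
  have hN := isUDev_of_invol F4_natcard ha
  obtain ⟨e, he⟩ := exists_fam F4_natcard hN
  have h := (linearIndependent_fam F4_natcard hN he).fintype_card_le_finrank
  simp only [Fintype.card_sum, Fintype.card_fin, Module.finrank_fin_fun] at h
  show Module.finrank F4 (LinearMap.range (suMat a - 1).mulVecLin) ≤ 2
  omega

theorem closure_tvp : Subgroup.closure {g : Cfsg.SU 4 F4 2 | ∃ p, IsPt4 p ∧ tvp p = g} = ⊤ := by
  rw [eq_top_iff, ← tvGroup_eq_top F4_natcard (n := 4) (by omega) (by omega), tvGroup, Subgroup.closure_le]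
  rintro A ⟨w, c, hw, hA⟩
  by_cases h1 : A = 1
  · rw [h1]; exact one_mem _
  have hw0 : w ≠ 0 := fun e => h1 (su_ext fun x => by
    rw [hA, utv_mulVec, e, smul_zero, add_zero, suMat_one, Matrix.one_mulVec])
  have hp : IsPt4 w := ⟨hw0, by rw [← h4_eq]; exact hw⟩
  refine Subgroup.subset_closure ⟨w, hp, su_ext fun x => ?_⟩
  rw [hA, tvp_apply hp, utv_mulVec, h4_eq]
  have hd : ∀ a : F4, a ≠ 0 → a + a ^ 2 = 0 → a = 1 := by decide +kernel
  obtain ⟨i, hi⟩ := Function.ne_iff.1 hw0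
  have hc : c = 1 := by
    by_cases hc0 : c = 0
    · refine absurd (su_ext fun x => ?_) h1
      rw [hA, utv_mulVec, hc0, zero_mul, zero_smul, add_zero, suMat_one, Matrix.one_mulVec]
    refine hd c hc0 ?_
    obtain ⟨y, hy⟩ := exists_h4_ne hw0
    have h := su_preserves A y y
    rw [hA, utv_mulVec, h4_eq, h4_eq] at h
    simp only [h4_add_left, h4_add_right, h4_smul_left, h4_smul_right, hp.2, h4_swap y w, mul_zero, add_zero,
      h4_eq] at h
    have key : ∀ c s x : F4, s ≠ 0 → x + c * s * (s * s) + c * s * (c * s) * s = x → c + c ^ 2 = 0 := by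
      decide +kernel
    exact key c (h4 y w) (h4 y y) hy h
  rw [hc, one_mul]


/-- The diagonal matrices. -/
def dmat (l : Fin 4 → ZMod 3) : Matrix (Fin 4) (Fin 4) F4 := Matrix.diagonal fun i => omp (l i)

theorem dmat_isU : ∀ l : Fin 4 → ZMod 3, ∑ i, l i = 0 → IsU (dmat l) := by decide +kernel

/-- The diagonal elements. -/
noncomputable def dE (l : Fin 4 → ZMod 3) : Cfsg.SU 4 F4 2 :=
  if h : ∑ i, l i = 0 then suElt (dmat l) (dmat_isU l h) else 1

/-- The permutation matrices. -/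
def pmat (τ : Equiv.Perm (Fin 4)) : Matrix (Fin 4) (Fin 4) F4 := Matrix.of fun i j => if τ i = j then 1 else 0

theorem pmat_isU : ∀ τ : Equiv.Perm (Fin 4), IsU (pmat τ) := by decide +kernel

/-- The permutations. -/
def pE (τ : Equiv.Perm (Fin 4)) : Cfsg.SU 4 F4 2 := suElt (pmat τ) (pmat_isU τ)

/-- A block of three. -/
def gmat : Matrix (Fin 4) (Fin 4) F4 := !![1, 1, om, 0; om, 1, 1, 0; 1, om, 1, 0; 0, 0, 0, om]

theorem gmat_isU : IsU gmat := by decide +kernel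

/-- An element outside the monomial group. -/
def gE : Cfsg.SU 4 F4 2 := suElt gmat gmat_isU

theorem dE_mat {l : Fin 4 → ZMod 3} (h : ∑ i, l i = 0) : suMat (dE l) = dmat l := by
  rw [dE, dif_pos h]; rfl

theorem pE_mat (τ : Equiv.Perm (Fin 4)) : suMat (pE τ) = pmat τ := rfl

theorem gE_mat : suMat gE = gmat := rfl

theorem dE_apply {l : Fin 4 → ZMod 3} (h : ∑ i, l i = 0) (x : V4) :
    suMat (dE l) *ᵥ x = fun i => omp (l i) * x i := by
  funext i
  rw [dE_mat h, dmat, Matrix.mulVec_diagonal]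

theorem pE_apply (τ : Equiv.Perm (Fin 4)) (x : V4) : suMat (pE τ) *ᵥ x = fun i => x (τ i) := by
  funext i
  rw [pE_mat, Matrix.mulVec, dotProduct]
  simp [pmat]

theorem dE_zero : dE 0 = 1 := su_ext fun x => by
  rw [dE_apply (by simp), suMat_one, Matrix.one_mulVec]; funext i; simp [omp_zero]

theorem dE_add {l m : Fin 4 → ZMod 3} (hl : ∑ i, l i = 0) (hm : ∑ i, m i = 0) :
    dE (l + m) = dE l * dE m := su_ext fun x => by
  rw [suMat_mul, ← Matrix.mulVec_mulVec, dE_apply hm, dE_apply hl,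
    dE_apply (by simp [Finset.sum_add_distrib, hl, hm])]
  funext i
  simp [omp_add, mul_assoc]

theorem pE_dE {l : Fin 4 → ZMod 3} (h : ∑ i, l i = 0) (τ : Equiv.Perm (Fin 4)) :
    pE τ * dE l = dE (fun i => l (τ i)) * pE τ := su_ext fun x => by
  rw [suMat_mul, suMat_mul, ← Matrix.mulVec_mulVec, ← Matrix.mulVec_mulVec, dE_apply h, pE_apply, pE_apply,
    dE_apply (by rw [Equiv.sum_comp τ l, h])]

theorem gE_cube : gE * gE * gE = 1 := Subtype.ext (Subtype.ext (show gmat * gmat * gmat = 1 by decide +kernel))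

theorem gE_dE : gE * dE ![1, 1, 1, 0] = dE ![1, 1, 1, 0] * gE := by
  refine su_ext fun x => ?_
  rw [suMat_mul, suMat_mul, gE_mat, dE_mat (by decide)]
  exact congrArg (· *ᵥ x) (show gmat * dmat ![1, 1, 1, 0] = dmat ![1, 1, 1, 0] * gmat by decide +kernel)

theorem tvp_cases : ∀ p : V4, IsPt4 p →
    (∃ i j : Fin 4, ∃ l : Fin 4 → ZMod 3, ∑ k, l k = 0 ∧ tmat p = dmat l * pmat (Equiv.swap i j)) ∨
      ∃ l : Fin 4 → ZMod 3, ∃ c : ZMod 3, ∑ k, l k = 0 ∧
        p = omp c • fun i => omp (l i) * (gmat *ᵥ (![1, 0, 0, 1] : V4)) i := by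
  decide +kernel

/-- The monomial generators with one further element generate. -/
theorem gen_top {S : Subgroup (Cfsg.SU 4 F4 2)} (hd : ∀ l : Fin 4 → ZMod 3, ∑ i, l i = 0 → dE l ∈ S)
    (hp : ∀ τ, pE τ ∈ S) (hg : gE ∈ S) : S = ⊤ := by
  rw [eq_top_iff, ← closure_tvp, Subgroup.closure_le]
  rintro _ ⟨p, hp', rfl⟩
  have hq : IsPt4 (![1, 0, 0, 1] : V4) := by decide +kernel
  have hmono : ∀ p : V4, IsPt4 p → ∀ (i j : Fin 4) (l : Fin 4 → ZMod 3), ∑ k, l k = 0 →
      tmat p = dmat l * pmat (Equiv.swap i j) → tvp p ∈ S := fun p hp' i j l hl e => by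
    rw [show tvp p = dE l * pE (Equiv.swap i j) from su_ext fun x => by
      rw [tvp_mat hp', suMat_mul, dE_mat hl, pE_mat, e]]
    exact mul_mem (hd l hl) (hp _)
  rcases tvp_cases p hp' with ⟨i, j, l, hl, e⟩ | ⟨l, c, hl, e⟩
  · exact hmono p hp' i j l hl e
  · have h1 : tvp (![1, 0, 0, 1] : V4) ∈ S := hmono _ hq 0 3 0 (by simp) (by decide +kernel)
    have h2 := mul_mem (mul_mem (mul_mem (hd l hl) hg) h1) (inv_mem (mul_mem (hd l hl) hg))
    rw [tvp_conj hq, suMat_mul, ← Matrix.mulVec_mulVec, gE_mat, dE_apply hl] at h2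
    show tvp p ∈ S
    have hp2 : IsPt4 (fun i => omp (l i) * (gmat *ᵥ (![1, 0, 0, 1] : V4)) i) := by
      have := pt_map hq (dE l * gE)
      rwa [suMat_mul, ← Matrix.mulVec_mulVec, gE_mat, dE_apply hl] at this
    rw [e, tvp_smul hp2 (omp_ne c)]
    exact h2

theorem card_SU4 : Nat.card (Cfsg.SU 4 F4 2) = 25920 := by
  have h := card_SU_mul F4_natcard (n := 4) (by norm_num)
  rw [card_GU F4_natcard] at h
  simp only [Finset.prod_range_succ, Finset.prod_range_zero, one_mul] at h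
  norm_num [-Nat.card_eq_fintype_card, parity_simps] at h
  omega

theorem center_SU4 : Subgroup.center (Cfsg.SU 4 F4 2) = ⊥ :=
  Subgroup.eq_bot_of_card_eq _ (by rw [card_center_SU F4_natcard (by norm_num)]; rfl)

theorem simple_SU4 : IsSimpleGroup (Cfsg.SU 4 F4 2) := by
  haveI := isSimpleGroup_PSU (n := 4) F4_natcard (by norm_num) (by omega)
  exact ((QuotientGroup.quotientMulEquivOfEq center_SU4).trans
    (QuotientGroup.quotientBot (G := Cfsg.SU 4 F4 2))).symm.isSimpleGroup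

theorem nonempty_psp_iso {F : Type*} [Field F] [Fintype F] (hF : Fintype.card F = 3) :
    Nonempty (Cfsg.SU 4 F4 2 ≃* Cfsg.PSp 2 F) := by
  obtain ⟨e⟩ := CfsgLib.Linear.Forty.nonempty_iso (F := F4) (K := F) rfl hF
  exact ⟨((QuotientGroup.quotientMulEquivOfEq center_SU4).trans
    (QuotientGroup.quotientBot (G := Cfsg.SU 4 F4 2))).symm.trans e⟩

/-- The standard involution of the second class. -/
def s0 : Cfsg.SU 4 F4 2 := pE (Equiv.swap 0 1 * Equiv.swap 2 3)

theorem s0_sq : s0 * s0 = 1 :=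
  Subtype.ext (Subtype.ext (show pmat (Equiv.swap 0 1 * Equiv.swap 2 3) * pmat (Equiv.swap 0 1 * Equiv.swap 2 3) = 1
    by decide +kernel))

theorem s0_rank : 2 ≤ (suMat s0 - 1).rank := by
  have h := congrArg Matrix.rank (show (!![1, 0, 0, 0; 0, 0, 1, 0] : Matrix (Fin 2) (Fin 4) F4) *
      (pmat (Equiv.swap 0 1 * Equiv.swap 2 3) - 1) * (!![1, 0; 0, 0; 0, 1; 0, 0] : Matrix (Fin 4) (Fin 2) F4) =
      (1 : Matrix (Fin 2) (Fin 2) F4) by decide +kernel)
  rw [Matrix.rank_one, Fintype.card_fin] at h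
  exact h.ge.trans ((Matrix.rank_mul_le_left _ _).trans (Matrix.rank_mul_le_right _ _))

/-- The base point. -/
def p0 : V4 := ![1, 1, 0, 0]

theorem p0_pt : IsPt4 p0 := by decide +kernel

/-- The two classes of involutions. -/
theorem invol_cases {a : Cfsg.SU 4 F4 2} (ha : a * a = 1) (h1 : a ≠ 1) :
    (∃ p, IsPt4 p ∧ a = tvp p) ∨ ∃ g : Cfsg.SU 4 F4 2, g * a * g⁻¹ = s0 := by
  rcases Nat.lt_or_ge (suMat a - 1).rank 1 with h | h
  · refine absurd (su_ext fun x => ?_) h1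
    have hx : (suMat a - 1) *ᵥ x = 0 := by
      have := Submodule.finrank_eq_zero.1 (Nat.lt_one_iff.1 h)
      exact (Submodule.eq_bot_iff _).1 this _ ⟨x, rfl⟩
    rw [Matrix.sub_mulVec, Matrix.one_mulVec, sub_eq_zero] at hx
    rw [suMat_one, Matrix.one_mulVec, hx]
  have h2 := rank_le_two ha
  have h3 := rank_le_two s0_sq
  have h4 := s0_rank
  rcases Nat.eq_or_lt_of_le h with e | e
  · obtain ⟨g, hg⟩ := isConj_iff.1 (isConj_of_rank F4_natcard (by norm_num) (tvp_sq p0_pt) ha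
      ((tvp_rank p0_pt).trans e))
    exact Or.inl ⟨_, pt_map p0_pt g, by rw [← hg, tvp_conj p0_pt]⟩
  · exact Or.inr (isConj_iff.1 (isConj_of_rank F4_natcard (by norm_num) ha s0_sq (by omega)))

theorem tvp_ne_s0 {p : V4} (hp : IsPt4 p) (g : Cfsg.SU 4 F4 2) : g * tvp p * g⁻¹ ≠ s0 := fun e => by
  have h := s0_rank
  rw [← e, tvp_conj hp, tvp_rank (pt_map hp g)] at h
  omega

/-- Any two points are conjugate. -/
theorem exists_move {p q : V4} (hp : IsPt4 p) (hq : IsPt4 q) :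
    ∃ g : Cfsg.SU 4 F4 2, ∃ c : F4, c ≠ 0 ∧ suMat g *ᵥ p = c • q := by
  obtain ⟨g, hg⟩ := isConj_iff.1 (isConj_of_rank F4_natcard (by norm_num) (tvp_sq hp) (tvp_sq hq)
    ((tvp_rank hp).trans (tvp_rank hq).symm))
  rw [tvp_conj hp] at hg
  exact ⟨g, tvp_eq_smul hq (pt_map hp g) hg.symm⟩

end CfsgLib.U62Cent
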