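import Cfsg.Agent.U62Cent.Decomp

/-!
In the natural case the representation is the natural module of the unitary group.
-/

set_option autoImplicit false
set_option maxRecDepth 100000
set_option maxHeartbeats 800000
set_option linter.style.haveILetI false
set_option linter.unusedSectionVars false

open scoped Matrix

namespace CfsgLib.U62Cent

open CfsgLib.FiLarge (F4 om omp omp_add omp_ne exists_omp omp_zero)
open CfsgLib.Unitary (suMat suMat_mul suMat_one su_ext su_preserves)

/-- The parity of the support. -/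
def qn4 (a : V4) : ZMod 2 := ∑ i, if a i = 0 then 0 else 1

theorem polar_qn4 : ∀ u v : V4, qn4 (u + v) - qn4 u - qn4 v = (h4 u v).im := by
  intro u v
  have key : ∀ x y : F4, ((if x + y = 0 then 0 else 1) - (if x = 0 then 0 else 1) - (if y = 0 then 0 else 1) :
      ZMod 2) = (x * (y * y)).im := by decide +kernel
  simp only [qn4, Fin.sum_univ_four, Pi.add_apply, h4, QuadraticAlgebra.im_add, ← key]
  ring

theorem f4_of_im : ∀ x y : F4, x.im = y.im → (om * x).im = (om * y).im → x = y := by decide +kernel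

/-- A linear map preserving the parity preserves the hermitian form. -/
theorem h4_of_qn4 {f : V4 →ₗ[F4] V4} (hf : ∀ a, qn4 (f a) = qn4 a) (u v : V4) : h4 (f u) (f v) = h4 u v := by
  have h : ∀ u v : V4, (h4 (f u) (f v)).im = (h4 u v).im := fun u v => by
    rw [← polar_qn4, ← polar_qn4, ← map_add, hf, hf, hf]
  refine f4_of_im _ _ (h u v) ?_
  have := h (om • u) v
  rwa [map_smul, h4_smul_left, h4_smul_left] at this

/-- An exponent with value one at a coordinate. -/
def oneAt : Fin 4 → LT :=
  ![⟨![1, 2, 0, 0], by decide⟩, ⟨![2, 1, 0, 0], by decide⟩, ⟨![2, 0, 1, 0], by decide⟩, ⟨![2, 0, 0, 1], by decide⟩]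

theorem oneAt_spec : ∀ j, (oneAt j).1 j = 1 := by decide +kernel

theorem pair_coord : ∀ (j : Fin 4) (l m : LT), l.1 j = m.1 j → pair4 (chs (natBlk j)) l = pair4 (chs (natBlk j)) m := by
  decide +kernel

theorem pair_one : ∀ j : Fin 4, pair4 (chs (natBlk j)) (oneAt j) ≠ 0 := by decide +kernel

theorem exists_sep : ∀ k m : Fin 13, k ≠ m → ∃ l : LT, pair4 (chs k) l = 0 ∧ pair4 (chs m) l = 1 := by decide +kernel

theorem natBlk_inj : Function.Injective natBlk := by decide +kernel

variable {V : Type*} [AddCommGroup V] [Module (ZMod 2) V]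

namespace Rep

variable (R : Rep V)

/-- The polar form. -/
noncomputable def B (x y : V) : ZMod 2 := QuadraticMap.polar R.q x y

theorem q_add (x y : V) : R.q (x + y) = R.q x + R.q y + R.B x y := by
  rw [B, QuadraticMap.polar]; ring

theorem B_inv (g : U4) (x y : V) : R.B (R.r g x) (R.r g y) = R.B x y := by
  simp only [B, QuadraticMap.polar, ← map_add, R.inv]

theorem B_add_right (x y z : V) : R.B x (y + z) = R.B x y + R.B x z := QuadraticMap.polar_add_right R.q x y z

theorem B_add_left (x y z : V) : R.B (x + y) z = R.B x z + R.B y z := QuadraticMap.polar_add_left R.q x y z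

theorem B_comm (x y : V) : R.B x y = R.B y x := QuadraticMap.polar_comm R.q x y

theorem B_zero (x : V) : R.B x 0 = 0 := by simp [B]

theorem blk_orth {k m : Fin 13} (h : k ≠ m) {x y : V} (hx : x ∈ R.X k) (hy : y ∈ R.X m) : R.B x y = 0 := by
  obtain ⟨l, h1, h2⟩ := exists_sep k m h
  have e : ∀ w ∈ R.X m, R.B x (R.rot m w) = R.B x w := fun w hw => by
    have := R.B_inv (dE l.1) x w
    rwa [show R.r (dE l.1) x = x from R.act_X_zero hx h1, show R.r (dE l.1) w = R.rot m w from R.act_X_one hw h2]
      at this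
  have hs := R.orb_sum hy
  have h0 := congrArg (R.B x) hs
  rw [R.B_add_right, R.B_add_right, e _ (R.rot_mem hy), e _ hy, R.B_zero] at h0
  exact (by decide : ∀ a : ZMod 2, a + a + a = 0 → a = 0) _ h0

theorem blk_orth0 {k : Fin 13} {x y : V} (hx : x ∈ R.X0) (hy : y ∈ R.X k) : R.B x y = 0 := by
  have e : ∀ w ∈ R.X k, R.B x (R.rot k w) = R.B x w := fun w _ => by
    have := R.B_inv (dE (gen k).1) x w
    rwa [show R.r (dE (gen k).1) x = x from hx _] at this
  have h0 := congrArg (R.B x) (R.orb_sum hy)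
  rw [R.B_add_right, R.B_add_right, e _ (R.rot_mem hy), e _ hy, R.B_zero] at h0
  exact (by decide : ∀ a : ZMod 2, a + a + a = 0 → a = 0) _ h0

/-- A block of order four with a chosen nonzero vector carries the field. -/
theorem q_block {k : Fin 13} (hcard : Nat.card (R.X k) = 4) {x : V} (hx : x ∈ R.X k) (h0 : x ≠ 0) : R.q x = 1 := by
  classical
  haveI := R.finite
  haveI : Fintype (R.X k) := Fintype.ofFinite _
  rcases (by decide : ∀ a : ZMod 2, a = 0 ∨ a = 1) (R.q x) with e | e
  swap
  · exact e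
  exfalso
  refine h0 (R.nondeg x fun w => ?_)
  have h3 : R.rot k (R.rot k x) = x + R.rot k x := (eq_of_sum_zero (R.orb_sum hx)).symm
  have hq1 : R.q (R.rot k x) = 0 := (R.inv _ _).trans e
  have hq2 : R.q (R.rot k (R.rot k x)) = 0 := (R.inv _ _).trans hq1
  have hB1 : R.B x (R.rot k x) = 0 := by
    have := R.q_add x (R.rot k x)
    rw [← h3, hq2, e, hq1] at this
    simpa using this.symm
  have hxx : R.B x x = 0 := by
    have := R.q_add x x
    rw [two_self, e, map_zero] at this
    simpa using this.symm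
  have hmine : ∀ y ∈ R.X k, R.B x y = 0 := by
    let f : Fin 4 → R.X k :=
      ![0, ⟨x, hx⟩, ⟨R.rot k x, R.rot_mem hx⟩, ⟨R.rot k (R.rot k x), R.rot_mem (R.rot_mem hx)⟩]
    have h1 : R.rot k x ≠ x := fun e' => h0 (R.rot_ne hx e')
    have h2 : R.rot k x ≠ 0 := fun e' => h0 (by have h := R.orb_sum hx; rwa [e', map_zero, add_zero, add_zero] at h)
    have h4 : R.rot k (R.rot k x) ≠ 0 := fun e' => h1 (eq_of_sum_zero (h3.symm.trans e')).symm
    have h5 : R.rot k (R.rot k x) ≠ x := fun e' => h2 (add_eq_left.1 (h3.symm.trans e'))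
    have h6 : R.rot k (R.rot k x) ≠ R.rot k x := fun e' => h0 (add_eq_right.1 (h3.symm.trans e'))
    have hf : Function.Injective f := by
      intro i j e'
      have e'' : ((f i : R.X k) : V) = f j := congrArg Subtype.val e'
      fin_cases i <;> fin_cases j <;> simp [f, h0, h1, h2, h4, h5, h6, h0.symm, h1.symm, h2.symm, h4.symm, h5.symm,
        h6.symm] at e'' ⊢
    have hb := (Fintype.bijective_iff_injective_and_card f).2 ⟨hf, by
      rw [Fintype.card_fin, ← Nat.card_eq_fintype_card, hcard]⟩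
    intro y hy
    obtain ⟨i, hi⟩ := hb.2 ⟨y, hy⟩
    have hy' : ((f i : R.X k) : V) = y := congrArg Subtype.val hi
    rw [← hy']
    fin_cases i <;> simp [f, R.B_zero, hxx, hB1, h3, R.B_add_right]
  show R.B x w = 0
  rw [← R.decomp w, R.B_add_right, R.B_comm, R.blk_orth0 (R.e0_mem w) hx, zero_add]
  have : ∀ s : Finset (Fin 13), R.B x (∑ m ∈ s, R.bk m w) = 0 := by
    intro s
    induction s using Finset.induction_on with
    | empty => rw [Finset.sum_empty, R.B_zero]
    | insert m s hm ih =>
      rw [Finset.sum_insert hm, R.B_add_right, ih, add_zero]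
      by_cases hmk : m = k
      · subst hmk; exact hmine _ (R.bk_mem _ _)
      · exact R.blk_orth (Ne.symm hmk) hx (R.bk_mem _ _)
  exact this _

/-- The embedding of the field into a block. -/
noncomputable def iota (k : Fin 13) (T : V →ₗ[ZMod 2] V) (b : V) : F4 →+ V where
  toFun a := a.re • b + a.im • T b
  map_zero' := by simp
  map_add' a c := by simp only [QuadraticAlgebra.re_add, QuadraticAlgebra.im_add, add_smul]; abel

theorem om_re_im : ∀ a : F4, (om * a).re = a.im ∧ (om * a).im = a.re + a.im := by decide +kernel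

theorem f4_parts : ∀ a : F4, a = 0 ∨ (a.re = 1 ∧ a.im = 0) ∨ (a.re = 0 ∧ a.im = 1) ∨ (a.re = 1 ∧ a.im = 1) := by
  decide +kernel

theorem twist_fix : ∀ p q : F4, ((p + q) = 0 → False) →
    let f : F4 → F4 := fun a => (if a.re = 1 then p else 0) + (if a.im = 1 then q else 0)
    (∀ a, f (f (f a)) = a) → ∀ a, f (om * a) = om * f a := by
  decide +kernel

/-- The scalar of a block of the natural case. -/
noncomputable def Tn (j : Fin 4) : V →ₗ[ZMod 2] V := R.act (oneAt j)

theorem act_mem {k : Fin 13} {x : V} (hx : x ∈ R.X k) (l : LT) : R.act l x ∈ R.X k := by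
  rw [R.act_orb hx]
  unfold orb
  split_ifs
  exacts [hx, R.rot_mem hx, R.rot_mem (R.rot_mem hx)]

theorem Tn_eq {j : Fin 4} {l : LT} (hl : l.1 j = 1) {x : V} (hx : x ∈ R.X (natBlk j)) : R.act l x = R.Tn j x :=
  R.act_X hx l _ (pair_coord j l _ (by rw [hl, oneAt_spec]))

theorem Tn_sum {j : Fin 4} {x : V} (hx : x ∈ R.X (natBlk j)) : x + R.Tn j x + R.Tn j (R.Tn j x) = 0 := by
  have h1 := R.orb_sum hx
  have e := R.act_orb hx (oneAt j)
  have e' := R.act_orb (R.act_mem hx (oneAt j)) (oneAt j)
  show x + R.act (oneAt j) x + R.act (oneAt j) (R.act (oneAt j) x) = 0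
  rw [e', e]
  rcases (by decide : ∀ a : ZMod 3, a ≠ 0 → a = 1 ∨ a = 2) _ (pair_one j) with hp | hp <;> rw [hp]
  · exact h1
  · show x + R.rot _ (R.rot _ x) + R.rot _ (R.rot _ (R.rot _ (R.rot _ x))) = 0
    have h4 : R.rot (natBlk j) (R.rot (natBlk j) (R.rot (natBlk j) x)) = x := by
      have e5 := (eq_of_sum_zero (R.orb_sum (R.rot_mem hx)))
      have e4 := (eq_of_sum_zero h1)
      rw [← e5, ← e4, add_comm x, ← add_assoc, two_self, zero_add]
    rw [h4, add_right_comm]
    exact h1

theorem nat_X0 (hN : R.IsNat) {x : V} (hx : x ∈ R.X0) : x = 0 := (Submodule.mem_bot (ZMod 2)).1 (hN.2.1 ▸ hx)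

theorem exists_bv (hN : R.IsNat) (j : Fin 4) : ∃ b, b ∈ R.X (natBlk j) ∧ b ≠ 0 :=
  Submodule.exists_mem_ne_zero_of_ne_bot fun e => by
    have := hN.1 j
    rw [e] at this
    simp at this

/-- A chosen vector of a block. -/
noncomputable def bv (hN : R.IsNat) (j : Fin 4) : V := (R.exists_bv hN j).choose

theorem bv_mem (hN : R.IsNat) (j : Fin 4) : R.bv hN j ∈ R.X (natBlk j) := (R.exists_bv hN j).choose_spec.1

theorem bv_ne (hN : R.IsNat) (j : Fin 4) : R.bv hN j ≠ 0 := (R.exists_bv hN j).choose_spec.2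

/-- The field in a block. -/
noncomputable def io (hN : R.IsNat) (j : Fin 4) : F4 →+ V := iota (natBlk j) (R.Tn j) (R.bv hN j)

variable {R} (hN : R.IsNat)

theorem io_mem (j : Fin 4) (a : F4) : R.io hN j a ∈ R.X (natBlk j) :=
  add_mem (Submodule.smul_mem _ _ (R.bv_mem hN j)) (Submodule.smul_mem _ _ (R.act_mem (R.bv_mem hN j) _))

theorem io_zero {j : Fin 4} {a : F4} (e : R.io hN j a = 0) : a = 0 := by
  have h1 := R.Tn_sum (R.bv_mem hN j)
  rcases f4_parts a with h | ⟨h1', h2⟩ | ⟨h1', h2⟩ | ⟨h1', h2⟩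
  · exact h
  all_goals
    exfalso
    have e' : a.re • R.bv hN j + a.im • R.Tn j (R.bv hN j) = 0 := e
    simp only [h1', h2, one_smul, zero_smul, zero_add, add_zero] at e'
  · exact R.bv_ne hN j e'
  · exact R.bv_ne hN j (by rwa [e', map_zero, add_zero, add_zero] at h1)
  · refine R.bv_ne hN j ?_
    have e2 := eq_of_sum_zero e'
    rwa [← e2, ← e2, two_self, zero_add] at h1

theorem io_om (j : Fin 4) (a : F4) : R.io hN j (om * a) = R.Tn j (R.io hN j a) := by
  show (om * a).re • R.bv hN j + (om * a).im • R.Tn j (R.bv hN j) =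
    R.Tn j (a.re • R.bv hN j + a.im • R.Tn j (R.bv hN j))
  rw [(om_re_im a).1, (om_re_im a).2, map_add, map_smul, map_smul,
    ← eq_of_sum_zero (R.Tn_sum (R.bv_mem hN j)), smul_add, add_smul]
  abel

theorem io_omp (j : Fin 4) (l : LT) (a : F4) : R.io hN j (omp (l.1 j) * a) = R.act l (R.io hN j a) := by
  rcases (by decide : ∀ c : ZMod 3, c = 0 ∨ c = 1 ∨ c = 2) (l.1 j) with e | e | e
  · rw [e, omp_zero, one_mul, R.act_X_zero (io_mem hN j a)
      (by rw [pair_coord j l ⟨0, by simp⟩ (by simp [e])]; simp [pair4])]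
  · rw [e, show omp (1 : ZMod 3) = om by decide +kernel, io_om, R.Tn_eq e (io_mem hN j a)]
  · rw [e, show omp (2 : ZMod 3) = om * om by decide +kernel, mul_assoc, io_om, io_om,
      show R.Tn j (R.Tn j (R.io hN j a)) = R.act ⟨(oneAt j).1 + (oneAt j).1,
        by simp [Finset.sum_add_distrib, (oneAt j).2]⟩ (R.io hN j a) from R.act_add _ _ _ _ rfl]
    refine R.act_X (io_mem hN j a) _ _ (pair_coord j _ _ ?_)
    simp [e, oneAt_spec]; decide

/-- The coordinates, backwards. -/
noncomputable def psi : V4 →ₗ[ZMod 2] V :=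
  (AddMonoidHom.mk' (fun a => ∑ j, R.io hN j (a j)) fun a c => by simp [Finset.sum_add_distrib]).toZModLinearMap 2

theorem psi_apply (a : V4) : psi hN a = ∑ j, R.io hN j (a j) := rfl

theorem bk_psi (a : V4) (j : Fin 4) : R.bk (natBlk j) (psi hN a) = R.io hN j (a j) := by
  rw [psi_apply, map_sum, Finset.sum_eq_single j
    (fun i _ hi => R.bk_other (fun e => hi (natBlk_inj e)) (io_mem hN i _))
    (fun h => absurd (Finset.mem_univ j) h), R.bk_self (io_mem hN j _)]

theorem psi_bij : Function.Bijective (psi hN) := by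
  classical
  haveI := R.finite
  haveI : Fintype V := Fintype.ofFinite _
  refine (Fintype.bijective_iff_injective_and_card _).2 ⟨(injective_iff_map_eq_zero (psi hN)).2 fun a e =>
    funext fun j => io_zero hN (by rw [← bk_psi, e, map_zero]), ?_⟩
  rw [← Nat.card_eq_fintype_card, ← Nat.card_eq_fintype_card, R.card, Nat.card_eq_fintype_card]
  rfl

/-- The coordinates. -/
noncomputable def phi : V ≃ₗ[ZMod 2] V4 := (LinearEquiv.ofBijective (psi hN) (psi_bij hN)).symm

theorem phi_psi (a : V4) : phi hN (psi hN a) = a :=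
  (LinearEquiv.ofBijective (psi hN) (psi_bij hN)).symm_apply_apply a

theorem psi_phi (v : V) : psi hN (phi hN v) = v :=
  (LinearEquiv.ofBijective (psi hN) (psi_bij hN)).apply_symm_apply v

theorem phi_other {j i : Fin 4} {x : V} (hx : x ∈ R.X (natBlk j)) (hi : i ≠ j) : phi hN x i = 0 :=
  io_zero hN (by rw [← bk_psi, psi_phi, R.bk_other (fun e => hi (natBlk_inj e).symm) hx])

theorem io_phi {j : Fin 4} {x : V} (hx : x ∈ R.X (natBlk j)) : R.io hN j (phi hN x j) = x := by
  rw [← bk_psi, psi_phi, R.bk_self hx]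

/-- The scalar. -/
noncomputable def scal : V →ₗ[ZMod 2] V :=
  (AddMonoidHom.mk' (fun v => psi hN (om • phi hN v)) fun v w => by simp [smul_add]).toZModLinearMap 2

theorem phi_scal (v : V) : phi hN (scal hN v) = om • phi hN v := phi_psi hN _

theorem scal_X {j : Fin 4} {x : V} (hx : x ∈ R.X (natBlk j)) : scal hN x = R.Tn j x := by
  show psi hN (om • phi hN x) = _
  rw [psi_apply, Finset.sum_eq_single j (fun i _ hi => by rw [Pi.smul_apply, phi_other hN hx hi, smul_zero, map_zero])
    (fun h => absurd (Finset.mem_univ j) h), Pi.smul_apply, smul_eq_mul, io_om, io_phi hN hx]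

theorem phi_act (l : LT) (v : V) (i : Fin 4) : phi hN (R.act l v) i = omp (l.1 i) * phi hN v i := by
  have e : R.act l v = psi hN (fun i => omp (l.1 i) * phi hN v i) := by
    conv_lhs => rw [← psi_phi hN v, psi_apply, map_sum]
    rw [psi_apply]
    exact Finset.sum_congr rfl fun i _ => (io_omp hN i l _).symm
  rw [e, phi_psi]

/-- The elements commuting with the scalar. -/
noncomputable def comS : Subgroup U4 where
  carrier := {g | ∀ v, R.r g (scal hN v) = scal hN (R.r g v)}
  one_mem' := fun v => by rw [map_one]; rfl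
  mul_mem' := fun {g h} hg hh v => by
    rw [map_mul, LinearEquiv.mul_apply, LinearEquiv.mul_apply, hh, hg]
  inv_mem' := fun {g} hg v => by
    refine (R.r g).injective ?_
    rw [hg, ← LinearEquiv.mul_apply, ← LinearEquiv.mul_apply, ← map_mul, mul_inv_cancel, map_one]; rfl

theorem mem_comS {g : U4} (h : ∀ j, ∀ x ∈ R.X (natBlk j), R.r g (scal hN x) = scal hN (R.r g x)) :
    g ∈ comS hN := fun v => by
  rw [← psi_phi hN v, psi_apply]
  simp only [map_sum]
  exact Finset.sum_congr rfl fun j _ => h j _ (io_mem hN j _)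

theorem dE_com {l : Fin 4 → ZMod 3} (hl : ∑ i, l i = 0) : dE l ∈ comS hN := by
  refine mem_comS hN fun j x hx => ?_
  rw [scal_X hN hx, scal_X hN (show R.r (dE l) x ∈ R.X (natBlk j) from R.act_mem hx ⟨l, hl⟩)]
  show R.act ⟨l, hl⟩ (R.act (oneAt j) x) = R.act (oneAt j) (R.act ⟨l, hl⟩ x)
  rw [R.act_add ⟨l, hl⟩ (oneAt j) x ⟨_, by simp [Finset.sum_add_distrib, hl, (oneAt j).2]⟩ rfl,
    R.act_add (oneAt j) ⟨l, hl⟩ x ⟨l + (oneAt j).1, by simp [Finset.sum_add_distrib, hl, (oneAt j).2]⟩
      (add_comm _ _)]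

theorem perm_blk : ∀ (τ : Equiv.Perm (Fin 4)) (j : Fin 4) (l : LT),
    pair4 (chs (natBlk j)) l = 0 ↔ ∑ i, chs (natBlk (τ.symm j)) i * l.1 (τ i) = 0 := by decide +kernel

theorem pE_com (τ : Equiv.Perm (Fin 4)) : pE τ ∈ comS hN := by
  refine mem_comS hN fun j x hx => ?_
  have hm : R.r (pE τ) x ∈ R.X (natBlk (τ.symm j)) := R.perm_X (perm_blk τ j) hx
  rw [scal_X hN hx, scal_X hN hm]
  show R.r (pE τ) (R.act (oneAt j) x) = _
  rw [R.perm_act]
  exact R.Tn_eq (by simp [oneAt_spec]) hm

/-- The exponent fixing the last block. -/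
def d0 : LT := ⟨![1, 1, 1, 0], by decide⟩

theorem d0_spec : ∀ j : Fin 4, j ≠ 3 → d0.1 j = 1 := by decide +kernel

theorem f4_no_fix : ∀ a : F4, a = om * a → a = 0 := by decide +kernel

theorem gE_act (v : V) : R.r gE (R.act d0 v) = R.act d0 (R.r gE v) := by
  show R.r gE (R.r (dE ![1, 1, 1, 0]) v) = R.r (dE ![1, 1, 1, 0]) (R.r gE v)
  rw [← LinearEquiv.mul_apply, ← LinearEquiv.mul_apply, ← map_mul, ← map_mul, gE_dE]

theorem fixed_eq {y : V} (hy : R.act d0 y = y) : y = R.io hN 3 (phi hN y 3) := by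
  conv_lhs => rw [← psi_phi hN y, psi_apply]
  refine Finset.sum_eq_single (3 : Fin 4) (fun i _ hi => ?_) (fun h => absurd (Finset.mem_univ _) h)
  have h := phi_act hN d0 y i
  rw [hy, d0_spec i hi] at h
  rw [f4_no_fix _ (h.trans (by rw [show omp (1 : ZMod 3) = om by decide +kernel])), map_zero]

/-- The map induced on the last block. -/
noncomputable def last (a : F4) : F4 := phi hN (R.r gE (R.io hN 3 a)) 3

theorem io_last (a : F4) : R.r gE (R.io hN 3 a) = R.io hN 3 (last hN a) :=
  fixed_eq hN (by rw [← gE_act, R.act_X_zero (io_mem hN 3 a) (by decide +kernel)])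

theorem last_lin (a : F4) :
    last hN a = (if a.re = 1 then last hN 1 else 0) + (if a.im = 1 then last hN om else 0) := by
  have hadd : ∀ c d, last hN (c + d) = last hN c + last hN d := fun c d => by
    unfold last
    rw [map_add, map_add, map_add]; rfl
  have hz : last hN 0 = 0 := by
    unfold last
    rw [map_zero, map_zero, map_zero]; rfl
  have ha : a = (if a.re = 1 then 1 else 0) + (if a.im = 1 then om else 0) := by
    revert a; decide +kernel
  conv_lhs => rw [ha, hadd, apply_ite (last hN), apply_ite (last hN), hz]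

theorem last_cube (a : F4) : last hN (last hN (last hN a)) = a := by
  have h : R.r gE (R.r gE (R.r gE (R.io hN 3 a))) = R.io hN 3 a := by
    rw [← LinearEquiv.mul_apply, ← LinearEquiv.mul_apply, ← map_mul, ← map_mul, gE_cube, map_one]; rfl
  rw [io_last, io_last, io_last] at h
  exact eq_of_add_F4 _ _ (io_zero hN (j := 3) (by rw [map_add, h, two_self]))

theorem last_om (a : F4) : last hN (om * a) = om * last hN a := by
  have hne : last hN 1 + last hN om = 0 → False := fun e => by
    have h1 := last_lin hN (1 + om)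
    rw [if_pos (by decide +kernel), if_pos (by decide +kernel), e] at h1
    have h2 := last_cube hN (1 + om)
    have hz : last hN 0 = 0 := by
      unfold last
      rw [map_zero, map_zero, map_zero]; rfl
    rw [h1, hz, hz] at h2
    exact absurd h2 (by decide +kernel)
  have key := twist_fix (last hN 1) (last hN om) hne fun b => by
    simp only [← last_lin hN]
    exact last_cube hN b
  rw [last_lin hN (om * a), last_lin hN a]
  exact key a

theorem gE_com : gE ∈ comS hN := by
  refine mem_comS hN fun j x hx => ?_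
  by_cases hj : j = 3
  · subst hj
    obtain ⟨a, rfl⟩ : ∃ a, R.io hN 3 a = x := ⟨_, io_phi hN hx⟩
    rw [io_last, scal_X hN (io_mem hN 3 a), scal_X hN (io_mem hN 3 _), ← io_om, ← io_om, io_last, last_om]
  · have hfix : ∀ y, R.act d0 y = y → phi hN y 3 = phi hN y 3 := fun y _ => rfl
    have hd : R.act d0 x = R.Tn j x := R.Tn_eq (d0_spec j hj) hx
    have h3 : phi hN (R.r gE x) 3 = 0 := by
      have h := R.Tn_sum hx
      rw [← hd, ← R.Tn_eq (d0_spec j hj) (show R.act d0 x ∈ R.X (natBlk j) from R.act_mem hx _)] at h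
      have h' := congrArg (fun v => phi hN (R.r gE v) 3) h
      simp only [map_add, gE_act, Pi.add_apply, phi_act, map_zero, Pi.zero_apply,
        show omp (d0.1 3) = 1 from omp_zero, one_mul] at h'
      rwa [add_assoc, add_self_F4, add_zero] at h'
    rw [scal_X hN hx, ← hd, gE_act]
    refine (phi hN).injective (funext fun i => ?_)
    rw [phi_scal, Pi.smul_apply, smul_eq_mul, phi_act]
    by_cases hi : i = 3
    · subst hi; rw [h3, mul_zero, mul_zero]
    · rw [d0_spec i hi, show omp (1 : ZMod 3) = om by decide +kernel]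

theorem com_all (g : U4) : g ∈ comS hN :=
  gen_top (fun _ hl => dE_com hN hl) (pE_com hN) (gE_com hN) ▸ Subgroup.mem_top g

theorem smul_com (g : U4) (c : F4) (a : V4) :
    phi hN (R.r g (psi hN (c • a))) = c • phi hN (R.r g (psi hN a)) := by
  have hom : ∀ a, phi hN (R.r g (psi hN (om • a))) = om • phi hN (R.r g (psi hN a)) := fun a => by
    have h := com_all hN g (psi hN a)
    rw [show scal hN (psi hN a) = psi hN (om • a) by
      show psi hN (om • phi hN (psi hN a)) = _; rw [phi_psi]] at h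
    rw [h, phi_scal]
  rcases (by decide +kernel : ∀ c : F4, c = 0 ∨ c = 1 ∨ c = om ∨ c = 1 + om) c with rfl | rfl | rfl | rfl
  · simp
  · simp
  · exact hom a
  · simp only [add_smul, one_smul, map_add, hom]

/-- The map over the field. -/
noncomputable def lin (g : U4) : V4 →ₗ[F4] V4 where
  toFun a := phi hN (R.r g (psi hN a))
  map_add' a c := by simp
  map_smul' c a := smul_com hN g c a

theorem phi_q (v : V) : R.q v = qn4 (phi hN v) := by
  conv_lhs => rw [← psi_phi hN v, psi_apply, Fin.sum_univ_four]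
  have hne : ∀ i j : Fin 4, i ≠ j → ∀ a c, R.B (R.io hN i a) (R.io hN j c) = 0 := fun i j h a c =>
    R.blk_orth (fun e => h (natBlk_inj e)) (io_mem hN i a) (io_mem hN j c)
  have hone : ∀ i a, R.q (R.io hN i a) = if a = 0 then 0 else 1 := fun i a => by
    by_cases ha : a = 0
    · rw [ha, map_zero, map_zero, if_pos rfl]
    · rw [if_neg ha, R.q_block (hN.1 i) (io_mem hN i a) fun e => ha (io_zero hN e)]
  rw [R.q_add, R.q_add, R.q_add, R.B_add_left, R.B_add_left, R.B_add_left, hne 0 1 (by decide),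
    hne 0 2 (by decide), hne 1 2 (by decide), hne 0 3 (by decide), hne 1 3 (by decide), hne 2 3 (by decide)]
  simp only [hone, qn4, Fin.sum_univ_four, add_zero]

/-- The matrices. -/
noncomputable def mat : U4 →* Matrix (Fin 4) (Fin 4) F4 where
  toFun g := LinearMap.toMatrix' (lin hN g)
  map_one' := by
    rw [show lin hN 1 = LinearMap.id from LinearMap.ext fun a => by
      show phi hN (R.r 1 (psi hN a)) = a
      rw [map_one]; exact phi_psi hN a]
    exact LinearMap.toMatrix'_id
  map_mul' g h := by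
    rw [show lin hN (g * h) = (lin hN g).comp (lin hN h) from LinearMap.ext fun a => by
      show phi hN (R.r (g * h) (psi hN a)) = phi hN (R.r g (psi hN (phi hN (R.r h (psi hN a)))))
      rw [psi_phi, map_mul]; rfl, LinearMap.toMatrix'_comp]

theorem mat_mulVec (g : U4) (a : V4) : mat hN g *ᵥ a = lin hN g a := LinearMap.toMatrix'_mulVec (lin hN g) a

theorem mat_det (g : U4) : (mat hN g).det = 1 := by
  let d : U4 →* F4ˣ := MonoidHom.toHomUnits ((Matrix.detMonoidHom (n := Fin 4) (R := F4)).comp (mat hN))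
  haveI := simple_SU4
  rcases IsSimpleGroup.eq_bot_or_eq_top_of_normal d.ker inferInstance with h | h
  · exfalso
    have hi : Function.Injective d := (MonoidHom.ker_eq_bot_iff d).1 h
    have hc : Subgroup.center U4 = ⊤ := eq_top_iff.2 fun x _ =>
      Subgroup.mem_center_iff.2 fun y => hi (by rw [map_mul, map_mul, mul_comm])
    rw [center_SU4] at hc
    exact bot_ne_top hc
  · have hg : g ∈ d.ker := by rw [h]; exact Subgroup.mem_top g
    have h1 := congrArg Units.val (MonoidHom.mem_ker.1 hg)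
    simp only [d, MonoidHom.coe_toHomUnits, MonoidHom.comp_apply, Matrix.coe_detMonoidHom, Units.val_one] at h1
    exact h1

/-- The automorphism. -/
noncomputable def endo : U4 →* U4 where
  toFun g := ⟨⟨mat hN g, mat_det hN g⟩, fun u v => by
    show Cfsg.hermForm 4 F4 2 (mat hN g *ᵥ u) (mat hN g *ᵥ v) = Cfsg.hermForm 4 F4 2 u v
    rw [mat_mulVec, mat_mulVec, h4_eq, h4_eq]
    refine h4_of_qn4 (fun a => ?_) u v
    show qn4 (phi hN (R.r g (psi hN a))) = _
    rw [← phi_q, R.inv, phi_q hN, phi_psi]⟩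
  map_one' := Subtype.ext (Subtype.ext (map_one (mat hN)))
  map_mul' g h := Subtype.ext (Subtype.ext (map_mul (mat hN) g h))

theorem endo_apply (g : U4) (v : V) : suMat (endo hN g) *ᵥ phi hN v = phi hN (R.r g v) := by
  show mat hN g *ᵥ phi hN v = _
  rw [mat_mulVec]
  show phi hN (R.r g (psi hN (phi hN v))) = _
  rw [psi_phi]

include hN in
/-- The coordinates in the natural case. -/
theorem natural : ∃ (Φ : V ≃ₗ[ZMod 2] V4) (α : U4 ≃* U4),
    (∀ v, R.q v = qn4 (Φ v)) ∧ ∀ g v, Φ (R.r g v) = suMat (α g) *ᵥ Φ v := by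
  have hi : Function.Injective (endo hN) := fun g h e => R.inj (LinearEquiv.ext fun v => by
    have h1 := endo_apply hN g v
    rw [e, endo_apply] at h1
    exact (phi hN).injective h1.symm)
  exact ⟨phi hN, MulEquiv.ofBijective (endo hN) (Finite.injective_iff_bijective.1 hi), phi_q hN,
    fun g v => (endo_apply hN g v).symm⟩

end Rep

end CfsgLib.U62Cent
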