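import Cfsg.Agent.U62Cent.Setting

/-!
Two involutions, each in the radical of the centraliser of the other.
-/

set_option autoImplicit false
set_option maxRecDepth 100000
set_option maxHeartbeats 1000000
set_option linter.style.haveILetI false
set_option linter.unusedSectionVars false

namespace CfsgLib.U62Cent

open CfsgLib Subgroup

universe v

theorem zmod2_ne : ∀ a : ZMod 2, a ≠ 0 → a = 1 := by decide

variable {G : Type*} [Group G] {z : G} {V : Type v} [AddCommGroup V] [Module (ZMod 2) V] {R : Rep V}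

namespace Rep

theorem B_smul_right (R : Rep V) (c : ZMod 2) (v w : V) : R.B v (c • w) = c * R.B v w := by
  rcases (by decide : ∀ c : ZMod 2, c = 0 ∨ c = 1) c with rfl | rfl
  · rw [zero_smul, R.B_zero, zero_mul]
  · rw [one_smul, one_mul]

/-- The only vectors orthogonal to a hyperplane. -/
theorem orth_perp (R : Rep V) {a x : V} (h : ∀ w, R.B w a = 0 → R.B x w = 0) : x = 0 ∨ x = a := by
  by_cases h0 : ∀ w, R.B x w = 0
  · exact Or.inl (R.nondeg x h0)
  push Not at h0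
  obtain ⟨t, ht⟩ := h0
  have hta : R.B t a = 1 := zmod2_ne _ fun e => ht (h t e)
  refine Or.inr (eq_of_sum_zero (R.nondeg _ fun w => ?_))
  show R.B (x + a) w = 0
  have h1 := h (w + R.B w a • t) (by
    rw [R.B_comm (w + R.B w a • t) a, R.B_add_right, R.B_smul_right, R.B_comm a t, hta, mul_one, R.B_comm a w]
    exact (by decide : ∀ a : ZMod 2, a + a = 0) _)
  rw [R.B_add_right, R.B_smul_right, zmod2_ne _ ht, mul_one] at h1
  rw [R.B_add_left, R.B_comm a w]
  exact h1

end Rep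

namespace Cd

variable (D : Cd z R)

/-- The part of the radical commuting with an element. -/
def cJ (s : G) : Subgroup G := D.J ⊓ centralizer ({s} : Set G)

theorem mem_cJ {s x : G} : x ∈ D.cJ s ↔ x ∈ D.J ∧ Commute x s := by
  rw [cJ, Subgroup.mem_inf, mem_centralizer_singleton_iff]
  rfl

theorem card_cJ [Finite G] {s : G} (hs : s ∈ D.J) (h0 : D.pr s ≠ 0) : Nat.card (D.cJ s) = 256 := by
  classical
  let f : D.J →* Multiplicative (ZMod 2) :=
    { toFun := fun j => Multiplicative.ofAdd (R.B (D.pr j) (D.pr s))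
      map_one' := by rw [Subgroup.coe_one, D.pr_one, R.B_comm, R.B_zero]; rfl
      map_mul' := fun a b => by
        simp only [Subgroup.coe_mul, D.pr_mul _ a.2 _ b.2, R.B_add_left, ofAdd_add] }
  have hsurj : Function.Surjective f := by
    intro c
    obtain ⟨j, hj, hj0⟩ := D.exists_partner h0
    rcases (by decide : ∀ c : ZMod 2, c = 0 ∨ c = 1) c.toAdd with e | e
    · exact ⟨1, (map_one f).trans (Multiplicative.toAdd.injective e.symm)⟩
    · exact ⟨⟨j, hj⟩, Multiplicative.toAdd.injective (by rw [e]; exact zmod2_ne _ hj0)⟩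
  have h := Subgroup.card_eq_card_quotient_mul_card_subgroup f.ker
  rw [Nat.card_congr (QuotientGroup.quotientKerEquivOfSurjective f hsurj).toEquiv, D.card_J, Nat.card_congr
    Multiplicative.toAdd, Nat.card_zmod] at h
  have e : Nat.card f.ker = Nat.card (D.cJ s) := Nat.card_congr
    { toFun := fun a => ⟨a.1.1, D.mem_cJ.2 ⟨a.1.2, (D.comm_iff a.1.2 hs).2
        (Multiplicative.ofAdd.injective ((MonoidHom.mem_ker.1 a.2).trans ofAdd_zero.symm))⟩⟩
      invFun := fun x => ⟨⟨x.1, (D.mem_cJ.1 x.2).1⟩, MonoidHom.mem_ker.2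
        ((congrArg Multiplicative.ofAdd ((D.comm_iff (D.mem_cJ.1 x.2).1 hs).1 (D.mem_cJ.1 x.2).2)).trans ofAdd_zero)⟩
      left_inv := fun a => rfl
      right_inv := fun x => rfl }
  omega

theorem conj_cJ {s h x : G} (hz : Commute h z) (hs : Commute h s) (hx : x ∈ D.cJ s) :
    h * x * h⁻¹ ∈ D.cJ s := by
  obtain ⟨h1, h2⟩ := D.mem_cJ.1 hx
  exact D.mem_cJ.2 ⟨D.conj_mem hz h1, (hs.mul_left h2).mul_left hs.inv_left⟩

/-- An element of the radical whose commutators with the hyperplane of another element vanish. -/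
theorem central_cJ {s x : G} (hs : s ∈ D.J) (hx : x ∈ D.J) (h : ∀ y ∈ D.cJ s, Commute x y) :
    x = 1 ∨ x = z ∨ x = s ∨ x = s * z := by
  rcases R.orth_perp (a := D.pr s) (x := D.pr x) fun w hw => by
      obtain ⟨y, hy, rfl⟩ := D.pr_surj w
      exact (D.comm_iff hx hy).1 (h y (D.mem_cJ.2 ⟨hy, (D.comm_iff hy hs).2 hw⟩)) with e | e
  · exact ((D.pr_zero x hx).1 e).imp_right Or.inl
  · exact Or.inr (Or.inr (D.eq_of_pr hs hx e.symm))

theorem comm_cases {a b : G} (ha : a ∈ D.J) (hb : b ∈ D.J) : a * b * a⁻¹ * b⁻¹ = 1 ∨ a * b * a⁻¹ * b⁻¹ = z := by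
  by_cases h : R.B (D.pr a) (D.pr b) = 0
  · left
    rw [((D.comm_iff ha hb).2 h).eq]
    group
  · right
    rw [D.comm_z ha hb h, mul_assoc b z, ← (D.J_comm _ (inv_mem hb)).eq]
    group

theorem sq_cases {a : G} (ha : a ∈ D.J) : a * a = 1 ∨ a * a = z := by
  rw [D.sq a ha]
  split_ifs
  · exact Or.inl rfl
  · exact Or.inr rfl

variable {s : G} (Ds : Cd s R)

theorem inter_invol (hne : s ≠ z) {x : G} (hx : x ∈ D.J) (hx' : x ∈ Ds.J) : x * x = 1 := by
  rcases D.sq_cases hx with e | e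
  · exact e
  rcases Ds.sq_cases hx' with e' | e'
  · exact e'
  exact absurd (e'.symm.trans e) hne

theorem inter_comm (hne : s ≠ z) {x y : G} (hx : x ∈ D.J) (hx' : x ∈ Ds.J) (hy : y ∈ D.J) (hy' : y ∈ Ds.J) :
    Commute x y := by
  have key : x * y * x⁻¹ * y⁻¹ = 1 := by
    rcases D.comm_cases hx hy with e | e
    · exact e
    rcases Ds.comm_cases hx' hy' with e' | e'
    · exact e'
    exact absurd (e'.symm.trans e) hne
  exact mul_inv_eq_iff_eq_mul.1 (mul_inv_eq_one.1 key)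

/-- The common part of the two radicals as a set of vectors. -/
def meetV : AddSubgroup V where
  carrier := {w | ∃ x ∈ D.J, x ∈ Ds.J ∧ D.pr x = w}
  zero_mem' := ⟨1, one_mem _, one_mem _, D.pr_one⟩
  add_mem' := by
    rintro _ _ ⟨x, hx, hx', rfl⟩ ⟨y, hy, hy', rfl⟩
    exact ⟨x * y, mul_mem hx hy, mul_mem hx' hy', D.pr_mul x hx y hy⟩
  neg_mem' := by
    rintro w hw
    rwa [neg_eq_of_add_eq_zero_left (two_self w)]

theorem meetV_q (hne : s ≠ z) {w : V} (hw : w ∈ D.meetV Ds) : R.q w = 0 := by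
  obtain ⟨x, hx, hx', rfl⟩ := hw
  exact (D.invol_iff hx).1 (D.inter_invol Ds hne hx hx')

theorem meetV_inv {h : G} (hz : Commute h z) (hs : Commute h s) {w : V} (hw : w ∈ D.meetV Ds) :
    R.r (D.ph h) w ∈ D.meetV Ds := by
  obtain ⟨x, hx, hx', rfl⟩ := hw
  exact ⟨h * x * h⁻¹, D.conj_mem hz hx, Ds.conj_mem hs hx', D.pr_act h hz x hx⟩

theorem meetV_stab (hs : s ∈ D.J) (h0 : D.pr s ≠ 0) {u : U4} (hu : R.r u (D.pr s) = D.pr s) {w : V}
    (hw : w ∈ D.meetV Ds) : R.r u w ∈ D.meetV Ds := by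
  obtain ⟨a, ha, rfl⟩ := D.ph_surj u
  obtain ⟨h, hz, hc, e⟩ := D.fix_lift ha hs h0 hu
  rw [← e]
  exact D.meetV_inv Ds hz hc hw

/-- The image of the other radical in the unitary group. -/
noncomputable def other : Ds.cJ z →* U4 where
  toFun a := D.ph a
  map_one' := D.ph_one
  map_mul' a b := D.ph_mul _ _ (Ds.mem_cJ.1 a.2).2 (Ds.mem_cJ.1 b.2).2

theorem mem_other_ker {a : Ds.cJ z} : a ∈ (D.other Ds).ker ↔ (a : G) ∈ D.J := by
  rw [MonoidHom.mem_ker]
  exact D.ph_J _ (Ds.mem_cJ.1 a.2).2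

theorem other_elem (hs : s ∈ D.J) : ∀ e ∈ (D.other Ds).range, e * e = 1 := by
  rintro _ ⟨a, rfl⟩
  have hz := (Ds.mem_cJ.1 a.2).2
  show D.ph a * D.ph a = 1
  rw [← D.ph_mul _ _ hz hz]
  refine D.ph_of_J ?_
  rcases Ds.sq_cases (Ds.mem_cJ.1 a.2).1 with e | e <;> rw [e]
  exacts [one_mem _, hs]

theorem other_card [Finite G] (hz : z ∈ Ds.J) (h0 : Ds.pr z ≠ 0) :
    Nat.card (D.other Ds).range * Nat.card (D.other Ds).ker = 256 := by
  rw [← Ds.card_cJ hz h0, Subgroup.card_eq_card_quotient_mul_card_subgroup (D.other Ds).ker,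
    Nat.card_congr (QuotientGroup.quotientKerEquivRange (D.other Ds)).toEquiv]

theorem ker_card_le [Finite G] :
    Nat.card (D.other Ds).ker ≤ Nat.card (D.meetV Ds) * 2 := by
  classical
  haveI := R.finite
  have hmem : ∀ a : (D.other Ds).ker, (a.1.1 : G) ∈ D.J ∧ (a.1.1 : G) ∈ Ds.J := fun a =>
    ⟨(D.mem_other_ker Ds).1 a.2, (Ds.mem_cJ.1 a.1.2).1⟩
  let f : (D.other Ds).ker → D.meetV Ds × ZMod 2 := fun a =>
    (⟨D.pr a.1.1, _, (hmem a).1, (hmem a).2, rfl⟩,
      if (a.1.1 : G) = (D.pr_surj (D.pr a.1.1)).choose then 0 else 1)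
  have hf : Function.Injective f := by
    intro a b e
    obtain ⟨e1, e2⟩ := Prod.ext_iff.1 e
    have e1' : D.pr a.1.1 = D.pr b.1.1 := congrArg Subtype.val e1
    obtain ⟨hc, hcp⟩ := (D.pr_surj (D.pr a.1.1)).choose_spec
    simp only [f] at e2
    have key : (D.pr_surj (D.pr a.1.1)).choose = (D.pr_surj (D.pr b.1.1)).choose := by simp only [e1']
    rw [← key] at e2
    refine Subtype.ext (Subtype.ext ?_)
    rcases D.eq_of_pr hc (hmem a).1 hcp with p | p <;>
      rcases D.eq_of_pr hc (hmem b).1 (by rw [hcp, e1']) with q | q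
    · exact p.trans q.symm
    · rw [if_pos p, if_neg (fun r => D.z_ne (mul_eq_left.1 (q.symm.trans r)))] at e2
      simp at e2
    · rw [if_neg (fun r => D.z_ne (mul_eq_left.1 (p.symm.trans r))), if_pos q] at e2
      simp at e2
    · exact p.trans q.symm
  have := Nat.card_le_card_of_injective f hf
  rwa [Nat.card_prod, Nat.card_zmod] at this

theorem meetV_big [Finite G] (hs : s ∈ D.J) (hz : z ∈ Ds.J) (h0 : Ds.pr z ≠ 0) : 8 ≤ Nat.card (D.meetV Ds) := by
  have h1 := elem_le _ (D.other_elem Ds hs)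
  have h2 := D.other_card Ds hz h0
  have h3 := D.ker_card_le Ds
  have h4 := Nat.mul_le_mul_right (Nat.card (D.other Ds).ker) h1
  omega

theorem other_ne_bot [Finite G] (hne : s ≠ z) (hz : z ∈ Ds.J) (h0 : Ds.pr z ≠ 0) :
    (D.other Ds).range ≠ ⊥ := by
  intro hbot
  have hle : ∀ x ∈ Ds.cJ z, x ∈ D.J := fun x hx => by
    have h : (D.other Ds) ⟨x, hx⟩ ∈ (D.other Ds).range := ⟨_, rfl⟩
    rw [hbot, Subgroup.mem_bot] at h
    exact (D.mem_other_ker Ds (a := ⟨x, hx⟩)).1 (MonoidHom.mem_ker.2 h)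
  have hsub : (Ds.cJ z : Set G) ⊆ {1, s, z, z * s} := fun x hx => by
    obtain ⟨hxJ, -⟩ := Ds.mem_cJ.1 hx
    rcases Ds.central_cJ hz hxJ fun y hy =>
      D.inter_comm Ds hne (hle x hx) hxJ (hle y hy) (Ds.mem_cJ.1 hy).1 with e | e | e | e <;> simp [e]
  have h1 := Set.ncard_le_ncard hsub
  rw [← Nat.card_coe_set_eq] at h1
  have h2 : ({1, s, z, z * s} : Set G).ncard ≤ 4 :=
    (Set.ncard_insert_le _ _).trans (Nat.succ_le_succ ((Set.ncard_insert_le _ _).trans
      (Nat.succ_le_succ ((Set.ncard_insert_le _ _).trans (Nat.succ_le_succ (Set.ncard_singleton _).le)))))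
  have h3 := Ds.card_cJ hz h0
  simp only [SetLike.coe_sort_coe] at h1
  omega

/-- The other radical contains the centre when one lies in the other. -/
theorem mem_of_mem [Finite G] (hs : s ∈ D.J) (hne : s ≠ z) : z ∈ Ds.J := by
  by_contra hz
  have h0 : D.pr s ≠ 0 := fun e => ((D.pr_zero s hs).1 e).elim Ds.z_ne hne
  have hc := Ds.other_card D hs h0
  have hker : (Ds.other D).ker.map (D.cJ s).subtype ≤ Subgroup.zpowers s := by
    rintro _ ⟨a, ha, rfl⟩
    have haJ' := (Ds.mem_other_ker D).1 ha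
    obtain ⟨haJ, has⟩ := D.mem_cJ.1 a.2
    have hcom : ∀ y ∈ D.cJ s, Commute (a : G) y := fun y hy => by
      obtain ⟨hyJ, hys⟩ := D.mem_cJ.1 hy
      rcases D.comm_cases haJ hyJ with e | e
      · exact mul_inv_eq_iff_eq_mul.1 (mul_inv_eq_one.1 e)
      · refine absurd ?_ hz
        rw [← e, show (a : G) * y * (a : G)⁻¹ * y⁻¹ = (a : G) * (y * (a : G)⁻¹ * y⁻¹) by group]
        exact mul_mem haJ' (Ds.conj_mem hys (inv_mem haJ'))
    show (a : G) ∈ Subgroup.zpowers s
    rcases D.central_cJ hs haJ hcom with e | e | e | e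
    · rw [e]; exact one_mem _
    · exact absurd (e ▸ haJ') hz
    · rw [e]; exact Subgroup.mem_zpowers s
    · refine absurd ?_ hz
      have := mul_mem (inv_mem Ds.z_mem) (e ▸ haJ' : s * z ∈ Ds.J)
      rwa [inv_mul_cancel_left] at this
  have h2 : Nat.card (Ds.other D).ker ≤ 2 := by
    rw [← Subgroup.card_map_of_injective (K := (Ds.other D).ker) (D.cJ s).subtype_injective]
    refine (Nat.le_of_dvd Nat.card_pos (Subgroup.card_dvd_of_le hker)).trans ?_
    rw [Nat.card_zpowers, Ds.orderOf_z]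
  have h3 : Nat.card (Ds.other D).range ∣ 25920 := card_SU4 ▸ Subgroup.card_subgroup_dvd_card _
  have h4 : Nat.card (Ds.other D).range ∣ 256 := ⟨_, hc.symm⟩
  have h5 : Nat.card (Ds.other D).range ∣ 64 := (Nat.dvd_gcd h3 h4).trans (by norm_num)
  have h6 := Nat.le_of_dvd (by norm_num) h5
  have h7 := Nat.mul_le_mul h6 h2
  omega

end Cd

end CfsgLib.U62Cent
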