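import Cfsg.Agent.U62Cent.UMat

/-!
Points, lines and point stabilisers of the four-dimensional unitary group.
-/

set_option autoImplicit false
set_option maxRecDepth 100000
set_option maxHeartbeats 1000000
set_option linter.style.haveILetI false
set_option linter.unusedSectionVars false

open scoped Matrix

namespace CfsgLib.U62Cent

open CfsgLib.FiLarge (F4 om omp)
open CfsgLib.Unitary (suMat suMat_mul suMat_one su_ext su_preserves)

/-- The parity of the support. -/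
def parity4 (a : V4) : ZMod 2 := ∑ i, if a i = 0 then 0 else 1

theorem parity4_pt : ∀ v : V4, parity4 v = 0 → v ≠ 0 → IsPt4 v := by decide +kernel

theorem pt_parity4 : ∀ v : V4, IsPt4 v → parity4 v = 0 := by decide +kernel

/-- Every point moves exactly to the base point. -/
theorem to_p0 {p : V4} (hp : IsPt4 p) : ∃ g : U4, suMat g *ᵥ p = p0 := by
  obtain ⟨g, c, hc, hg⟩ := exists_move hp p0_pt
  have key : ∀ c : F4, c ≠ 0 → ∃ a : ZMod 3,
      (fun i => omp ((![a, a, a, 0] : Fin 4 → ZMod 3) i) * (c • p0) i) = p0 := by decide +kernel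
  obtain ⟨a, ha⟩ := key c hc
  have hl : ∑ i, (![a, a, a, 0] : Fin 4 → ZMod 3) i = 0 := by
    simp [Fin.sum_univ_four]
    exact (by decide : ∀ a : ZMod 3, a + a + a = 0) a
  refine ⟨dE ![a, a, a, 0] * g, ?_⟩
  rw [suMat_mul, ← Matrix.mulVec_mulVec, hg, dE_apply hl]
  exact ha

theorem pt_back {g : U4} {p : V4} (hg : suMat g *ᵥ p = p0) : suMat g⁻¹ *ᵥ p0 = p := by
  rw [← hg, su_inv_apply]

theorem perp_point0 : ∀ r : V4, IsPt4 r →
    (∀ x : V4, IsPt4 x → h4 x p0 = 0 → h4 x r = 0) → ∃ c : F4, c ≠ 0 ∧ r = c • p0 := by decide +kernel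

/-- A point orthogonal to the whole hyperplane of a point. -/
theorem perp_point {p r : V4} (hp : IsPt4 p) (hr : IsPt4 r)
    (h : ∀ x, IsPt4 x → h4 x p = 0 → h4 x r = 0) : ∃ c : F4, c ≠ 0 ∧ r = c • p := by
  obtain ⟨g, hg⟩ := to_p0 hp
  obtain ⟨c, hc, e⟩ := perp_point0 _ (pt_map hr g) fun x hx h0 => by
    rw [← su_h4_inv]
    refine h _ (pt_map hx _) ?_
    rw [su_h4_inv, hg, h0]
  refine ⟨c, hc, ?_⟩
  have e' := congrArg (fun y => suMat g⁻¹ *ᵥ y) e
  simp only [su_inv_apply, Matrix.mulVec_smul, pt_back hg] at e'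
  exact e'

/-- A point separating two points. -/
theorem exists_sep_pt {p q : V4} (hp : IsPt4 p) (hq : IsPt4 q) (hne : tvp p ≠ tvp q) :
    ∃ x, IsPt4 x ∧ h4 x p = 0 ∧ h4 x q ≠ 0 := by
  by_contra h
  push Not at h
  obtain ⟨c, hc, rfl⟩ := perp_point hp hq h
  exact hne (tvp_smul hp hc).symm

theorem p0_common : ∀ q : V4, IsPt4 q → ∃ r : V4, IsPt4 r ∧ h4 r p0 = 0 ∧ h4 r q = 0 := by decide +kernel

theorem p0_apart : ∀ q : V4, IsPt4 q → ∃ r : V4, IsPt4 r ∧ h4 r p0 ≠ 0 ∧ h4 r q ≠ 0 := by decide +kernel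

theorem exists_common {p q : V4} (hp : IsPt4 p) (hq : IsPt4 q) :
    ∃ r, IsPt4 r ∧ h4 r p = 0 ∧ h4 r q = 0 := by
  obtain ⟨g, hg⟩ := to_p0 hp
  obtain ⟨r, hr, h1, h2⟩ := p0_common _ (pt_map hq g)
  exact ⟨suMat g⁻¹ *ᵥ r, pt_map hr _, by rw [su_h4_inv, hg, h1], by rw [su_h4_inv, h2]⟩

theorem exists_apart {p q : V4} (hp : IsPt4 p) (hq : IsPt4 q) :
    ∃ r, IsPt4 r ∧ h4 r p ≠ 0 ∧ h4 r q ≠ 0 := by
  obtain ⟨g, hg⟩ := to_p0 hp
  obtain ⟨r, hr, h1, h2⟩ := p0_apart _ (pt_map hq g)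
  exact ⟨suMat g⁻¹ *ᵥ r, pt_map hr _, by rw [su_h4_inv, hg]; exact h1, by rw [su_h4_inv]; exact h2⟩

theorem perp_all : ∀ x : V4, (∀ p : V4, IsPt4 p → h4 x p = 0) → x = 0 := by decide +kernel

theorem p0_perp : ∀ q : V4, h4 q p0 = 0 → q 0 = q 1 := by decide +kernel

theorem h4_tail (u v : V4) (hu : u 0 = u 1) (hv : v 0 = v 1) :
    h4 ![0, 0, u 2, u 3] ![0, 0, v 2, v 3] = h4 u v := by
  simp [h4, hu, hv, add_self_F4]

theorem line_shape : ∀ a b s t : F4, IsPt4 ![0, 0, a, b] → h4 ![0, 0, s, t] ![0, 0, a, b] = 0 →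
    ∃ β : F4, (![0, 0, s, t] : V4) = β • ![0, 0, a, b] := by decide +kernel

theorem smul_wv : ∀ k a b : F4, k • (![0, 0, a, b] : V4) = ![0, 0, k * a, k * b] := by decide +kernel

/-- The points orthogonal to every common neighbour of two points lie on their line. -/
theorem perp_span {p q r : V4} (hp : IsPt4 p) (hq : IsPt4 q) (hpq : h4 p q = 0) (hne : tvp p ≠ tvp q)
    (hr : IsPt4 r) (h : ∀ x, IsPt4 x → h4 x p = 0 → h4 x q = 0 → h4 x r = 0) :
    ∃ α β : F4, r = α • p + β • q := by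
  obtain ⟨g, hg⟩ := to_p0 hp
  set q' := suMat g *ᵥ q with hq'
  set r' := suMat g *ᵥ r with hr'
  have e1 : h4 p0 q' = 0 := by rw [← hg, hq', su_h4, hpq]
  have e2 : h4 r' p0 = 0 := by
    rw [← hg, hr', su_h4, h4_zero_iff]
    exact h p hp hp.2 hpq
  have e3 : h4 r' q' = 0 := by
    rw [hr', hq', su_h4, h4_zero_iff]
    exact h q hq (h4_zero_iff.1 hpq) hq.2
  have sq : q' = q' 1 • p0 + ![0, 0, q' 2, q' 3] := by
    have e := p0_perp q' (h4_zero_iff.1 e1)
    funext i; fin_cases i <;> simp [p0, e]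
  have sr : r' = r' 1 • p0 + ![0, 0, r' 2, r' 3] := by
    have e := p0_perp r' e2
    funext i; fin_cases i <;> simp [p0, e]
  have hw : IsPt4 ![0, 0, q' 2, q' 3] := by
    refine ⟨fun e => hne ?_, ?_⟩
    · rw [e, add_zero] at sq
      have hc : q' 1 ≠ 0 := fun e0 => (pt_map hq g).1 (by rw [← hq', sq, e0, zero_smul])
      have e' := congrArg (fun y => suMat g⁻¹ *ᵥ y) sq
      simp only [hq', su_inv_apply, Matrix.mulVec_smul, pt_back hg] at e'
      rw [e', tvp_smul hp hc]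
    · rw [h4_tail _ _ (p0_perp _ (h4_zero_iff.1 e1)) (p0_perp _ (h4_zero_iff.1 e1))]
      exact (pt_map hq g).2
  have hw2 : h4 ![0, 0, r' 2, r' 3] ![0, 0, q' 2, q' 3] = 0 := by
    rw [h4_tail _ _ (p0_perp _ e2) (p0_perp _ (h4_zero_iff.1 e1))]
    exact e3
  obtain ⟨β, hβ⟩ := line_shape _ _ _ _ hw hw2
  have e : r' = (r' 1 + β * q' 1) • p0 + β • q' := by
    conv_rhs => arg 2; rw [sq, smul_add, ← hβ, smul_smul]
    conv_lhs => rw [sr]
    rw [add_smul, add_assoc, ← add_assoc ((β * q' 1) • p0), v4_self, zero_add]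
  refine ⟨r' 1 + β * q' 1, β, ?_⟩
  have e' := congrArg (fun y => suMat g⁻¹ *ᵥ y) e
  simp only [hr', hq', su_inv_apply, Matrix.mulVec_smul, Matrix.mulVec_add, pt_back hg] at e'
  exact e'

/-- A line has at most five points. -/
theorem line_card (p q : V4) :
    {g : U4 | ∃ r, IsPt4 r ∧ (∃ α β : F4, r = α • p + β • q) ∧ g = tvp r}.ncard ≤ 5 := by
  refine le_trans (Set.ncard_le_ncard (t := insert (tvp p) (Set.range fun c : F4 => tvp (c • p + q))) ?_) ?_
  · rintro g ⟨r, hr, ⟨α, β, rfl⟩, rfl⟩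
    by_cases hb : β = 0
    · left
      rw [hb, zero_smul, add_zero] at hr ⊢
      have ha : α ≠ 0 := fun e => hr.1 (by rw [e, zero_smul])
      have hp : IsPt4 p := by
        have := pt_smul hr (c := α * α) (mul_ne_zero ha ha)
        rwa [smul_smul, f4_inv α ha, one_smul] at this
      rw [tvp_smul hp ha]
    · right
      have hpt : IsPt4 ((β * β * α) • p + q) := by
        have := pt_smul hr (c := β * β) (mul_ne_zero hb hb)
        rwa [smul_add, smul_smul, smul_smul, f4_inv β hb, one_smul] at this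
      refine ⟨β * β * α, ?_⟩
      show tvp ((β * β * α) • p + q) = _
      rw [← tvp_smul hpt hb, smul_add, smul_smul,
        show β * (β * β * α) = β * β * β * α by ring, f4_inv β hb, one_mul]
  · refine (Set.ncard_insert_le _ _).trans ?_
    have := Finite.card_range_le (fun c : F4 => tvp (c • p + q))
    rw [Nat.card_coe_set_eq, Nat.card_eq_fintype_card, show Fintype.card F4 = 4 from rfl] at this
    omega

/-- The point of a line orthogonal to a point. -/
theorem exists_on_line {a p q : V4} (hp : IsPt4 p) (hq : IsPt4 q) (hap : h4 a p ≠ 0) (hpq : h4 p q = 0)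
    (hne : tvp p ≠ tvp q) : ∃ c : F4, IsPt4 (q + c • p) ∧ h4 (q + c • p) a = 0 := by
  have hpa : h4 p a ≠ 0 := fun e => hap (h4_zero_iff.1 e)
  refine ⟨h4 q a * (h4 p a * h4 p a), ⟨fun e => ?_, ?_⟩, ?_⟩
  · have e' : q = (h4 q a * (h4 p a * h4 p a)) • p := funext fun i => eq_of_add_F4 _ _ (congrFun e i)
    exact hne (by
      conv_rhs => rw [e']
      rw [tvp_smul hp fun h0 => hq.1 (by rw [e', h0, zero_smul])])
  · simp [h4_add_left, h4_add_right, h4_smul_left, h4_smul_right, hp.2, hq.2, hpq, h4_zero_iff.1 hpq]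
  · rw [h4_add_left, h4_smul_left,
      show h4 q a * (h4 p a * h4 p a) * h4 p a = h4 q a * (h4 p a * h4 p a * h4 p a) by ring, f4_inv _ hpa,
      mul_one, add_self_F4]

/-- Two orthogonal transvections do not multiply to one or to a transvection. -/
theorem mul_tvp_ne {p q : V4} (hp : IsPt4 p) (hq : IsPt4 q) (hne : tvp p ≠ tvp q) :
    tvp p * tvp q ≠ 1 ∧ ∀ r, IsPt4 r → h4 p q = 0 → tvp p * tvp q ≠ tvp r := by
  refine ⟨fun e => hne ?_, fun r hr hpq e => hne ?_⟩
  · rw [mul_eq_one_iff_eq_inv.1 e, tvp_inv hq]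
  · obtain ⟨x, hx, h1, h2⟩ := exists_sep_pt hp hq hne
    obtain ⟨y, hy, k1, k2⟩ := exists_sep_pt hq hp (Ne.symm hne)
    have eq : tvp q = tvp r := by
      have h := congrArg (fun g => suMat g *ᵥ x) e
      simp only [suMat_mul, ← Matrix.mulVec_mulVec, tvp_apply hq, tvp_apply hp, h4_add_left, h4_smul_left,
        tvp_apply hr, h1, h4_zero_iff.1 hpq, mul_zero, zero_smul, add_zero, add_right_inj] at h
      have hxr : h4 x r ≠ 0 := fun e0 => by
        rw [e0, zero_smul, smul_eq_zero] at h; exact h.elim h2 hq.1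
      have h' := congrArg (fun v => (h4 x r * h4 x r) • v) h
      simp only [smul_smul, f4_inv _ hxr, one_smul] at h'
      rw [← h', tvp_smul hq (mul_ne_zero (mul_ne_zero hxr hxr) h2)]
    have ep : tvp p = tvp r := by
      have h := congrArg (fun g => suMat g *ᵥ y) e
      simp only [suMat_mul, ← Matrix.mulVec_mulVec, tvp_apply hq, k1, zero_smul, add_zero, tvp_apply hp,
        tvp_apply hr, add_right_inj] at h
      have hyr : h4 y r ≠ 0 := fun e0 => by
        rw [e0, zero_smul, smul_eq_zero] at h; exact h.elim k2 hp.1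
      have h' := congrArg (fun v => (h4 y r * h4 y r) • v) h
      simp only [smul_smul, f4_inv _ hyr, one_smul] at h'
      rw [← h', tvp_smul hp (mul_ne_zero (mul_ne_zero hyr hyr) k2)]
    rw [ep, eq]

theorem pts_card : (Finset.univ.filter fun p : V4 => IsPt4 p).card = 135 := by decide +kernel

theorem pt_scalars : ∀ p : V4, IsPt4 p →
    ((Finset.univ.filter fun q : V4 => IsPt4 q).filter fun q => ∃ c : F4, c ≠ 0 ∧ q = c • p).card = 3 := by
  decide +kernel

/-- The first point of the standard pair. -/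
def p1 : V4 := ![0, 0, 1, 1]

theorem p1_pt : IsPt4 p1 ∧ h4 p0 p1 = 0 := by decide +kernel

theorem s0_prod : s0 = tvp p0 * tvp p1 := Subtype.ext (Subtype.ext (by
  show pmat (Equiv.swap 0 1 * Equiv.swap 2 3) = suMat (tvp p0 * tvp p1)
  rw [suMat_mul, tvp_mat p0_pt, tvp_mat p1_pt.1]
  decide +kernel))

/-- The fixed space of the standard involution. -/
def LS (x : V4) : Prop := x 0 = x 1 ∧ x 2 = x 3

theorem s0_apply : ∀ x : V4, suMat s0 *ᵥ x = ![x 1, x 0, x 3, x 2] := fun x => by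
  rw [s0, pE_apply]
  funext i
  fin_cases i <;> simp [Equiv.swap_apply_def]

theorem s0_fix (x : V4) : suMat s0 *ᵥ x = x ↔ LS x := by
  rw [s0_apply]
  constructor
  · intro h; exact ⟨(congrFun h 1), (congrFun h 3)⟩
  · rintro ⟨h1, h2⟩; funext i; fin_cases i <;> simp [h1, h2]

theorem s0_image (x : V4) : suMat s0 *ᵥ x + x = ![x 0 + x 1, x 0 + x 1, x 2 + x 3, x 2 + x 3] := by
  rw [s0_apply]
  funext i
  fin_cases i <;> simp <;> ring

theorem omp_vals : omp 0 = 1 ∧ omp 1 = om ∧ omp 2 = om * om := by decide +kernel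

/-- An element of order three commuting with the standard involution. -/
noncomputable def d3 : U4 := dE ![1, 1, 2, 2]

theorem d3_apply (x : V4) : suMat d3 *ᵥ x = ![om * x 0, om * x 1, om * om * x 2, om * om * x 3] := by
  rw [d3, dE_apply (by decide)]
  funext i
  fin_cases i <;> simp [omp_vals]

theorem d3_s0 : d3 * s0 = s0 * d3 := su_ext fun x => by
  rw [suMat_mul, suMat_mul, ← Matrix.mulVec_mulVec, ← Matrix.mulVec_mulVec, s0_apply, d3_apply, d3_apply,
    s0_apply]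
  simp

theorem d3_cube : d3 ^ 3 = 1 := by
  rw [pow_succ, pow_two, d3, ← dE_add (by decide) (by decide), ← dE_add (by decide) (by decide),
    show (![1, 1, 2, 2] : Fin 4 → ZMod 3) + ![1, 1, 2, 2] + ![1, 1, 2, 2] = 0 by decide, dE_zero]

theorem d3_fpf : ∀ x : V4, (![om * x 0, om * x 1, om * om * x 2, om * om * x 3] : V4) = x → x = 0 := by
  decide +kernel

/-- An element of order three scaling the base point. -/
noncomputable def d1 : U4 := dE ![1, 1, 1, 0]

theorem d1_p0 : suMat d1 *ᵥ p0 = om • p0 := by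
  rw [d1, dE_apply (by decide)]
  decide +kernel

theorem d1_tau : d1 * tvp p0 = tvp p0 * d1 := by
  have h := tvp_conj p0_pt d1
  rw [d1_p0, tvp_smul p0_pt (by decide +kernel)] at h
  exact mul_inv_eq_iff_eq_mul.1 h

theorem d1_cube : d1 ^ 3 = 1 := by
  rw [pow_succ, pow_two, d1, ← dE_add (by decide) (by decide), ← dE_add (by decide) (by decide),
    show (![1, 1, 1, 0] : Fin 4 → ZMod 3) + ![1, 1, 1, 0] + ![1, 1, 1, 0] = 0 by decide, dE_zero]

/-- An element of order three fixing the base point. -/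
noncomputable def g3 : U4 := dE ![0, 0, 1, 2]

theorem g3_apply (x : V4) : suMat g3 *ᵥ x = ![x 0, x 1, om * x 2, om * om * x 3] := by
  rw [g3, dE_apply (by decide)]
  funext i
  fin_cases i <;> simp [omp_vals]

theorem g3_p0 : suMat g3 *ᵥ p0 = p0 := by rw [g3_apply]; decide +kernel

theorem stab_pair : ∀ v : V4, h4 v p0 = 1 →
    parity4 (h4 v (wv 1 0) • p0 + h4 v p0 • wv 1 0 + (om * h4 v p0) • p0) = 1 := by decide +kernel

theorem stab_om : ∀ y : V4, h4 y p0 = 0 → (∀ c : F4, y ≠ c • p0) →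
    ∃ a b : F4, h4 y (wv a b) = om := by decide +kernel

theorem g3_sum : ∀ v : V4, h4 v p0 = 0 →
    ∃ c : F4, (![v 0 + v 0 + v 0, v 1 + v 1 + v 1, (om * om + om + 1) * v 2,
      (om * om * (om * om) + om * om + 1) * v 3] : V4) = c • p0 := by decide +kernel

/-- A totally singular set invariant under the stabiliser absorbs the vectors it nearly fixes. -/
theorem stab_absorb (M : AddSubgroup V4) (hs : ∀ m ∈ M, parity4 m = 0) (h0 : p0 ∈ M)
    (hbig : ∃ m ∈ M, m ≠ 0 ∧ m ≠ p0) (hinv : ∀ g : U4, suMat g *ᵥ p0 = p0 → ∀ m ∈ M, suMat g *ᵥ m ∈ M)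
    {v : V4} (hv : (h4 p0 v).im = 0) (hstab : ∀ g : U4, suMat g *ᵥ p0 = p0 → suMat g *ᵥ v + v ∈ M) :
    v ∈ M := by
  have him : ∀ x : V4, (h4 p0 x).im = 0 → h4 x p0 = 0 ∨ h4 x p0 = 1 := fun x hx => by
    rw [h4_swap p0 x]
    exact (by decide +kernel : ∀ a : F4, a.im = 0 → a * a = 0 ∨ a * a = 1) _ hx
  have hperp : ∀ x : V4, (h4 p0 x).im = 0 → (∀ g : U4, suMat g *ᵥ p0 = p0 → suMat g *ᵥ x + x ∈ M) →
      h4 x p0 = 0 := fun x hx hst => by
    refine (him x hx).resolve_right fun h1 => ?_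
    have h2 := stab_pair x h1
    have h3 := hs _ (hst _ (hE_p0 (t := (1, 0, om)) (by decide +kernel)))
    rw [hE_apply (by decide +kernel)] at h3
    rw [show x + h4 x (wv 1 0) • p0 + h4 x p0 • wv 1 0 + (om * h4 x p0) • p0 + x =
      (x + x) + (h4 x (wv 1 0) • p0 + h4 x p0 • wv 1 0 + (om * h4 x p0) • p0) by abel, v4_self, zero_add, h2] at h3
    exact one_ne_zero h3
  have hst : ∀ m ∈ M, ∀ g : U4, suMat g *ᵥ p0 = p0 → suMat g *ᵥ m + m ∈ M :=
    fun m hm g hg => M.add_mem (hinv g hg m hm) hm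
  have himM : ∀ m ∈ M, (h4 p0 m).im = 0 := fun m hm => by
    have key : ∀ x : V4, parity4 x = 0 → parity4 (p0 + x) = 0 → (h4 p0 x).im = 0 := by decide +kernel
    exact key m (hs m hm) (hs _ (M.add_mem h0 hm))
  have hM0 : ∀ m ∈ M, h4 m p0 = 0 := fun m hm => hperp m (himM m hm) (hst m hm)
  have hom : om • p0 ∈ M := by
    obtain ⟨m, hm, hm0, hm1⟩ := hbig
    by_cases hc : ∃ c : F4, m = c • p0
    · obtain ⟨c, rfl⟩ := hc
      rcases (by decide +kernel : ∀ c : F4, c = 0 ∨ c = 1 ∨ c = om ∨ c = 1 + om) c with rfl | rfl | rfl | rfl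
      · exact absurd (zero_smul _ _) hm0
      · exact absurd (one_smul _ _) hm1
      · exact hm
      · have := M.add_mem hm h0
        rwa [add_smul, one_smul, add_comm p0, add_assoc, v4_self, add_zero] at this
    · push Not at hc
      obtain ⟨a, b, hab⟩ := stab_om m (hM0 m hm) hc
      obtain ⟨c, ht⟩ := (by decide +kernel : ∀ a b : F4, ∃ c, OkU (a, b, c)) a b
      have h := hst m hm _ (hE_p0 ht)
      rw [hE_apply ht, hM0 m hm, hab] at h
      simp only [zero_smul, mul_zero, add_zero] at h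
      rwa [add_comm m, add_assoc, v4_self, add_zero] at h
  have hline : ∀ c : F4, c • p0 ∈ M := by
    intro c
    rcases (by decide +kernel : ∀ c : F4, c = 0 ∨ c = 1 ∨ c = om ∨ c = 1 + om) c with rfl | rfl | rfl | rfl
    · rw [zero_smul]; exact M.zero_mem
    · rwa [one_smul]
    · exact hom
    · rw [add_smul, one_smul]; exact M.add_mem h0 hom
  have hv0 := hperp v hv hstab
  have hgg : suMat (g3 * g3) *ᵥ p0 = p0 := by rw [suMat_mul, ← Matrix.mulVec_mulVec, g3_p0, g3_p0]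
  have h1 := hstab g3 g3_p0
  have h2 := hstab _ hgg
  have h3 := M.add_mem h1 h2
  obtain ⟨c, hc⟩ := g3_sum v hv0
  have e : v = suMat g3 *ᵥ v + v + (suMat (g3 * g3) *ᵥ v + v) + c • p0 := by
    rw [suMat_mul, ← Matrix.mulVec_mulVec, g3_apply, g3_apply, ← hc]
    funext i
    fin_cases i <;> simp <;> grind [add_self_F4]
  rw [e]
  exact M.add_mem h3 (hline c)

theorem sylow_card (Q : Sylow 2 U4) : Nat.card (Q : Subgroup U4) = 64 := by
  haveI : Fact (Nat.Prime 2) := ⟨Nat.prime_two⟩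
  rw [Q.card_eq_multiplicity, show Nat.card U4 = 25920 from card_SU4,
    show (25920 : ℕ) = 2 ^ 6 * 405 by norm_num,
    Nat.factorization_mul (by norm_num) (by norm_num), Finsupp.add_apply, Nat.prime_two.factorization_pow,
    Finsupp.single_eq_same, Nat.factorization_eq_zero_of_not_dvd (by norm_num)]
  norm_num

/-- An elementary abelian subgroup has order at most sixteen. -/
theorem elem_le (E : Subgroup U4) (hE : ∀ a ∈ E, a * a = 1) : Nat.card E ≤ 16 := by
  haveI : Fact (Nat.Prime 2) := ⟨Nat.prime_two⟩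
  by_contra hlt
  push Not at hlt
  have hp : IsPGroup 2 E := fun a => ⟨1, Subtype.ext (by simpa [pow_two] using hE a a.2)⟩
  obtain ⟨P, hP⟩ := hp.exists_le_sylow
  obtain ⟨Q, hQ⟩ := two_UU.exists_le_sylow
  obtain ⟨x, hx⟩ := MulAction.exists_smul_eq U4 P Q
  set E' := E.map (MulAut.conj x).toMonoidHom
  have hE'Q : E' ≤ Q := by
    rintro _ ⟨a, ha, rfl⟩
    rw [← hx]
    exact ⟨a, hP ha, rfl⟩
  have hE'2 : ∀ a ∈ E', a * a = 1 := by
    rintro _ ⟨a, ha, rfl⟩
    rw [← map_mul, hE a ha, map_one]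
  have hcard : Nat.card E' = Nat.card E := Subgroup.card_map_of_injective (MulAut.conj x).injective
  have hQc := sylow_card Q
  obtain ⟨i, j, hi, hj, hi2, hj2, hij⟩ := quat_UU
  have hidx := Subgroup.card_mul_index (E'.subgroupOf Q)
  rw [Nat.card_congr (Subgroup.subgroupOfEquivOfLe hE'Q).toEquiv, hQc, hcard] at hidx
  have hi2' : (E'.subgroupOf Q).index ≤ 2 := by
    by_contra h
    have := Nat.mul_le_mul_left (Nat.card E) (show 3 ≤ (E'.subgroupOf Q).index by omega)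
    have hdvd : Nat.card E ∣ 64 := ⟨_, hidx.symm⟩
    have := Nat.le_of_dvd (by norm_num) hdvd
    interval_cases hN : Nat.card E <;> omega
  have hmem : ∀ a ∈ (Q : Subgroup U4), a * a ≠ 1 → a ∉ E' := fun a _ h h' => h (hE'2 a h')
  have hiQ := hQ hi
  have hjQ := hQ hj
  rcases Nat.lt_or_ge (E'.subgroupOf Q).index 2 with h1 | h1
  · have h0 := Subgroup.index_ne_zero_of_finite (H := E'.subgroupOf Q)
    have htop : E'.subgroupOf Q = ⊤ := Subgroup.index_eq_one.1 (by omega)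
    exact hmem i hiQ hi2 (Subgroup.mem_subgroupOf.1 (htop ▸ Subgroup.mem_top (⟨i, hiQ⟩ : (Q : Subgroup U4))))
  · have h := Subgroup.mul_mem_iff_of_index_two (H := E'.subgroupOf Q) (by omega)
      (a := (⟨i, hiQ⟩ : (Q : Subgroup U4))) (b := ⟨j, hjQ⟩)
    refine hmem (i * j) (mul_mem hiQ hjQ) hij (Subgroup.mem_subgroupOf.1 (h.2 ⟨fun q => absurd q ?_, fun q => absurd q ?_⟩))
    · exact fun q => hmem i hiQ hi2 (Subgroup.mem_subgroupOf.1 q)
    · exact fun q => hmem j hjQ hj2 (Subgroup.mem_subgroupOf.1 q)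

/-- Conjugation inside a normalised subgroup. -/
@[reducible] def conjAct {G : Type*} [Group G] (U E : Subgroup G) (hn : ∀ u ∈ U, ∀ a ∈ E, u * a * u⁻¹ ∈ E) :
    MulAction U E where
  smul u a := ⟨(u : G) * a * (u : G)⁻¹, hn u u.2 a a.2⟩
  one_smul a := Subtype.ext (show ((1 : U) : G) * a * ((1 : U) : G)⁻¹ = a by simp)
  mul_smul u v a := Subtype.ext (show ((u * v : U) : G) * a * ((u * v : U) : G)⁻¹ =
    (u : G) * ((v : G) * a * (v : G)⁻¹) * (u : G)⁻¹ by simp [mul_assoc])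

theorem exists_fixed_invol {G : Type*} [Group G] [Finite G] (U E : Subgroup G) (hU : IsPGroup 2 U)
    (hE : ∀ a ∈ E, a * a = 1) (hne : E ≠ ⊥) (hn : ∀ u ∈ U, ∀ a ∈ E, u * a * u⁻¹ ∈ E) :
    ∃ b ∈ E, b ≠ 1 ∧ ∀ u ∈ U, b * u = u * b := by
  haveI : Fact (Nat.Prime 2) := ⟨Nat.prime_two⟩
  letI := conjAct U E hn
  have hp : IsPGroup 2 E := fun a => ⟨1, Subtype.ext (by simpa [pow_two] using hE a a.2)⟩
  haveI : Nontrivial E := (Subgroup.nontrivial_iff_ne_bot E).2 hne
  have hdvd : 2 ∣ Nat.card E := by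
    obtain ⟨n, hn0⟩ := IsPGroup.iff_card.1 hp
    rw [hn0]
    refine dvd_pow_self 2 fun e => ?_
    rw [e, pow_zero] at hn0
    exact absurd hn0 (Finite.one_lt_card (α := E)).ne'
  have h1 : (1 : E) ∈ MulAction.fixedPoints U E := fun u => Subtype.ext (by
    show (u : G) * ((1 : E) : G) * (u : G)⁻¹ = ((1 : E) : G)
    simp)
  obtain ⟨b, hb, hb1⟩ := hU.exists_fixed_point_of_prime_dvd_card_of_fixed_point E hdvd h1
  refine ⟨b, b.2, fun e => hb1 (Subtype.ext e.symm), fun u hu => ?_⟩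
  have e : u * (b : G) * u⁻¹ = b := congrArg Subtype.val (hb ⟨u, hu⟩)
  exact (mul_inv_eq_iff_eq_mul.1 e).symm

/-- An elementary subgroup normalised by the radical contains the transvection. -/
theorem tvp_mem_of_normalized (E : Subgroup U4) (hE : ∀ a ∈ E, a * a = 1) (hne : E ≠ ⊥)
    (hn : ∀ u ∈ UU, ∀ a ∈ E, u * a * u⁻¹ ∈ E) : tvp p0 ∈ E := by
  obtain ⟨b, hbE, hb1, hb⟩ := exists_fixed_invol UU E two_UU hE hne hn
  rcases cent_UU (hE b hbE) hb with e | e
  · exact absurd e hb1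
  · rw [← e]; exact hbE

/-- The centre of a Sylow subgroup contains no involution of the second class. -/
theorem cent_sylow (S : Subgroup U4) (hS : Nat.card S = 64) {g : U4} (h2 : g * g = 1) (h1 : g ≠ 1)
    (hc : ∀ s ∈ S, g * s = s * g) : ∃ p, IsPt4 p ∧ g = tvp p := by
  haveI : Fact (Nat.Prime 2) := ⟨Nat.prime_two⟩
  obtain ⟨P, hP⟩ := (IsPGroup.of_card (n := 6) (show Nat.card S = 2 ^ 6 by rw [hS]; norm_num)).exists_le_sylow
  have hSP : (P : Subgroup U4) = S := (Subgroup.eq_of_le_of_card_ge hP (by rw [hS, sylow_card P])).symm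
  obtain ⟨Q, hQ⟩ := two_UU.exists_le_sylow
  obtain ⟨x, hx⟩ := MulAction.exists_smul_eq U4 P Q
  have hcom : ∀ u ∈ UU, (x * g * x⁻¹) * u = u * (x * g * x⁻¹) := fun u hu => by
    have hu' : u ∈ (Q : Subgroup U4) := hQ hu
    rw [← hx] at hu'
    obtain ⟨s, hs, rfl⟩ := hu'
    rw [SetLike.mem_coe, hSP] at hs
    show x * g * x⁻¹ * (x * s * x⁻¹) = x * s * x⁻¹ * (x * g * x⁻¹)
    calc x * g * x⁻¹ * (x * s * x⁻¹) = x * (g * s) * x⁻¹ := by group
      _ = x * (s * g) * x⁻¹ := by rw [hc s hs]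
      _ = _ := by group
  rcases cent_UU (g := x * g * x⁻¹) (by
      calc x * g * x⁻¹ * (x * g * x⁻¹) = x * (g * g) * x⁻¹ := by group
        _ = 1 := by rw [h2]; group) hcom with e | e
  · exact absurd (conj_eq_one_iff.1 e) h1
  · refine ⟨suMat x⁻¹ *ᵥ p0, pt_map p0_pt _, ?_⟩
    rw [← tvp_conj p0_pt, ← e]
    group

end CfsgLib.U62Cent
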