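import Cfsg.Agent.U62Cent.Natural
import Cfsg.Agent.U62Cent.UPoint
import Cfsg.Agent.Geo.ExtraOut
import Cfsg.Agent.LargeExtra.OrbitTransfer

/-!
Coordinates on an involution centraliser with extraspecial radical over the unitary group.
-/

set_option autoImplicit false
set_option maxRecDepth 100000
set_option maxHeartbeats 1000000
set_option linter.style.haveILetI false
set_option linter.unusedSectionVars false

open scoped Matrix

namespace CfsgLib.U62Cent

open CfsgLib Subgroup
open CfsgLib.FiLarge (F4 om omp)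
open CfsgLib.Unitary (suMat suMat_mul suMat_one su_ext su_preserves)

universe v

/-- The centraliser of an involution in coordinates. -/
structure Cd {G : Type*} [Group G] (z : G) {V : Type v} [AddCommGroup V] [Module (ZMod 2) V] (R : Rep V) where
  z_sq : z * z = 1
  z_ne : z ≠ 1
  /-- The radical. -/
  J : Subgroup G
  J_comm : ∀ j ∈ J, Commute j z
  z_mem : z ∈ J
  /-- The image in the unitary group. -/
  ph : G → U4
  ph_mul : ∀ a b : G, Commute a z → Commute b z → ph (a * b) = ph a * ph b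
  ph_J : ∀ a, Commute a z → (ph a = 1 ↔ a ∈ J)
  ph_surj : ∀ u, ∃ a, Commute a z ∧ ph a = u
  /-- The image in the central quotient of the radical. -/
  pr : G → V
  pr_mul : ∀ a ∈ J, ∀ b ∈ J, pr (a * b) = pr a + pr b
  pr_zero : ∀ a ∈ J, (pr a = 0 ↔ a = 1 ∨ a = z)
  pr_surj : ∀ v, ∃ a ∈ J, pr a = v
  sq : ∀ a ∈ J, a * a = if R.q (pr a) = 0 then 1 else z
  comm : ∀ a ∈ J, ∀ b ∈ J, a * b = if R.B (pr a) (pr b) = 0 then b * a else b * a * z
  pr_act : ∀ a, Commute a z → ∀ b ∈ J, pr (a * b * a⁻¹) = R.r (ph a) (pr b)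

namespace Cd

variable {G : Type*} [Group G] {z : G} {V : Type v} [AddCommGroup V] [Module (ZMod 2) V] {R : Rep V}
  (D : Cd z R)

include D

theorem z_inv : z⁻¹ = z := inv_eq_of_mul_eq_one_right D.z_sq

theorem orderOf_z : orderOf z = 2 := orderOf_eq_prime (by rw [pow_two]; exact D.z_sq) D.z_ne

theorem ph_one : D.ph 1 = 1 := (D.ph_J 1 (Commute.one_left z)).2 (one_mem _)

theorem ph_inv {a : G} (ha : Commute a z) : D.ph a⁻¹ = (D.ph a)⁻¹ :=
  eq_inv_of_mul_eq_one_left (by rw [← D.ph_mul _ _ ha.inv_left ha, inv_mul_cancel, D.ph_one])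

theorem ph_conj {g a : G} (hg : Commute g z) (ha : Commute a z) :
    D.ph (g * a * g⁻¹) = D.ph g * D.ph a * (D.ph g)⁻¹ := by
  rw [D.ph_mul _ _ (hg.mul_left ha) hg.inv_left, D.ph_mul _ _ hg ha, D.ph_inv hg]

theorem ph_of_J {j : G} (hj : j ∈ D.J) : D.ph j = 1 := (D.ph_J j (D.J_comm j hj)).2 hj

theorem ph_commute {g a : G} (hg : Commute g z) (ha : Commute a z) (h : Commute g a) :
    D.ph g * D.ph a = D.ph a * D.ph g := by
  rw [← D.ph_mul _ _ hg ha, ← D.ph_mul _ _ ha hg, h.eq]

theorem ph_z : D.ph z = 1 := D.ph_of_J D.z_mem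

theorem pr_one : D.pr 1 = 0 := (D.pr_zero 1 (one_mem _)).2 (Or.inl rfl)

theorem pr_z : D.pr z = 0 := (D.pr_zero z D.z_mem).2 (Or.inr rfl)

theorem pr_inv {a : G} (ha : a ∈ D.J) : D.pr a⁻¹ = D.pr a := by
  have h := D.pr_mul _ (inv_mem ha) _ ha
  rw [inv_mul_cancel, D.pr_one] at h
  exact eq_of_sum_zero h.symm

theorem conj_mem {g a : G} (hg : Commute g z) (ha : a ∈ D.J) : g * a * g⁻¹ ∈ D.J := by
  have hc : Commute (g * a * g⁻¹) z := (hg.mul_left (D.J_comm a ha)).mul_left hg.inv_left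
  rw [← D.ph_J _ hc, D.ph_conj hg (D.J_comm a ha), D.ph_of_J ha]
  group

theorem eq_of_pr {a b : G} (ha : a ∈ D.J) (hb : b ∈ D.J) (h : D.pr a = D.pr b) : b = a ∨ b = a * z := by
  rcases (D.pr_zero _ (mul_mem (inv_mem ha) hb)).1
    (by rw [D.pr_mul _ (inv_mem ha) _ hb, D.pr_inv ha, h, two_self]) with e | e
  · exact Or.inl (inv_mul_eq_one.1 e).symm
  · exact Or.inr (inv_mul_eq_iff_eq_mul.1 e)

theorem comm_iff {a b : G} (ha : a ∈ D.J) (hb : b ∈ D.J) : Commute a b ↔ R.B (D.pr a) (D.pr b) = 0 := by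
  constructor
  · intro h
    by_contra h0
    have e := D.comm a ha b hb
    rw [if_neg h0, h.eq] at e
    exact D.z_ne (mul_eq_left.1 e.symm)
  · intro h
    have e := D.comm a ha b hb
    rwa [if_pos h] at e

theorem comm_z {a b : G} (ha : a ∈ D.J) (hb : b ∈ D.J) (h : R.B (D.pr a) (D.pr b) ≠ 0) :
    a * b * a⁻¹ = b * z := by
  rw [D.comm a ha b hb, if_neg h, mul_assoc b a z, (D.J_comm a ha).eq]
  group

theorem invol_iff {a : G} (ha : a ∈ D.J) : a * a = 1 ↔ R.q (D.pr a) = 0 := by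
  constructor
  · intro h
    by_contra h0
    have e := D.sq a ha
    rw [if_neg h0, h] at e
    exact D.z_ne e.symm
  · intro h
    have e := D.sq a ha
    rwa [if_pos h] at e

theorem exists_partner {v : V} (hv : v ≠ 0) : ∃ j ∈ D.J, R.B (D.pr j) v ≠ 0 := by
  by_contra h
  push Not at h
  refine hv (R.nondeg v fun w => ?_)
  obtain ⟨j, hj, rfl⟩ := D.pr_surj w
  show R.B v (D.pr j) = 0
  rw [R.B_comm]
  exact h j hj

/-- An element fixing a vector is adjusted to fix a lift. -/
theorem fix_lift {g s : G} (hg : Commute g z) (hs : s ∈ D.J) (h0 : D.pr s ≠ 0)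
    (h : R.r (D.ph g) (D.pr s) = D.pr s) :
    ∃ g', Commute g' z ∧ Commute g' s ∧ D.ph g' = D.ph g := by
  rcases D.eq_of_pr hs (D.conj_mem hg hs) (by rw [D.pr_act g hg s hs, h]) with e | e
  · exact ⟨g, hg, mul_inv_eq_iff_eq_mul.1 e, rfl⟩
  · obtain ⟨j, hj, hj0⟩ := D.exists_partner h0
    refine ⟨g * j, hg.mul_left (D.J_comm j hj), mul_inv_eq_iff_eq_mul.1 ?_,
      by rw [D.ph_mul _ _ hg (D.J_comm j hj), D.ph_of_J hj, mul_one]⟩
    calc g * j * s * (g * j)⁻¹ = g * (j * s * j⁻¹) * g⁻¹ := by group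
      _ = g * s * g⁻¹ * (g * z * g⁻¹) := by rw [D.comm_z hj hs hj0]; group
      _ = s * (z * z) := by rw [e, hg.eq, mul_inv_cancel_right, mul_assoc]
      _ = s := by rw [D.z_sq, mul_one]

/-- The image of an element of the centraliser of the involution fixes its vector. -/
theorem pr_fix {g s : G} (hg : Commute g z) (hs : s ∈ D.J) (h : Commute g s) :
    R.r (D.ph g) (D.pr s) = D.pr s := by
  rw [← D.pr_act g hg s hs, h.eq, mul_inv_cancel_right]

/-- The centraliser as a subgroup with its projection. -/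
noncomputable def hom : centralizer ({z} : Set G) →* U4 where
  toFun a := D.ph a
  map_one' := D.ph_one
  map_mul' a b := D.ph_mul _ _ (mem_centralizer_singleton_iff.1 a.2) (mem_centralizer_singleton_iff.1 b.2)

/-- The preimage of a subgroup. -/
def pre (S : Subgroup U4) : Subgroup G where
  carrier := {a | Commute a z ∧ D.ph a ∈ S}
  one_mem' := ⟨Commute.one_left z, by rw [D.ph_one]; exact one_mem S⟩
  mul_mem' := fun {a b} ha hb => ⟨ha.1.mul_left hb.1, by rw [D.ph_mul _ _ ha.1 hb.1]; exact mul_mem ha.2 hb.2⟩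
  inv_mem' := fun {a} ha => ⟨ha.1.inv_left, by rw [D.ph_inv ha.1]; exact inv_mem ha.2⟩

theorem card_J : Nat.card D.J = 512 := by
  classical
  haveI := R.finite
  let f : D.J → V × ZMod 2 := fun a =>
    (D.pr a, if (a : G) = (D.pr_surj (D.pr a)).choose then 0 else 1)
  have hf : Function.Bijective f := by
    constructor
    · rintro ⟨a, ha⟩ ⟨b, hb⟩ e
      obtain ⟨e1, e2⟩ := Prod.ext_iff.1 e
      simp only [f] at e1 e2
      obtain ⟨hc, hcp⟩ := (D.pr_surj (D.pr a)).choose_spec
      have key : (D.pr_surj (D.pr a)).choose = (D.pr_surj (D.pr b)).choose := by simp only [e1]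
      rw [← key] at e2
      rcases D.eq_of_pr hc ha (by rw [hcp]) with p | p <;>
        rcases D.eq_of_pr hc hb (by rw [hcp, e1]) with q | q
      · exact Subtype.ext (p.trans q.symm)
      · rw [if_pos p, if_neg (fun r => D.z_ne (mul_eq_left.1 (q.symm.trans r)))] at e2
        exact absurd e2 (by decide)
      · rw [if_neg (fun r => D.z_ne (mul_eq_left.1 (p.symm.trans r))), if_pos q] at e2
        exact absurd e2 (by decide)
      · exact Subtype.ext (p.trans q.symm)
    · rintro ⟨w, c⟩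
      obtain ⟨hc, hcp⟩ := (D.pr_surj w).choose_spec
      rcases (by decide : ∀ c : ZMod 2, c = 0 ∨ c = 1) c with rfl | rfl
      · refine ⟨⟨_, hc⟩, Prod.ext hcp ?_⟩
        simp [f, hcp]
      · have hp : D.pr ((D.pr_surj w).choose * z) = w := by
          rw [D.pr_mul _ hc _ D.z_mem, hcp, D.pr_z, add_zero]
        refine ⟨⟨_, mul_mem hc D.z_mem⟩, Prod.ext hp ?_⟩
        simp [f, hp, D.z_ne]
  rw [Nat.card_eq_of_bijective f hf, Nat.card_prod, R.card, Nat.card_zmod]

theorem card_pre [Finite G] (S : Subgroup U4) : Nat.card (D.pre S) = 512 * Nat.card S := by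
  let φ : D.pre S →* S :=
    { toFun := fun a => ⟨D.ph a, a.2.2⟩
      map_one' := Subtype.ext D.ph_one
      map_mul' := fun a b => Subtype.ext (D.ph_mul _ _ a.2.1 b.2.1) }
  have hs : Function.Surjective φ := fun u => by
    obtain ⟨a, ha, e⟩ := D.ph_surj u
    exact ⟨⟨a, ha, by rw [e]; exact u.2⟩, Subtype.ext e⟩
  rw [Subgroup.card_eq_card_quotient_mul_card_subgroup φ.ker,
    Nat.card_congr (QuotientGroup.quotientKerEquivOfSurjective φ hs).toEquiv, mul_comm, ← D.card_J]
  refine congrArg (· * Nat.card S) (Nat.card_congr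
    { toFun := fun a => ⟨a.1.1, (D.ph_J _ a.1.2.1).1 (congrArg Subtype.val (MonoidHom.mem_ker.1 a.2))⟩
      invFun := fun j => ⟨⟨j.1, D.J_comm _ j.2, by rw [D.ph_of_J j.2]; exact one_mem S⟩,
        MonoidHom.mem_ker.2 (Subtype.ext (D.ph_of_J j.2))⟩
      left_inv := fun a => rfl
      right_inv := fun j => rfl })

/-- Transport by conjugation. -/
noncomputable def conj (g : G) : Cd (g * z * g⁻¹) R where
  z_sq := by
    calc g * z * g⁻¹ * (g * z * g⁻¹) = g * (z * z) * g⁻¹ := by group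
      _ = 1 := by rw [D.z_sq]; group
  z_ne := fun e => D.z_ne (conj_eq_one_iff.1 e)
  J := D.J.map (MulAut.conj g).toMonoidHom
  J_comm := by
    rintro _ ⟨j, hj, rfl⟩
    exact (D.J_comm j hj).map (MulAut.conj g).toMonoidHom
  z_mem := ⟨z, D.z_mem, rfl⟩
  ph a := D.ph (g⁻¹ * a * g)
  ph_mul a b ha hb := by
    rw [show g⁻¹ * (a * b) * g = (g⁻¹ * a * g) * (g⁻¹ * b * g) by group]
    exact D.ph_mul _ _ (back ha) (back hb)
  ph_J a ha := by
    rw [D.ph_J _ (back ha)]
    constructor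
    · exact fun h => ⟨_, h, show g * (g⁻¹ * a * g) * g⁻¹ = a by group⟩
    · rintro ⟨j, hj, rfl⟩
      show g⁻¹ * (g * j * g⁻¹) * g ∈ D.J
      rwa [show g⁻¹ * (g * j * g⁻¹) * g = j by group]
  ph_surj u := by
    obtain ⟨a, ha, e⟩ := D.ph_surj u
    refine ⟨g * a * g⁻¹, ha.map (MulAut.conj g).toMonoidHom, ?_⟩
    rw [show g⁻¹ * (g * a * g⁻¹) * g = a by group, e]
  pr a := D.pr (g⁻¹ * a * g)
  pr_mul := by
    intro a ha b hb
    rw [show g⁻¹ * (a * b) * g = (g⁻¹ * a * g) * (g⁻¹ * b * g) by group]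
    exact D.pr_mul _ (backJ D g ha) _ (backJ D g hb)
  pr_zero := by
    intro a ha
    rw [D.pr_zero _ (backJ D g ha)]
    constructor
    · rintro (e | e)
      · left; rw [show a = g * (g⁻¹ * a * g) * g⁻¹ by group, e]; group
      · right; rw [show a = g * (g⁻¹ * a * g) * g⁻¹ by group, e]
    · rintro (rfl | rfl)
      · left; group
      · right; group
  pr_surj w := by
    obtain ⟨a, ha, e⟩ := D.pr_surj w
    exact ⟨g * a * g⁻¹, ⟨a, ha, rfl⟩, by rw [show g⁻¹ * (g * a * g⁻¹) * g = a by group, e]⟩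
  sq := by
    intro a ha
    have h := congrArg (fun x => g * x * g⁻¹) (D.sq _ (backJ D g ha))
    simp only [apply_ite (fun x => g * x * g⁻¹)] at h
    rw [show g * (g⁻¹ * a * g * (g⁻¹ * a * g)) * g⁻¹ = a * a by group, show g * 1 * g⁻¹ = (1 : G) by group] at h
    exact h
  comm := by
    intro a ha b hb
    have h := congrArg (fun x => g * x * g⁻¹) (D.comm _ (backJ D g ha) _ (backJ D g hb))
    simp only [apply_ite (fun x => g * x * g⁻¹)] at h
    rw [show g * (g⁻¹ * a * g * (g⁻¹ * b * g)) * g⁻¹ = a * b by group,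
      show g * (g⁻¹ * b * g * (g⁻¹ * a * g)) * g⁻¹ = b * a by group,
      show g * (g⁻¹ * b * g * (g⁻¹ * a * g) * z) * g⁻¹ = b * a * (g * z * g⁻¹) by group] at h
    exact h
  pr_act := by
    intro a ha b hb
    rw [show g⁻¹ * (a * b * a⁻¹) * g = (g⁻¹ * a * g) * (g⁻¹ * b * g) * (g⁻¹ * a * g)⁻¹ by group]
    exact D.pr_act _ (back ha) _ (backJ D g hb)
where
  back {g : G} {a : G} (ha : Commute a (g * z * g⁻¹)) : Commute (g⁻¹ * a * g) z := by
    have := ha.map (MulAut.conj g⁻¹).toMonoidHom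
    simpa [mul_assoc] using this
  backJ {G : Type _} [Group G] {z : G} (D : Cd z R) (g : G) {a : G}
      (ha : a ∈ D.J.map (MulAut.conj g).toMonoidHom) : g⁻¹ * a * g ∈ D.J := by
    obtain ⟨j, hj, rfl⟩ := ha
    show g⁻¹ * (g * j * g⁻¹) * g ∈ D.J
    rwa [show g⁻¹ * (g * j * g⁻¹) * g = j by group]

end Cd

theorem sq4_smul : ∀ a : ZMod 2, a * a = a := by decide

/-- The natural representation. -/
noncomputable def act4 : U4 →* (V4 ≃ₗ[ZMod 2] V4) where
  toFun g :=
    { toFun := fun v => suMat g *ᵥ v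
      invFun := fun v => suMat g⁻¹ *ᵥ v
      left_inv := su_inv_apply g
      right_inv := su_apply_inv g
      map_add' := fun v w => Matrix.mulVec_add _ v w
      map_smul' := fun c v => by
        rcases (by decide : ∀ c : ZMod 2, c = 0 ∨ c = 1) c with rfl | rfl
        · simp
        · simp }
  map_one' := LinearEquiv.ext fun v => by
    show suMat 1 *ᵥ v = v
    rw [suMat_one, Matrix.one_mulVec]
  map_mul' g h := LinearEquiv.ext fun v => by
    show suMat (g * h) *ᵥ v = suMat g *ᵥ (suMat h *ᵥ v)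
    rw [suMat_mul, Matrix.mulVec_mulVec]

theorem qn4_zero : qn4 0 = 0 := by simp [qn4]

/-- The parity form. -/
noncomputable def q4 : QuadraticForm (ZMod 2) V4 :=
  QuadraticMap.ofPolar qn4
    (fun c x => by
      rcases (by decide : ∀ c : ZMod 2, c = 0 ∨ c = 1) c with rfl | rfl
      · simp [qn4_zero]
      · simp)
    (fun x x' y => by
      simp only [QuadraticMap.polar, polar_qn4, h4_add_left, QuadraticAlgebra.im_add])
    (fun c x y => by
      rcases (by decide : ∀ c : ZMod 2, c = 0 ∨ c = 1) c with rfl | rfl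
      · simp [QuadraticMap.polar, qn4_zero]
      · simp)

theorem q4_apply (v : V4) : q4 v = qn4 v := rfl

theorem qn4_inv (g : U4) (v : V4) : qn4 (suMat g *ᵥ v) = qn4 v := by
  have key : ∀ v : V4, (if qn4 v = 0 then (0 : F4) else 1) = h4 v v := by decide +kernel
  have h := key (suMat g *ᵥ v)
  rw [su_h4, ← key v] at h
  rcases (by decide : ∀ c : ZMod 2, c = 0 ∨ c = 1) (qn4 v) with e | e <;>
    rcases (by decide : ∀ c : ZMod 2, c = 0 ∨ c = 1) (qn4 (suMat g *ᵥ v)) with e' | e' <;>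
    rw [e, e'] <;> rw [e, e'] at h <;> simp at h

/-- The natural representation with its form. -/
noncomputable def R4 : Rep V4 where
  r := act4
  inj g h e := su_ext fun v => congrFun (congrArg DFunLike.coe e) v
  card := by rw [Nat.card_eq_fintype_card]; decide +kernel
  q := q4
  inv g v := qn4_inv g v
  nondeg v hv := by
    have h : ∀ w, (h4 v w).im = 0 := fun w => by
      rw [← polar_qn4]
      exact hv w
    refine perp_all v fun p hp => ?_
    refine f4_of_im _ _ (by rw [h p]; rfl) ?_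
    have h2 := h ((om * om) • p)
    rw [h4_smul_right, show om * om * (om * om) = om by decide +kernel] at h2
    rw [h2, mul_zero]; rfl

theorem R4_q (v : V4) : R4.q v = qn4 v := rfl

theorem R4_r (g : U4) (v : V4) : R4.r g v = suMat g *ᵥ v := rfl

theorem R4_B (v w : V4) : R4.B v w = (h4 v w).im := polar_qn4 v w

/-- In the natural case the coordinates are natural. -/
theorem Cd.exists_natural {G : Type*} [Group G] {z : G} {V : Type v} [AddCommGroup V] [Module (ZMod 2) V]
    {R : Rep V} (D : Cd z R) (hN : R.IsNat) : Nonempty (Cd z R4) := by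
  obtain ⟨Φ, α, hq, hr⟩ := Rep.natural (R := R) hN
  have hB : ∀ v w, R.B v w = R4.B (Φ v) (Φ w) := fun v w => by
    simp only [Rep.B, QuadraticMap.polar, R4_q, ← map_add, hq]
  exact ⟨{
    z_sq := D.z_sq, z_ne := D.z_ne, J := D.J, J_comm := D.J_comm, z_mem := D.z_mem
    ph := fun a => α (D.ph a)
    ph_mul := fun a b ha hb => by rw [D.ph_mul a b ha hb, map_mul]
    ph_J := fun a ha => by rw [EmbeddingLike.map_eq_one_iff]; exact D.ph_J a ha
    ph_surj := fun u => by
      obtain ⟨a, ha, e⟩ := D.ph_surj (α.symm u)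
      exact ⟨a, ha, by rw [e, MulEquiv.apply_symm_apply]⟩
    pr := fun a => Φ (D.pr a)
    pr_mul := fun a ha b hb => by rw [D.pr_mul a ha b hb, map_add]
    pr_zero := fun a ha => by rw [LinearEquiv.map_eq_zero_iff]; exact D.pr_zero a ha
    pr_surj := fun w => by
      obtain ⟨a, ha, e⟩ := D.pr_surj (Φ.symm w)
      exact ⟨a, ha, by rw [e, LinearEquiv.apply_symm_apply]⟩
    sq := fun a ha => by rw [D.sq a ha, R4_q, hq]
    comm := fun a ha b hb => by rw [D.comm a ha b hb, hB]
    pr_act := fun a ha b hb => by rw [D.pr_act a ha b hb, hr, R4_r] }⟩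

end CfsgLib.U62Cent
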