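import Cfsg.Agent.U62Cent.Natural
import Cfsg.Agent.U62Cent.UPoint

/-!
The reducible case: two fixed dimensions and an anisotropically split complement of dimension six.
-/

set_option autoImplicit false
set_option maxRecDepth 100000
set_option maxHeartbeats 1000000
set_option linter.style.haveILetI false
set_option linter.unusedSectionVars false

open scoped Matrix

namespace CfsgLib.U62Cent

open CfsgLib.FiLarge (F4 om omp)
open CfsgLib.Unitary (suMat suMat_mul suMat_one su_ext su_preserves)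

theorem tri_perm : ∀ i : Fin 3, ∃ τ : Equiv.Perm (Fin 4), ∃ π : Equiv.Perm (Fin 3), π i = 0 ∧
    ∀ m : Fin 3, ∀ l : LT,
      pair4 (chs (triBlk m)) l = 0 ↔ ∑ j, chs (triBlk (π m)) j * l.1 (τ j) = 0 := by decide +kernel

theorem triBlk_inj : Function.Injective triBlk := by decide +kernel

theorem tri_or : ∀ k : Fin 13, (∃ i, k = triBlk i) ∨ k.val < 4 ∨ 7 ≤ k.val := by decide +kernel

theorem pair_five_six : ∀ i j : ZMod 3, ∃ l : LT, pair4 (chs 5) l = i ∧ pair4 (chs 6) l = j := by decide +kernel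

theorem d0_blocks : ∀ i : Fin 3, pair4 (chs (triBlk i)) ⟨![1, 1, 1, 0], by decide⟩ = 2 := by decide +kernel

theorem swap_blocks : ∀ l : LT,
    (pair4 (chs 4) l = 0 ↔ ∑ j, chs 4 j * l.1 (Equiv.swap (0 : Fin 4) 1 j) = 0) ∧
    (pair4 (chs 5) l = 0 ↔ ∑ j, chs 6 j * l.1 (Equiv.swap (0 : Fin 4) 1 j) = 0) ∧
    (pair4 (chs 6) l = 0 ↔ ∑ j, chs 5 j * l.1 (Equiv.swap (0 : Fin 4) 1 j) = 0) ∧
    ∑ j, chs 4 j * l.1 (Equiv.swap (0 : Fin 4) 1 j) = pair4 (chs 4) l := by decide +kernel

theorem double_blocks : ∀ l : LT,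
    ∑ j, chs 4 j * l.1 ((Equiv.swap (0 : Fin 4) 1 * Equiv.swap 2 3 : Equiv.Perm (Fin 4)) j) = pair4 (chs 4) l ∧
    ∑ j, chs 5 j * l.1 ((Equiv.swap (0 : Fin 4) 1 * Equiv.swap 2 3 : Equiv.Perm (Fin 4)) j) = -pair4 (chs 5) l ∧
    ∑ j, chs 6 j * l.1 ((Equiv.swap (0 : Fin 4) 1 * Equiv.swap 2 3 : Equiv.Perm (Fin 4)) j) = -pair4 (chs 6) l := by decide +kernel

theorem tvp_p0_perm : tvp p0 = pE (Equiv.swap 0 1) :=
  Subtype.ext (Subtype.ext (show suMat (tvp p0) = pmat (Equiv.swap 0 1) by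
    rw [tvp_mat p0_pt]; decide +kernel))

theorem count27 :
    (Finset.univ.filter fun f : Fin 3 → Fin 4 =>
      f ≠ 0 ∧ (∑ i, if f i = 0 then (0 : ZMod 2) else 1) = 0).card = 27 := by decide +kernel

/-- The moved points of a permutation with fifth power one. -/
theorem card_fix_five {α : Type*} [Finite α] (f : Equiv.Perm α) (hf : f ^ 5 = 1) :
    Nat.card α % 5 = Nat.card {a : α // f a = a} % 5 := by
  classical
  haveI : Fintype α := Fintype.ofFinite α
  haveI : Fact (Nat.Prime 5) := ⟨by norm_num⟩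
  let F : Function.End α := ⇑f
  have hp : ∀ n : ℕ, F ^ n = (⇑(f ^ n) : α → α) := fun n => by
    induction n with
    | zero => rfl
    | succ n ih => rw [pow_succ, ih, pow_succ]; rfl
  have h := Equiv.Perm.card_fixedPoints_modEq (p := 5) (n := 1) (f := F)
    (by rw [pow_one, hp, hf]; rfl)
  rw [Nat.card_eq_fintype_card, Nat.card_eq_fintype_card]
  refine h.trans ?_
  exact congrArg (· % 5) (Fintype.card_congr (Equiv.subtypeEquivRight fun a => Iff.rfl))

namespace Rep

variable {V : Type*} [AddCommGroup V] [Module (ZMod 2) V] (R : Rep V)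

theorem r_mul (g h : U4) (v : V) : R.r (g * h) v = R.r g (R.r h v) := by rw [map_mul]; rfl

theorem r_one (v : V) : R.r 1 v = v := by rw [map_one]; rfl

theorem r_inv (g : U4) (v : V) : R.r g⁻¹ (R.r g v) = v := by rw [← R.r_mul, inv_mul_cancel, R.r_one]

theorem B_smul_self (x : V) : R.B x x = 0 := by
  have h := R.q_add x x
  rw [two_self, map_zero] at h
  exact ((by decide : ∀ a b : ZMod 2, 0 = a + a + b → b = 0) _ _ h)

theorem B_zero_left (x : V) : R.B 0 x = 0 := by rw [R.B_comm, R.B_zero]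

/-- The elements of a block of order four. -/
theorem block_elems {k : Fin 13} (hcard : Nat.card (R.X k) = 4) {x : V} (hx : x ∈ R.X k) (h0 : x ≠ 0)
    {y : V} (hy : y ∈ R.X k) : y = 0 ∨ ∃ a : ZMod 3, R.orb k x a = y := by
  classical
  haveI := R.finite
  haveI : Fintype (R.X k) := Fintype.ofFinite _
  have h3 : R.rot k (R.rot k x) = x + R.rot k x := (eq_of_sum_zero (R.orb_sum hx)).symm
  have h1 : R.rot k x ≠ x := fun e => h0 (R.rot_ne hx e)
  have h2 : R.rot k x ≠ 0 := fun e => h0 (by have h := R.orb_sum hx; rwa [e, map_zero, add_zero, add_zero] at h)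
  have h4 : R.rot k (R.rot k x) ≠ 0 := fun e => h1 (eq_of_sum_zero (h3.symm.trans e)).symm
  have h5 : R.rot k (R.rot k x) ≠ x := fun e => h2 (add_eq_left.1 (h3.symm.trans e))
  have h6 : R.rot k (R.rot k x) ≠ R.rot k x := fun e => h0 (add_eq_right.1 (h3.symm.trans e))
  let f : Fin 4 → R.X k :=
    ![0, ⟨x, hx⟩, ⟨R.rot k x, R.rot_mem hx⟩, ⟨R.rot k (R.rot k x), R.rot_mem (R.rot_mem hx)⟩]
  have hf : Function.Injective f := by
    intro i j e
    have e' : ((f i : R.X k) : V) = f j := congrArg Subtype.val e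
    fin_cases i <;> fin_cases j <;> simp [f, h0, h1, h2, h4, h5, h6, h0.symm, h1.symm, h2.symm, h4.symm, h5.symm,
      h6.symm] at e' ⊢
  have hb := (Fintype.bijective_iff_injective_and_card f).2 ⟨hf, by
    rw [Fintype.card_fin, ← Nat.card_eq_fintype_card, hcard]⟩
  obtain ⟨i, hi⟩ := hb.2 ⟨y, hy⟩
  have e : ((f i : R.X k) : V) = y := congrArg Subtype.val hi
  rw [← e]
  fin_cases i
  · exact Or.inl rfl
  · exact Or.inr ⟨0, by simp [f, orb]⟩
  · exact Or.inr ⟨1, by simp [f, orb]⟩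
  · exact Or.inr ⟨2, by simp [f, orb, show (2 : ZMod 3) ≠ 1 by decide, show (2 : ZMod 3) ≠ 0 by decide]⟩

section Tri

variable {R} (hT : R.IsTri)
include hT

theorem tri_card4 : Nat.card (R.X 4) = 4 ∧ Nat.card (R.X 5) = 4 ∧ Nat.card (R.X 6) = 4 :=
  ⟨hT.1 0, hT.1 1, hT.1 2⟩

theorem bk_nonTri {k : Fin 13} (hk : k.val < 4 ∨ 7 ≤ k.val) (v : V) : R.bk k v = 0 :=
  (Submodule.mem_bot (ZMod 2)).1 (hT.2.2 k hk ▸ R.bk_mem k v)

theorem tri_dec (v : V) : v = R.e0 v + ∑ i : Fin 3, R.bk (triBlk i) v := by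
  classical
  conv_lhs => rw [← R.decomp v]
  congr 1
  rw [← Finset.sum_image (f := fun k => R.bk k v) (g := triBlk) (fun a _ b _ h => triBlk_inj h)]
  refine (Finset.sum_subset (Finset.subset_univ _) fun k _ hk => ?_).symm
  refine bk_nonTri hT ((tri_or k).resolve_left fun ⟨i, hi⟩ => hk ?_) v
  exact hi ▸ Finset.mem_image_of_mem _ (Finset.mem_univ i)

/-- The fixed space of the special diagonal element. -/
theorem d0_fix {v : V} (h : R.act ⟨![1, 1, 1, 0], by decide⟩ v = v) : v ∈ R.X0 := by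
  set l : LT := ⟨![1, 1, 1, 0], by decide⟩
  have hz : ∀ i : Fin 3, R.bk (triBlk i) v = 0 := fun i => by
    have hm := R.bk_mem (triBlk i) v
    have e : R.bk (triBlk i) (R.act l v) = R.rot (triBlk i) (R.rot (triBlk i) (R.bk (triBlk i) v)) := by
      conv_lhs => rw [tri_dec hT v, map_add, map_sum, map_add, map_sum, R.e0_mem v l, R.bk_X0 (R.e0_mem v),
        zero_add]
      rw [Finset.sum_eq_single i (fun j _ hj => R.bk_other (fun e => hj (triBlk_inj e))
          (R.act_mem (R.bk_mem _ v) l)) (fun h => absurd (Finset.mem_univ i) h),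
        R.bk_self (R.act_mem hm l), R.act_X_two hm (d0_blocks i)]
    rw [h] at e
    have h3 := R.orb_sum hm
    rw [← e, add_comm (R.bk _ v), add_assoc, two_self, add_zero] at h3
    rw [h3, map_zero] at e
    exact e
  rw [tri_dec hT v, Finset.sum_eq_zero fun i _ => hz i, add_zero]
  exact R.e0_mem v

/-- The fixed space of the diagonal subgroup is invariant. -/
theorem X0_inv (g : U4) : ∀ x ∈ R.X0, R.r g x ∈ R.X0 := by
  haveI := R.finite
  let S : Subgroup U4 :=
    { carrier := {g | ∀ x ∈ R.X0, R.r g x ∈ R.X0}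
      one_mem' := fun x hx => by rw [R.r_one]; exact hx
      mul_mem' := fun {a b} ha hb x hx => by rw [R.r_mul]; exact ha _ (hb x hx)
      inv_mem' := fun {a} ha x hx => by
        have hb : Function.Bijective (fun y : R.X0 => (⟨R.r a y, ha y y.2⟩ : R.X0)) :=
          Finite.injective_iff_bijective.1 fun y w e => Subtype.ext ((R.r a).injective (congrArg Subtype.val e))
        obtain ⟨y, hy⟩ := hb.2 ⟨x, hx⟩
        rw [← show R.r a y = x from congrArg Subtype.val hy, R.r_inv]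
        exact y.2 }
  have hS : S = ⊤ := by
    refine gen_top (fun l hl x hx => ?_) (fun τ x hx => R.perm_X0 τ hx) fun x hx => d0_fix hT ?_
    · have : R.r (dE l) x = x := hx ⟨l, hl⟩
      rw [this]; exact hx
    · show R.r (dE ![1, 1, 1, 0]) (R.r gE x) = R.r gE x
      rw [← R.r_mul, ← gE_dE, R.r_mul]
      exact congrArg (R.r gE) (hx ⟨![1, 1, 1, 0], by decide⟩)
  exact (hS ▸ Subgroup.mem_top g : g ∈ S)

/-- The fixed space of the diagonal subgroup is centralised. -/
theorem tri_fix (g : U4) (x : V) (hx : x ∈ R.X0) : R.r g x = x := by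
  classical
  haveI := R.finite
  haveI := simple_SU4
  let f : U4 →* Equiv.Perm R.X0 :=
    { toFun := fun a =>
        { toFun := fun y => ⟨R.r a y, X0_inv hT a y y.2⟩
          invFun := fun y => ⟨R.r a⁻¹ y, X0_inv hT a⁻¹ y y.2⟩
          left_inv := fun y => Subtype.ext (R.r_inv a y)
          right_inv := fun y => Subtype.ext (by
            show R.r a (R.r a⁻¹ y) = y
            rw [← R.r_mul, mul_inv_cancel, R.r_one]) }
      map_one' := Equiv.ext fun y => Subtype.ext (R.r_one y)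
      map_mul' := fun a b => Equiv.ext fun y => Subtype.ext (R.r_mul a b y) }
  rcases IsSimpleGroup.eq_bot_or_eq_top_of_normal f.ker inferInstance with h | h
  · exfalso
    have h1 := Nat.card_le_card_of_injective f ((MonoidHom.ker_eq_bot_iff f).1 h)
    rw [Nat.card_perm, hT.2.1, show Nat.card U4 = 25920 from card_SU4] at h1
    exact absurd h1 (by decide)
  · have hg : g ∈ f.ker := by rw [h]; exact Subgroup.mem_top g
    exact congrArg (fun p : Equiv.Perm R.X0 => ((p ⟨x, hx⟩ : R.X0) : V)) (MonoidHom.mem_ker.1 hg)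

/-- The orthogonal of the fixed space. -/
theorem perp_iff (v : V) : (∀ x ∈ R.X0, R.B x v = 0) ↔ R.e0 v = 0 := by
  constructor
  · intro h
    refine R.nondeg _ fun w => ?_
    show R.B (R.e0 v) w = 0
    rw [tri_dec hT w, R.B_add_right]
    have h1 : R.B (R.e0 v) (∑ i : Fin 3, R.bk (triBlk i) w) = 0 := by
      simp only [Fin.sum_univ_three, R.B_add_right, R.blk_orth0 (R.e0_mem v) (R.bk_mem _ _), add_zero]
    rw [h1, add_zero, R.B_comm]
    have h2 := h _ (R.e0_mem w)
    rw [tri_dec hT v, R.B_add_right] at h2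
    simp only [Fin.sum_univ_three, R.B_add_right, R.blk_orth0 (R.e0_mem w) (R.bk_mem _ _), add_zero] at h2
    exact h2
  · intro h x hx
    rw [tri_dec hT v, h, zero_add]
    simp only [Fin.sum_univ_three, R.B_add_right, R.blk_orth0 hx (R.bk_mem _ _), add_zero]

theorem e0_r (g : U4) (v : V) : R.e0 (R.r g v) = R.e0 v := by
  have hp : R.e0 (v + R.e0 v) = 0 := by rw [map_add, R.e0_X0 (R.e0_mem v), two_self]
  have h1 : R.e0 (R.r g (v + R.e0 v)) = 0 := (perp_iff hT _).1 fun x hx => by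
    rw [← tri_fix hT g x hx, R.B_inv]
    exact (perp_iff hT _).2 hp x hx
  rw [map_add, map_add, tri_fix hT g _ (R.e0_mem v), R.e0_X0 (R.e0_mem v)] at h1
  exact eq_of_sum_zero h1

theorem q_dec {v : V} (hv : R.e0 v = 0) :
    R.q v = ∑ i : Fin 3, R.q (R.bk (triBlk i) v) := by
  conv_lhs => rw [tri_dec hT v, hv, zero_add, Fin.sum_univ_three]
  have ho : ∀ i j : Fin 3, i ≠ j → R.B (R.bk (triBlk i) v) (R.bk (triBlk j) v) = 0 := fun i j h =>
    R.blk_orth (fun e => h (triBlk_inj e)) (R.bk_mem _ _) (R.bk_mem _ _)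
  rw [R.q_add, R.q_add, R.B_add_left, ho 0 1 (by decide), ho 0 2 (by decide), ho 1 2 (by decide),
    Fin.sum_univ_three]
  simp

open Classical in
theorem q_bk (i : Fin 3) (v : V) : R.q (R.bk (triBlk i) v) = if R.bk (triBlk i) v = 0 then 0 else 1 := by
  by_cases h : R.bk (triBlk i) v = 0
  · rw [if_pos h, h, map_zero]
  · rw [if_neg h, R.q_block (hT.1 i) (R.bk_mem _ _) h]

/-- The singular nonzero vectors orthogonal to the fixed space. -/
theorem card_sing : Nat.card {v : V // R.e0 v = 0 ∧ R.q v = 0 ∧ v ≠ 0} = 27 := by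
  classical
  haveI := R.finite
  have he : ∀ i, ∃ e : R.X (triBlk i) ≃ Fin 4, e 0 = 0 := fun i => by
    let e := Finite.equivFinOfCardEq (hT.1 i)
    exact ⟨e.trans (Equiv.swap (e 0) 0), by simp⟩
  choose e he using he
  have he' : ∀ i x, e i x = 0 ↔ x = 0 := fun i x => by rw [← he i, EmbeddingLike.apply_eq_iff_eq]
  let P := {v : V // R.e0 v = 0}
  have hbij : Function.Bijective
      (fun v : P => fun i => e i ⟨R.bk (triBlk i) v.1, R.bk_mem _ _⟩) := by
    refine ⟨fun a b h => Subtype.ext ?_, fun f => ?_⟩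
    · rw [tri_dec hT a.1, tri_dec hT b.1, a.2, b.2]
      congr 1
      exact Finset.sum_congr rfl fun i _ => congrArg Subtype.val ((e i).injective (congrFun h i))
    · refine ⟨⟨∑ i, (((e i).symm (f i) : R.X (triBlk i)) : V), ?_⟩, funext fun i => ?_⟩
      · rw [map_sum]; exact Finset.sum_eq_zero fun i _ => ((e i).symm (f i)).2.2
      · refine ((e i).eq_symm_apply).1 (Subtype.ext ?_)
        show R.bk (triBlk i) (∑ j, (((e j).symm (f j) : R.X (triBlk j)) : V)) = ((e i).symm (f i) : V)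
        rw [map_sum, Finset.sum_eq_single i
          (fun j _ hj => R.bk_other (fun e' => hj (triBlk_inj e')) ((e j).symm (f j)).2)
          (fun h => absurd (Finset.mem_univ i) h), R.bk_self ((e i).symm (f i)).2]
  let Φ := Equiv.ofBijective _ hbij
  have h0 : ∀ v : P, Φ v = 0 ↔ v.1 = 0 := fun v => by
    constructor
    · intro h
      rw [tri_dec hT v.1, v.2, zero_add]
      exact Finset.sum_eq_zero fun i _ => congrArg Subtype.val ((he' i _).1 (congrFun h i))
    · intro h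
      funext i
      exact (he' i _).2 (Subtype.ext (by show R.bk (triBlk i) v.1 = 0; rw [h, map_zero]))
  have hq : ∀ v : P, R.q v.1 = ∑ i, if Φ v i = 0 then (0 : ZMod 2) else 1 := fun v => by
    rw [q_dec hT v.2]
    refine Finset.sum_congr rfl fun i _ => ?_
    rw [q_bk hT]
    refine if_congr ?_ rfl rfl
    show _ ↔ e i _ = 0
    rw [he', ← Subtype.coe_inj]; rfl
  let E : {v : V // R.e0 v = 0 ∧ R.q v = 0 ∧ v ≠ 0} ≃
      {f : Fin 3 → Fin 4 // f ≠ 0 ∧ (∑ i, if f i = 0 then (0 : ZMod 2) else 1) = 0} :=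
    { toFun := fun v => ⟨Φ ⟨v.1, v.2.1⟩, fun h => v.2.2.2 ((h0 _).1 h), by rw [← hq]; exact v.2.2.1⟩
      invFun := fun f => ⟨(Φ.symm f.1).1, (Φ.symm f.1).2, by
        rw [hq, Φ.apply_symm_apply]; exact f.2.2, fun h => f.2.1 (by
          rw [← Φ.apply_symm_apply f.1]; exact (h0 _).2 h)⟩
      left_inv := fun v => Subtype.ext (congrArg (fun x : P => x.1) (Φ.symm_apply_apply ⟨v.1, v.2.1⟩) :)
      right_inv := fun f => Subtype.ext (Φ.apply_symm_apply f.1) }
  rw [Nat.card_congr E, Nat.card_eq_fintype_card, Fintype.card_subtype]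
  exact count27

theorem bk_perm {τ : Equiv.Perm (Fin 4)} {π : Equiv.Perm (Fin 3)}
    (h : ∀ m : Fin 3, ∀ l : LT,
      pair4 (chs (triBlk m)) l = 0 ↔ ∑ j, chs (triBlk (π m)) j * l.1 (τ j) = 0) (v : V) (m : Fin 3) :
    R.bk (triBlk (π m)) (R.r (pE τ) v) = R.r (pE τ) (R.bk (triBlk m) v) := by
  conv_lhs => rw [tri_dec hT v, map_add, map_sum, map_add, map_sum, R.bk_X0 (R.perm_X0 τ (R.e0_mem v)), zero_add]
  rw [Finset.sum_eq_single m (fun j _ hj =>
      R.bk_other (fun e => hj (π.injective (triBlk_inj e))) (R.perm_X (h j) (R.bk_mem _ v)))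
    (fun h => absurd (Finset.mem_univ m) h), R.bk_self (R.perm_X (h m) (R.bk_mem _ v))]

/-- The singular vectors orthogonal to the fixed space are conjugate. -/
theorem sing_trans {s t : V} (hs : R.e0 s = 0) (hs0 : R.q s = 0) (hs1 : s ≠ 0)
    (ht : R.e0 t = 0) (ht0 : R.q t = 0) (ht1 : t ≠ 0) : ∃ g : U4, R.r g s = t := by
  classical
  have shape : ∀ v : V, R.e0 v = 0 → R.q v = 0 → v ≠ 0 →
      ∃ g : U4, ∃ a ∈ R.X 5, ∃ b ∈ R.X 6, a ≠ 0 ∧ b ≠ 0 ∧ R.r g v = a + b := by
    intro v hv hv0 hv1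
    have key : ∀ c : Fin 3 → Bool, (∑ i, if c i then (0 : ZMod 2) else 1) = 0 → (∃ i, c i = false) →
        ∃ i, c i = true ∧ ∀ j, j ≠ i → c j = false := by decide
    obtain ⟨i, hi, hne⟩ := key (fun i => decide (R.bk (triBlk i) v = 0))
      (by
        refine Eq.trans ?_ ((q_dec hT hv).symm.trans hv0)
        refine Finset.sum_congr rfl fun i _ => ?_
        rw [q_bk hT]
        simp)
      (by
        by_contra h
        push Not at h
        refine hv1 ?_
        rw [tri_dec hT v, hv, zero_add]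
        exact Finset.sum_eq_zero fun i _ => by simpa using h i)
    obtain ⟨τ, π, hπ, hτ⟩ := tri_perm i
    have hz : ∀ m, R.bk (triBlk m) (R.r (pE τ) v) = R.r (pE τ) (R.bk (triBlk (π.symm m)) v) := fun m => by
      rw [← bk_perm hT hτ, Equiv.apply_symm_apply]
    have hnz : ∀ m : Fin 3, m ≠ 0 → R.bk (triBlk m) (R.r (pE τ) v) ≠ 0 := fun m hm e => by
      rw [hz, LinearEquiv.map_eq_zero_iff] at e
      have := hne (π.symm m) fun e' => hm (by rw [← hπ, ← e', Equiv.apply_symm_apply])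
      simp [e] at this
    refine ⟨pE τ, _, R.bk_mem 5 (R.r (pE τ) v), _, R.bk_mem 6 (R.r (pE τ) v), hnz 1 (by decide), hnz 2 (by decide), ?_⟩
    have h4 : R.bk (triBlk 0) (R.r (pE τ) v) = 0 := by
      rw [hz, ← hπ, Equiv.symm_apply_apply, of_decide_eq_true hi, map_zero]
    conv_lhs => rw [tri_dec hT (R.r (pE τ) v), e0_r hT, hv, zero_add, Fin.sum_univ_three, h4, zero_add]
    rfl
  obtain ⟨g, a, ha, b, hb, ha0, hb0, hg⟩ := shape s hs hs0 hs1
  obtain ⟨g', a', ha', b', hb', ha0', hb0', hg'⟩ := shape t ht ht0 ht1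
  obtain ⟨i, hi⟩ := (R.block_elems (tri_card4 hT).2.1 ha ha0 ha').resolve_left ha0'
  obtain ⟨j, hj⟩ := (R.block_elems (tri_card4 hT).2.2 hb hb0 hb').resolve_left hb0'
  obtain ⟨l, hl1, hl2⟩ := pair_five_six i j
  refine ⟨g'⁻¹ * (dE l.1 * g), ?_⟩
  rw [R.r_mul, R.r_mul, hg, map_add]
  have e1 : R.r (dE l.1) a = a' := by
    rw [show R.r (dE l.1) a = R.act l a from rfl, R.act_orb ha, hl1, hi]
  have e2 : R.r (dE l.1) b = b' := by
    rw [show R.r (dE l.1) b = R.act l b from rfl, R.act_orb hb, hl2, hj]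
  rw [e1, e2, ← hg', R.r_inv]

/-- An element of order five fixing a singular vector. -/
theorem exists_five {s : V} (hs : R.e0 s = 0) (hs0 : R.q s = 0) (hs1 : s ≠ 0) :
    ∃ g : U4, orderOf g = 5 ∧ R.r g s = s := by
  classical
  haveI := R.finite
  haveI : Fact (Nat.Prime 5) := ⟨by norm_num⟩
  obtain ⟨g, hg⟩ := exists_prime_orderOf_dvd_card' (G := U4) 5 (by rw [show Nat.card U4 = 25920 from card_SU4]; norm_num)
  let S := {v : V // R.e0 v = 0 ∧ R.q v = 0 ∧ v ≠ 0}
  have hmem : ∀ (a : U4) (v : S), R.e0 (R.r a v.1) = 0 ∧ R.q (R.r a v.1) = 0 ∧ R.r a v.1 ≠ 0 := fun a v =>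
    ⟨by rw [e0_r hT, v.2.1], by rw [R.inv, v.2.2.1], fun e => v.2.2.2 ((R.r a).map_eq_zero_iff.1 e)⟩
  let f : U4 →* Equiv.Perm S :=
    { toFun := fun a =>
        { toFun := fun v => ⟨_, hmem a v⟩
          invFun := fun v => ⟨_, hmem a⁻¹ v⟩
          left_inv := fun v => Subtype.ext (R.r_inv a v.1)
          right_inv := fun v => Subtype.ext (by
            show R.r a (R.r a⁻¹ v.1) = v.1
            rw [← R.r_mul, mul_inv_cancel, R.r_one]) }
      map_one' := Equiv.ext fun v => Subtype.ext (R.r_one v.1)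
      map_mul' := fun a b => Equiv.ext fun v => Subtype.ext (R.r_mul a b v.1) }
  have h := card_fix_five (f g) (by rw [← map_pow, ← hg, pow_orderOf_eq_one, map_one])
  rw [show Nat.card S = 27 from card_sing hT] at h
  obtain ⟨t, ht⟩ : ∃ t : S, f g t = t := by
    by_contra hno
    push Not at hno
    haveI : IsEmpty {t : S // f g t = t} := ⟨fun t => hno t.1 t.2⟩
    rw [Nat.card_of_isEmpty] at h
    omega
  obtain ⟨c, hc⟩ := sing_trans hT t.2.1 t.2.2.1 t.2.2.2 hs hs0 hs1
  refine ⟨c * g * c⁻¹, ?_, ?_⟩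
  · rw [← hg]; exact (MulEquiv.orderOf_eq (MulAut.conj c) g)
  · rw [R.r_mul, R.r_mul, ← hc, R.r_inv]
    exact congrArg (R.r c) (congrArg Subtype.val ht)

/-- The fixed points of an element of order five orthogonal to the fixed space. -/
theorem five_fix {g : U4} (hg : orderOf g = 5) {s p : V} (hs : R.e0 s = 0) (hs1 : s ≠ 0) (hgs : R.r g s = s)
    (hp : R.e0 p = 0) (hgp : R.r g p = p) (hB : R.B s p = 0) : p = 0 ∨ p = s := by
  classical
  haveI := R.finite
  let W : AddSubgroup V :=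
    { carrier := {v | R.e0 v = 0 ∧ R.r g v = v}
      zero_mem' := ⟨map_zero _, map_zero _⟩
      add_mem' := fun {a b} ha hb => ⟨by rw [map_add, ha.1, hb.1, add_zero], by rw [map_add, ha.2, hb.2]⟩
      neg_mem' := fun {a} ha => ⟨by rw [map_neg, ha.1, neg_zero], by rw [map_neg, ha.2]⟩ }
  have hg5 : g ^ 5 = 1 := by rw [← hg, pow_orderOf_eq_one]
  -- the average
  let av : V → V := fun v => ∑ i ∈ Finset.range 5, R.r (g ^ i) v
  have hav : ∀ v, R.r g (av v) = av v := fun v => by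
    show R.r g (∑ i ∈ Finset.range 5, R.r (g ^ i) v) = _
    rw [map_sum]
    have e : ∀ i, R.r g (R.r (g ^ i) v) = R.r (g ^ (i + 1)) v := fun i => by rw [← R.r_mul, ← pow_succ']
    simp only [e, av]
    simp only [Finset.sum_range_succ, Finset.sum_range_zero, hg5, pow_zero, R.r_one]
    abel
  have hBav : ∀ w, R.r g w = w → ∀ v, R.B w (av v) = R.B w v := fun w hw v => by
    have hwi : ∀ i : ℕ, R.r (g ^ i) w = w := fun i => by
      induction i with
      | zero => rw [pow_zero, R.r_one]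
      | succ i ih => rw [pow_succ, R.r_mul, hw, ih]
    have e : ∀ i : ℕ, R.B w (R.r (g ^ i) v) = R.B w v := fun i => by
      conv_lhs => rw [← hwi i]
      rw [R.B_inv]
    simp only [av, Finset.sum_range_succ, Finset.sum_range_zero, R.B_add_right, R.B_zero, e]
    generalize R.B w v = b
    revert b
    decide
  -- four fixed points
  let P := {v : V // R.e0 v = 0}
  let f : Equiv.Perm P :=
    { toFun := fun v => ⟨R.r g v.1, by rw [e0_r hT, v.2]⟩
      invFun := fun v => ⟨R.r g⁻¹ v.1, by rw [e0_r hT, v.2]⟩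
      left_inv := fun v => Subtype.ext (R.r_inv g v.1)
      right_inv := fun v => Subtype.ext (by
        show R.r g (R.r g⁻¹ v.1) = v.1
        rw [← R.r_mul, mul_inv_cancel, R.r_one]) }
  have hfp : ∀ (n : ℕ) (v : P), ((f ^ n) v).1 = R.r (g ^ n) v.1 := fun n => by
    induction n with
    | zero => intro v; rw [pow_zero, pow_zero, R.r_one]; rfl
    | succ n ih =>
      intro v
      rw [pow_succ, Equiv.Perm.mul_apply, ih, pow_succ, R.r_mul]; rfl
  have hP : Nat.card P = 64 := by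
    have h := Nat.card_congr ({
      toFun := fun v => (⟨R.e0 v, R.e0_mem v⟩, ⟨v + R.e0 v, by rw [map_add, R.e0_X0 (R.e0_mem v), two_self]⟩)
      invFun := fun x => x.1.1 + x.2.1
      left_inv := fun v => by
        show R.e0 v + (v + R.e0 v) = v
        rw [add_left_comm, two_self, add_zero]
      right_inv := fun x => by
        have e : R.e0 (x.1.1 + x.2.1) = x.1.1 := by rw [map_add, x.2.2, add_zero, R.e0_X0 x.1.2]
        refine Prod.ext (Subtype.ext e) (Subtype.ext ?_)
        show x.1.1 + x.2.1 + R.e0 (x.1.1 + x.2.1) = x.2.1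
        rw [e, add_comm x.1.1, add_assoc, two_self, add_zero] } : V ≃ R.X0 × P)
    rw [R.card, Nat.card_prod, hT.2.1] at h
    omega
  have hcong := card_fix_five f (Equiv.ext fun v => Subtype.ext (by rw [hfp, hg5, R.r_one]; rfl))
  have hWc : Nat.card {v : P // f v = v} = Nat.card W :=
    Nat.card_congr {
      toFun := fun v => ⟨v.1.1, v.1.2, congrArg Subtype.val v.2⟩
      invFun := fun w => ⟨⟨w.1, w.2.1⟩, Subtype.ext w.2.2⟩
      left_inv := fun _ => rfl
      right_inv := fun _ => rfl }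
  rw [hP, hWc] at hcong
  have hWd : Nat.card W ∣ 2 ^ 6 := by
    have hWP : Nat.card W ≤ 64 := hP ▸ Nat.card_le_card_of_injective (fun w : W => (⟨w.1, w.2.1⟩ : P))
      fun a b e => Subtype.ext (congrArg (fun x : P => x.1) e)
    have h1 : Nat.card W ∣ 2 ^ 8 := by
      have := AddSubgroup.card_addSubgroup_dvd_card W
      rwa [R.card] at this
    obtain ⟨i, hi, e⟩ := (Nat.dvd_prime_pow Nat.prime_two).1 h1
    rw [e] at hWP ⊢
    exact pow_dvd_pow 2 (by
      by_contra hh
      have : 2 ^ 7 ≤ 2 ^ i := Nat.pow_le_pow_right (by norm_num) (by omega)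
      omega)
  have hne : Nat.card W ≠ 64 := by
    intro h64
    have hall : ∀ v : V, R.r g v = v := fun v => by
      have hsub : Function.Bijective (fun w : W => (⟨w.1, w.2.1⟩ : P)) :=
        (Nat.bijective_iff_injective_and_card _).2
          ⟨fun a b e => Subtype.ext (congrArg (fun x : P => x.1) e), by rw [h64, hP]⟩
      obtain ⟨w, hw⟩ := hsub.2 ⟨v + R.e0 v, by rw [map_add, R.e0_X0 (R.e0_mem v), two_self]⟩
      have hw' : R.r g (v + R.e0 v) = v + R.e0 v := by
        have e : (w : V) = v + R.e0 v := congrArg Subtype.val hw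
        rw [← e]; exact w.2.2
      rw [map_add, tri_fix hT g _ (R.e0_mem v)] at hw'
      exact add_right_cancel hw'
    have : g = 1 := R.inj (LinearEquiv.ext fun v => by rw [R.r_one]; exact hall v)
    rw [this, orderOf_one] at hg
    omega
  have hW4 : Nat.card W = 4 := by
    obtain ⟨i, hi, e⟩ := (Nat.dvd_prime_pow Nat.prime_two).1 hWd
    rw [e] at hcong hne ⊢
    interval_cases i <;> omega
  -- the form is nondegenerate on the fixed points
  obtain ⟨w, hw, hsw⟩ : ∃ w ∈ W, R.B s w = 1 := by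
    by_contra hno
    push Not at hno
    refine hs1 (R.nondeg s fun v => ?_)
    show R.B s v = 0
    have h1 : av (v + R.e0 v) ∈ W := by
      refine ⟨?_, hav _⟩
      simp only [av, map_sum, e0_r hT, map_add, R.e0_X0 (R.e0_mem v), two_self]
      exact Finset.sum_const_zero
    have h2 := hno _ h1
    rw [hBav s hgs, R.B_add_right, R.B_comm s (R.e0 v),
      (perp_iff hT s).2 hs _ (R.e0_mem v), add_zero] at h2
    exact (by decide : ∀ b : ZMod 2, b ≠ 1 → b = 0) _ h2
  by_contra hcon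
  push Not at hcon
  haveI : Fintype W := Fintype.ofFinite _
  let F : Fin 5 → W := ![0, ⟨s, hs, hgs⟩, ⟨w, hw⟩, ⟨s, hs, hgs⟩ + ⟨w, hw⟩, ⟨p, hp, hgp⟩]
  have hF : Function.Injective F := by
    have hw0 : w ≠ 0 := fun e => by rw [e, R.B_zero] at hsw; exact zero_ne_one hsw
    have hws : w ≠ s := fun e => by rw [e, R.B_smul_self] at hsw; exact zero_ne_one hsw
    have hpw : p ≠ w := fun e => by rw [e, hsw] at hB; exact one_ne_zero hB
    have hpsw : p ≠ s + w := fun e => by
      rw [e, R.B_add_right, R.B_smul_self, zero_add, hsw] at hB; exact one_ne_zero hB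
    have hsw0 : s + w ≠ 0 := fun e => hws (eq_of_sum_zero e).symm
    have hsws : s + w ≠ s := fun e => hw0 (add_eq_left.1 e)
    have hsww : s + w ≠ w := fun e => hs1 (add_eq_right.1 e)
    intro i j e
    have e' : ((F i : W) : V) = F j := congrArg Subtype.val e
    fin_cases i <;> fin_cases j <;>
      simp [F, hw0, hws, hpw, hpsw, hsw0, hsws, hsww, hs1, hcon.1, hcon.2, hw0.symm, hws.symm, hpw.symm, hpsw.symm,
        hsw0.symm, hsws.symm, hsww.symm, hs1.symm, hcon.1.symm, hcon.2.symm] at e' ⊢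
  have := Nat.card_le_card_of_injective F hF
  rw [hW4, Nat.card_eq_fintype_card, Fintype.card_fin] at this
  omega

/-- A totally singular subgroup invariant under the stabiliser of one of its vectors has order at most four. -/
theorem tri_absorb (M : AddSubgroup V) (hq : ∀ m ∈ M, R.q m = 0) {s : V} (hs : s ∈ M) (h0 : s ≠ 0)
    (hP : ∀ x ∈ R.X0, R.B s x = 0) (hinv : ∀ g : U4, R.r g s = s → ∀ m ∈ M, R.r g m ∈ M) :
    Nat.card M ≤ 4 := by
  classical
  haveI := R.finite
  have hse : R.e0 s = 0 := (perp_iff hT s).1 fun x hx => by rw [R.B_comm]; exact hP x hx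
  obtain ⟨g, hg, hgs⟩ := exists_five hT hse (hq s hs) h0
  have hB : ∀ a ∈ M, ∀ b ∈ M, R.B a b = 0 := fun a ha b hb => by
    have := R.q_add a b
    rw [hq _ (M.add_mem ha hb), hq a ha, hq b hb, zero_add, zero_add] at this
    exact this.symm
  -- the part orthogonal to the fixed space
  let MP : AddSubgroup V := M ⊓ (R.e0 : V →ₗ[ZMod 2] V).toAddMonoidHom.ker
  have hMP : ∀ {v}, v ∈ MP ↔ v ∈ M ∧ R.e0 v = 0 := fun {v} => Iff.rfl
  have hinj : Nat.card MP ≤ 16 := by
    have h := Nat.card_le_card_of_injective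
      (fun v : MP => ((⟨R.bk 5 v.1, R.bk_mem 5 _⟩ : R.X 5), (⟨R.bk 6 v.1, R.bk_mem 6 _⟩ : R.X 6)))
      fun a b e => by
        have e5 : R.bk 5 a.1 = R.bk 5 b.1 := congrArg (fun x : R.X 5 × R.X 6 => (x.1 : V)) e
        have e6 : R.bk 6 a.1 = R.bk 6 b.1 := congrArg (fun x : R.X 5 × R.X 6 => (x.2 : V)) e
        have hd : a.1 + b.1 ∈ MP := MP.add_mem a.2 b.2
        have hq0 := hq _ (hMP.1 hd).1
        rw [q_dec hT (hMP.1 hd).2, Fin.sum_univ_three, q_bk hT, q_bk hT, q_bk hT] at hq0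
        rw [show triBlk 1 = 5 from rfl, show triBlk 2 = 6 from rfl, map_add (R.bk 5), e5, two_self,
          map_add (R.bk 6), e6, two_self, if_pos rfl, add_zero, add_zero] at hq0
        have h4 : R.bk (triBlk 0) (a.1 + b.1) = 0 := by
          by_contra h4; rw [if_neg h4] at hq0; exact one_ne_zero hq0
        refine Subtype.ext (eq_of_sum_zero ?_)
        rw [tri_dec hT (a.1 + b.1), (hMP.1 hd).2, zero_add, Fin.sum_univ_three, h4,
          show triBlk 1 = 5 from rfl, show triBlk 2 = 6 from rfl, map_add (R.bk 5), e5, two_self,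
          map_add (R.bk 6), e6, two_self, zero_add, two_self]
    rwa [Nat.card_prod, (tri_card4 hT).2.1, (tri_card4 hT).2.2] at h
  let f : Equiv.Perm MP :=
    { toFun := fun v => ⟨R.r g v.1, hMP.2 ⟨hinv g hgs _ (hMP.1 v.2).1, by rw [e0_r hT, (hMP.1 v.2).2]⟩⟩
      invFun := fun v => ⟨R.r g⁻¹ v.1, hMP.2 ⟨hinv g⁻¹ (by conv_lhs => rw [← hgs, R.r_inv]) _ (hMP.1 v.2).1,
        by rw [e0_r hT, (hMP.1 v.2).2]⟩⟩
      left_inv := fun v => Subtype.ext (R.r_inv g v.1)
      right_inv := fun v => Subtype.ext (by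
        show R.r g (R.r g⁻¹ v.1) = v.1
        rw [← R.r_mul, mul_inv_cancel, R.r_one]) }
  have hg5 : g ^ 5 = 1 := by rw [← hg, pow_orderOf_eq_one]
  have hfp : ∀ (n : ℕ) (v : MP), ((f ^ n) v).1 = R.r (g ^ n) v.1 := fun n => by
    induction n with
    | zero => intro v; rw [pow_zero, pow_zero, R.r_one]; rfl
    | succ n ih =>
      intro v
      rw [pow_succ, Equiv.Perm.mul_apply, ih, pow_succ, R.r_mul]; rfl
  have hcong := card_fix_five f (Equiv.ext fun v => Subtype.ext (by rw [hfp, hg5, R.r_one]; rfl))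
  have hfix2 : Nat.card {v : MP // f v = v} = 2 := by
    have hsm : s ∈ MP := hMP.2 ⟨hs, hse⟩
    rw [Nat.card_eq_two_iff]
    refine ⟨⟨0, Subtype.ext (map_zero _)⟩, ⟨⟨s, hsm⟩, Subtype.ext hgs⟩, fun e => h0 ?_, ?_⟩
    · exact (congrArg (fun x : {v : MP // f v = v} => x.1.1) e).symm
    · refine Set.eq_univ_of_forall fun v => ?_
      rcases five_fix hT hg hse h0 hgs (hMP.1 v.1.2).2 (congrArg Subtype.val v.2)
        (hB s hs _ (hMP.1 v.1.2).1) with e | e
      · exact Or.inl (Subtype.ext (Subtype.ext e))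
      · exact Or.inr (Subtype.ext (Subtype.ext e))
  have hMPd : Nat.card MP ∣ 2 ^ 8 := by
    have := AddSubgroup.card_addSubgroup_dvd_card MP
    rwa [R.card] at this
  have hMP2 : Nat.card MP = 2 := by
    obtain ⟨i, hi, e⟩ := (Nat.dvd_prime_pow Nat.prime_two).1 hMPd
    rw [e] at hinj hcong ⊢
    rw [hfix2] at hcong
    have hi4 : i ≤ 4 := by
      by_contra h
      have : 2 ^ 5 ≤ 2 ^ i := Nat.pow_le_pow_right (by norm_num) (by omega)
      omega
    interval_cases i <;> omega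
  have hMPs : ∀ v ∈ MP, v = 0 ∨ v = s := by
    intro v hv
    by_contra hcon
    push Not at hcon
    let F : Fin 3 → MP := ![0, ⟨s, hMP.2 ⟨hs, hse⟩⟩, ⟨v, hv⟩]
    have hF : Function.Injective F := by
      intro i j e
      have e' : ((F i : MP) : V) = F j := congrArg Subtype.val e
      fin_cases i <;> fin_cases j <;>
        simp [F, h0, hcon.1, hcon.2, h0.symm, hcon.1.symm, hcon.2.symm] at e' ⊢
    have := Nat.card_le_card_of_injective F hF
    rw [hMP2, Nat.card_eq_fintype_card, Fintype.card_fin] at this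
    omega
  -- projection to the fixed space
  let pm : M →+ R.X0 :=
    AddMonoidHom.mk' (fun m => ⟨R.e0 m.1, R.e0_mem _⟩) fun a b => Subtype.ext (by simp)
  have hker : Nat.card pm.ker ≤ 2 := by
    refine le_of_le_of_eq (Nat.card_le_card_of_injective
      (fun m : pm.ker => (⟨m.1.1, hMP.2 ⟨m.1.2, congrArg Subtype.val (AddMonoidHom.mem_ker.1 m.2)⟩⟩ : MP))
      fun a b e => Subtype.ext (Subtype.ext (congrArg (fun x : MP => x.1) e))) hMP2
  have hfixM : ∀ m ∈ M, R.r g m = m := by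
    intro m hm
    have hd : R.r g m + m ∈ MP :=
      hMP.2 ⟨M.add_mem (hinv g hgs m hm) hm, by rw [map_add, e0_r hT, two_self]⟩
    rcases hMPs _ hd with e | e
    · exact eq_of_sum_zero e
    · exfalso
      have h1 : R.r g m = m + s := by rw [← e, add_comm m, add_assoc, two_self, add_zero]
      have h2 : ∀ n : ℕ, R.r (g ^ n) m = m + n • s := fun n => by
        induction n with
        | zero => rw [pow_zero, R.r_one, zero_smul, add_zero]
        | succ n ih => rw [pow_succ', R.r_mul, ih, map_add, map_nsmul, h1, hgs, succ_nsmul]; abel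
      have h5 := h2 5
      rw [hg5, R.r_one] at h5
      have : (5 : ℕ) • s = 0 := add_eq_left.1 h5.symm
      rw [nsmul_two, show ((5 : ℕ) : ZMod 2) = 1 by decide, one_smul] at this
      exact h0 this
  have hcross : ∀ a b : M, R.B (R.e0 a.1) (R.e0 b.1) = 0 := by
    intro a b
    have hpart : ∀ m : M, m.1 + R.e0 m.1 = 0 ∨ m.1 + R.e0 m.1 = s := fun m =>
      five_fix hT hg hse h0 hgs (by rw [map_add, R.e0_X0 (R.e0_mem _), two_self])
        (by rw [map_add, hfixM _ m.2, tri_fix hT g _ (R.e0_mem _)])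
        (by rw [R.B_add_right, hB s hs _ m.2, hP _ (R.e0_mem _), add_zero])
    have ha : R.e0 a.1 ∈ M := by
      rcases hpart a with e | e
      · rw [← eq_of_sum_zero e]; exact a.2
      · have : R.e0 a.1 = a.1 + s := by rw [← e, ← add_assoc, two_self, zero_add]
        rw [this]; exact M.add_mem a.2 hs
    have hb : R.e0 b.1 ∈ M := by
      rcases hpart b with e | e
      · rw [← eq_of_sum_zero e]; exact b.2
      · have : R.e0 b.1 = b.1 + s := by rw [← e, ← add_assoc, two_self, zero_add]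
        rw [this]; exact M.add_mem b.2 hs
    exact hB _ ha _ hb
  have hrange : Nat.card pm.range ≤ 2 := by
    have hd := AddSubgroup.card_addSubgroup_dvd_card pm.range
    rw [hT.2.1] at hd
    have hne : Nat.card pm.range ≠ 4 := by
      intro e
      have htop : pm.range = ⊤ := AddSubgroup.eq_top_of_card_eq _ (by rw [e, hT.2.1])
      obtain ⟨x, hx, hx0⟩ : ∃ x ∈ R.X0, x ≠ 0 := by
        by_contra h
        push Not at h
        have hb : R.X0 = ⊥ := (Submodule.eq_bot_iff _).2 h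
        have := hT.2.1
        rw [hb] at this
        simp at this
      refine hx0 (R.nondeg x fun v => ?_)
      show R.B x v = 0
      obtain ⟨a, ha⟩ := (htop ▸ AddSubgroup.mem_top (⟨x, hx⟩ : R.X0) : (⟨x, hx⟩ : R.X0) ∈ pm.range)
      obtain ⟨b, hb⟩ := (htop ▸ AddSubgroup.mem_top (⟨R.e0 v, R.e0_mem v⟩ : R.X0) :
        (⟨R.e0 v, R.e0_mem v⟩ : R.X0) ∈ pm.range)
      have ha' : R.e0 a.1 = x := congrArg Subtype.val ha
      have hb' : R.e0 b.1 = R.e0 v := congrArg Subtype.val hb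
      rw [tri_dec hT v, R.B_add_right, ← hb', ← ha', hcross, zero_add]
      simp only [Fin.sum_univ_three, R.B_add_right, R.blk_orth0 (R.e0_mem _) (R.bk_mem _ _), add_zero]
    have h4 : Nat.card pm.range ≤ 4 := Nat.le_of_dvd (by norm_num) hd
    interval_cases hN : Nat.card pm.range <;> omega
  have h := AddSubgroup.card_eq_card_quotient_mul_card_addSubgroup pm.ker
  rw [Nat.card_congr (QuotientAddGroup.quotientKerEquivRange pm).toEquiv] at h
  rw [h]
  exact le_trans (Nat.mul_le_mul hrange hker) (by norm_num)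

/-- The rank of an involution. -/
theorem tri_invol (g : U4) (h2 : g * g = 1) (h1 : g ≠ 1) :
    Nat.card (LinearMap.range ((R.r g).toLinearMap + LinearMap.id)) = 4 := by
  classical
  haveI := R.finite
  have hconj : ∀ c a : U4, Nat.card (LinearMap.range ((R.r (c * a * c⁻¹)).toLinearMap + LinearMap.id)) =
      Nat.card (LinearMap.range ((R.r a).toLinearMap + LinearMap.id)) := by
    intro c a
    have e : LinearMap.range ((R.r (c * a * c⁻¹)).toLinearMap + LinearMap.id) =
        (LinearMap.range ((R.r a).toLinearMap + LinearMap.id)).map (R.r c).toLinearMap := by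
      ext v
      simp only [LinearMap.mem_range, Submodule.mem_map, LinearMap.add_apply, LinearMap.id_apply,
        LinearEquiv.coe_coe, exists_exists_eq_and]
      constructor
      · rintro ⟨w, rfl⟩
        refine ⟨R.r c⁻¹ w, ?_⟩
        rw [map_add, R.r_mul, R.r_mul, ← R.r_mul c c⁻¹, mul_inv_cancel, R.r_one]
      · rintro ⟨w, rfl⟩
        refine ⟨R.r c w, ?_⟩
        rw [R.r_mul, R.r_mul, R.r_inv, map_add]
    rw [e]
    exact Nat.card_congr ((R.r c).submoduleMap _).symm.toEquiv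
  -- fixed blocks and inverted blocks
  have hfix : ∀ τ : Equiv.Perm (Fin 4), pE τ * pE τ = 1 → ∀ k : Fin 13, Nat.card (R.X k) = 4 →
      (∀ l : LT, ∑ j, chs k j * l.1 (τ j) = pair4 (chs k) l) → ∀ x ∈ R.X k, R.r (pE τ) x = x := by
    intro τ hτ k hk hl x hx
    by_cases hx0 : x = 0
    · rw [hx0, map_zero]
    have hm : ∀ y ∈ R.X k, R.r (pE τ) y ∈ R.X k := fun y hy => R.perm_X (fun l => by rw [hl]) hy
    have hc : ∀ y ∈ R.X k, R.r (pE τ) (R.rot k y) = R.rot k (R.r (pE τ) y) := fun y hy => by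
      rw [rot, R.perm_act]
      exact R.act_X (hm y hy) _ _ (hl _)
    rcases R.block_elems hk hx hx0 (hm x hx) with e | ⟨a, ha⟩
    · exact absurd ((R.r (pE τ)).map_eq_zero_iff.1 e) hx0
    have hinv : R.r (pE τ) (R.r (pE τ) x) = x := by rw [← R.r_mul, hτ, R.r_one]
    rcases (by decide : ∀ a : ZMod 3, a = 0 ∨ a = 1 ∨ a = 2) a with rfl | rfl | rfl
    · rw [← ha]; rfl
    · exfalso
      have e1 : R.r (pE τ) x = R.rot k x := ha.symm
      rw [e1, hc x hx, e1] at hinv
      have h := R.orb_sum hx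
      rw [hinv, add_right_comm, two_self, zero_add] at h
      exact hx0 (R.rot_ne hx (by rw [h]; exact (R.r (pE τ)).map_eq_zero_iff.1 (e1.trans h) |>.symm))
    · exfalso
      have e1 : R.r (pE τ) x = R.rot k (R.rot k x) := ha.symm
      rw [e1, hc _ (R.rot_mem hx), hc x hx, e1] at hinv
      have h3 : R.rot k (R.rot k (R.rot k x)) = x := by
        have e5 := eq_of_sum_zero (R.orb_sum (R.rot_mem hx))
        have e4 := eq_of_sum_zero (R.orb_sum hx)
        rw [← e5, ← e4, add_comm x, ← add_assoc, two_self, zero_add]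
      rw [h3] at hinv
      exact hx0 (R.rot_ne hx hinv)
  have hflip : ∀ τ : Equiv.Perm (Fin 4), pE τ * pE τ = 1 → ∀ k : Fin 13, Nat.card (R.X k) = 4 →
      (∀ l : LT, ∑ j, chs k j * l.1 (τ j) = -pair4 (chs k) l) →
      ∃ y ∈ R.X k, y ≠ 0 ∧ ∀ x ∈ R.X k, R.r (pE τ) x + x = 0 ∨ R.r (pE τ) x + x = y ∧
        ∃ w ∈ R.X k, R.r (pE τ) w + w = y := by
    intro τ hτ k hk hl
    have hm : ∀ y ∈ R.X k, R.r (pE τ) y ∈ R.X k := fun y hy => R.perm_X (fun l => by rw [hl, neg_eq_zero]) hy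
    have hc : ∀ y ∈ R.X k, R.r (pE τ) (R.rot k y) = R.rot k (R.rot k (R.r (pE τ) y)) := fun y hy => by
      rw [rot, R.perm_act, ← rot, R.act_X_two (hm y hy)]
      show ∑ j, chs k j * (gen k).1 (τ j) = 2
      rw [hl, gen_spec]; decide
    obtain ⟨x, hx, hx0⟩ := Submodule.exists_mem_ne_zero_of_ne_bot
      (show R.X k ≠ ⊥ from fun e => by rw [e] at hk; simp at hk)
    obtain ⟨y, hy, hy0, hyf⟩ : ∃ y ∈ R.X k, y ≠ 0 ∧ R.r (pE τ) y = y := by
      by_cases e : R.r (pE τ) x = x
      · exact ⟨x, hx, hx0, e⟩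
      · refine ⟨R.r (pE τ) x + x, add_mem (hm x hx) hx, fun h => e (eq_of_sum_zero h), ?_⟩
        rw [map_add, ← R.r_mul, hτ, R.r_one, add_comm]
    have h3 : R.rot k (R.rot k (R.rot k y)) = y := by
      have e5 := eq_of_sum_zero (R.orb_sum (R.rot_mem hy))
      have e4 := eq_of_sum_zero (R.orb_sum hy)
      rw [← e5, ← e4, add_comm y, ← add_assoc, two_self, zero_add]
    have hs : R.rot k (R.rot k y) + R.rot k y = y := by
      rw [add_comm]; exact (eq_of_sum_zero (by rw [← add_assoc]; exact R.orb_sum hy)).symm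
    have h1 : R.r (pE τ) (R.rot k y) + R.rot k y = y := by rw [hc y hy, hyf, hs]
    refine ⟨y, hy, hy0, fun w hw => ?_⟩
    rcases R.block_elems hk hy hy0 hw with rfl | ⟨a, rfl⟩
    · left; rw [map_zero, add_zero]
    rcases (by decide : ∀ a : ZMod 3, a = 0 ∨ a = 1 ∨ a = 2) a with rfl | rfl | rfl
    · left; show R.r (pE τ) y + y = 0; rw [hyf, two_self]
    · exact Or.inr ⟨h1, _, R.rot_mem hy, h1⟩
    · right
      refine ⟨?_, _, R.rot_mem hy, h1⟩
      show R.r (pE τ) (R.rot k (R.rot k y)) + R.rot k (R.rot k y) = y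
      rw [hc _ (R.rot_mem hy), hc y hy, hyf, h3, add_comm]
      exact hs
  obtain ⟨c4, c5, c6⟩ := tri_card4 hT
  have hswap : Nat.card (LinearMap.range ((R.r (pE (Equiv.swap 0 1))).toLinearMap + LinearMap.id)) = 4 := by
    set τ : Equiv.Perm (Fin 4) := Equiv.swap 0 1
    have hτ : pE τ * pE τ = 1 := by rw [← tvp_p0_perm, tvp_sq p0_pt]
    have f4 := hfix τ hτ 4 c4 fun l => (swap_blocks l).2.2.2
    have m5 : ∀ x ∈ R.X 5, R.r (pE τ) x ∈ R.X 6 := fun x hx => R.perm_X (fun l => (swap_blocks l).2.1) hx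
    have m6 : ∀ x ∈ R.X 6, R.r (pE τ) x ∈ R.X 5 := fun x hx => R.perm_X (fun l => (swap_blocks l).2.2.1) hx
    refine Eq.trans (Eq.symm ?_) c5
    refine Nat.card_eq_of_bijective
      (fun x : R.X 5 => (⟨R.r (pE τ) x.1 + x.1, ⟨x.1, rfl⟩⟩ :
        LinearMap.range ((R.r (pE τ)).toLinearMap + LinearMap.id))) ⟨fun a b e => ?_, ?_⟩
    · have h := congrArg (fun v => R.bk 5 v) (congrArg Subtype.val e)
      simp only [map_add, R.bk_other (show (6 : Fin 13) ≠ 5 by decide) (m5 _ a.2), R.bk_self a.2,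
        R.bk_other (show (6 : Fin 13) ≠ 5 by decide) (m5 _ b.2), R.bk_self b.2, zero_add] at h
      exact Subtype.ext h
    · rintro ⟨_, v, rfl⟩
      refine ⟨⟨R.bk 5 v + R.r (pE τ) (R.bk 6 v), add_mem (R.bk_mem 5 v) (m6 _ (R.bk_mem 6 v))⟩, Subtype.ext ?_⟩
      show R.r (pE τ) (R.bk 5 v + R.r (pE τ) (R.bk 6 v)) + (R.bk 5 v + R.r (pE τ) (R.bk 6 v)) = R.r (pE τ) v + v
      conv_rhs => rw [tri_dec hT v, Fin.sum_univ_three, map_add, map_add, map_add, tri_fix hT _ _ (R.e0_mem v),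
        show triBlk 0 = 4 from rfl, show triBlk 1 = 5 from rfl, show triBlk 2 = 6 from rfl, f4 _ (R.bk_mem 4 v)]
      rw [map_add, ← R.r_mul, hτ, R.r_one]
      generalize R.e0 v = e
      generalize R.bk 4 v = a
      rw [show e + (a + R.r (pE τ) (R.bk 5 v) + R.r (pE τ) (R.bk 6 v)) + (e + (a + R.bk 5 v + R.bk 6 v)) =
        (e + e) + (a + a) + (R.r (pE τ) (R.bk 5 v) + R.bk 6 v + (R.bk 5 v + R.r (pE τ) (R.bk 6 v))) by abel,
        two_self, two_self, zero_add, zero_add]
  have hdouble : Nat.card (LinearMap.range ((R.r s0).toLinearMap + LinearMap.id)) = 4 := by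
    set τ : Equiv.Perm (Fin 4) := Equiv.swap 0 1 * Equiv.swap 2 3
    have hτ : pE τ * pE τ = 1 := s0_sq
    have f4 := hfix τ hτ 4 c4 fun l => (double_blocks l).1
    obtain ⟨y5, hy5, n5, e5⟩ := hflip τ hτ 5 c5 fun l => (double_blocks l).2.1
    obtain ⟨y6, hy6, n6, e6⟩ := hflip τ hτ 6 c6 fun l => (double_blocks l).2.2
    have hex : ∀ k, Nat.card (R.X k) = 4 → ∀ y, y ≠ 0 →
        (∀ x ∈ R.X k, R.r (pE τ) x + x = 0 ∨ R.r (pE τ) x + x = y ∧ ∃ w ∈ R.X k, R.r (pE τ) w + w = y) →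
        (∀ l : LT, ∑ j, chs k j * l.1 (τ j) = -pair4 (chs k) l) →
        ∃ w ∈ R.X k, R.r (pE τ) w + w = y := by
      intro k hk y hy he hl
      obtain ⟨x, hx, hx0⟩ := Submodule.exists_mem_ne_zero_of_ne_bot
        (show R.X k ≠ ⊥ from fun e => by rw [e] at hk; simp at hk)
      rcases he x hx with a | ⟨-, b⟩
      swap; · exact b
      rcases he _ (R.rot_mem hx) with c | ⟨-, b⟩
      swap; · exact b
      exfalso
      have hx' : R.r (pE τ) x = x := eq_of_sum_zero a
      have hc : R.r (pE τ) (R.rot k x) = R.rot k (R.rot k x) := by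
        rw [rot, R.perm_act, ← rot, hx', R.act_X_two hx]
        show ∑ j, chs k j * (gen k).1 (τ j) = 2
        rw [hl, gen_spec]; decide
      rw [hc] at c
      have h := R.orb_sum hx
      rw [add_assoc, add_comm (R.rot k x), c, add_zero] at h
      exact hx0 h
    obtain ⟨w5, hw5, hw5'⟩ := hex 5 c5 y5 n5 e5 fun l => (double_blocks l).2.1
    obtain ⟨w6, hw6, hw6'⟩ := hex 6 c6 y6 n6 e6 fun l => (double_blocks l).2.2
    show Nat.card (LinearMap.range ((R.r (pE τ)).toLinearMap + LinearMap.id)) = 4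
    refine Eq.trans (Eq.symm ?_) (show Nat.card (ZMod 2 × ZMod 2) = 4 by simp)
    refine Nat.card_eq_of_bijective (fun p : ZMod 2 × ZMod 2 =>
      (⟨p.1 • y5 + p.2 • y6, ⟨p.1 • w5 + p.2 • w6, by
        show R.r (pE τ) (p.1 • w5 + p.2 • w6) + (p.1 • w5 + p.2 • w6) = _
        rw [map_add, map_smul, map_smul, ← hw5', ← hw6', smul_add, smul_add]
        abel⟩⟩ : LinearMap.range ((R.r (pE τ)).toLinearMap + LinearMap.id))) ⟨fun a b e => ?_, ?_⟩
    · have h := congrArg Subtype.val e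
      have h5 := congrArg (fun v => R.bk 5 v) h
      have h6 := congrArg (fun v => R.bk 6 v) h
      simp only [map_add, map_smul, R.bk_self hy5, R.bk_self hy6, R.bk_other (show (6 : Fin 13) ≠ 5 by decide) hy6,
        R.bk_other (show (5 : Fin 13) ≠ 6 by decide) hy5, smul_zero, add_zero, zero_add] at h5 h6
      exact Prod.ext (smul_left_injective _ n5 h5) (smul_left_injective _ n6 h6)
    · rintro ⟨_, v, rfl⟩
      obtain ⟨a, ha⟩ : ∃ a : ZMod 2, R.r (pE τ) (R.bk 5 v) + R.bk 5 v = a • y5 := by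
        rcases e5 _ (R.bk_mem 5 v) with h | h
        exacts [⟨0, by rw [h, zero_smul]⟩, ⟨1, by rw [h.1, one_smul]⟩]
      obtain ⟨b, hb⟩ : ∃ b : ZMod 2, R.r (pE τ) (R.bk 6 v) + R.bk 6 v = b • y6 := by
        rcases e6 _ (R.bk_mem 6 v) with h | h
        exacts [⟨0, by rw [h, zero_smul]⟩, ⟨1, by rw [h.1, one_smul]⟩]
      refine ⟨(a, b), Subtype.ext ?_⟩
      show a • y5 + b • y6 = R.r (pE τ) v + v
      conv_rhs => rw [tri_dec hT v, Fin.sum_univ_three, map_add, map_add, map_add, tri_fix hT _ _ (R.e0_mem v),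
        show triBlk 0 = 4 from rfl, show triBlk 1 = 5 from rfl, show triBlk 2 = 6 from rfl, f4 _ (R.bk_mem 4 v)]
      rw [← ha, ← hb]
      generalize R.e0 v = e
      generalize R.bk 4 v = c
      rw [show e + (c + R.r (pE τ) (R.bk 5 v) + R.r (pE τ) (R.bk 6 v)) + (e + (c + R.bk 5 v + R.bk 6 v)) =
        (e + e) + (c + c) + (R.r (pE τ) (R.bk 5 v) + R.bk 5 v + (R.r (pE τ) (R.bk 6 v) + R.bk 6 v)) by abel,
        two_self, two_self, zero_add, zero_add]
  rcases invol_cases h2 h1 with ⟨p, hp, rfl⟩ | ⟨c, hc⟩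
  · obtain ⟨c, hc⟩ := to_p0 hp
    rw [← hconj c, tvp_conj hp, hc, tvp_p0_perm]
    exact hswap
  · rw [← hconj c, hc]
    exact hdouble

end Tri

end Rep

end CfsgLib.U62Cent
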