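import Cfsg.Agent.U62Cent.Decomp

/-!
The unipotent radical of a point stabiliser, small elementary abelian subgroups, and lines.
-/

set_option autoImplicit false
set_option maxRecDepth 100000
set_option maxHeartbeats 1000000
set_option linter.style.haveILetI false
set_option linter.unusedSectionVars false

open scoped Matrix

namespace CfsgLib.U62Cent

open CfsgLib.FiLarge (F4 om omp)
open CfsgLib.Unitary (suMat suMat_mul suMat_one su_ext su_preserves)

theorem su_h4 (g : U4) (x y : V4) : h4 (suMat g *ᵥ x) (suMat g *ᵥ y) = h4 x y := by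
  rw [← h4_eq, ← h4_eq, su_preserves]

theorem su_inv_apply (g : U4) (x : V4) : suMat g⁻¹ *ᵥ (suMat g *ᵥ x) = x := by
  rw [Matrix.mulVec_mulVec, ← suMat_mul, inv_mul_cancel, suMat_one, Matrix.one_mulVec]

theorem su_apply_inv (g : U4) (x : V4) : suMat g *ᵥ (suMat g⁻¹ *ᵥ x) = x := by
  rw [Matrix.mulVec_mulVec, ← suMat_mul, mul_inv_cancel, suMat_one, Matrix.one_mulVec]

theorem su_h4_inv (g : U4) (x y : V4) : h4 (suMat g⁻¹ *ᵥ x) y = h4 x (suMat g *ᵥ y) := by
  conv_rhs => rw [← su_apply_inv g x]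
  rw [su_h4]

/-- The vector of a parameter. -/
def wv (a b : F4) : V4 := ![0, 0, a, b]

/-- The matrix of a unipotent element. -/
def hmat (t : F4 × F4 × F4) : Matrix (Fin 4) (Fin 4) F4 :=
  Matrix.of fun i j => (if i = j then 1 else 0) +
    ![0, 0, t.1 * t.1, t.2.1 * t.2.1] j * p0 i + ![1, 1, 0, 0] j * wv t.1 t.2.1 i +
      t.2.2 * ![1, 1, 0, 0] j * p0 i

/-- The parameters. -/
def OkU (t : F4 × F4 × F4) : Prop := t.2.2 + t.2.2 * t.2.2 = t.1 * t.1 * t.1 + t.2.1 * t.2.1 * t.2.1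

instance (t : F4 × F4 × F4) : Decidable (OkU t) := by unfold OkU; infer_instance

theorem hmat_isU : ∀ t : F4 × F4 × F4, OkU t → IsU (hmat t) := by decide +kernel

/-- The unipotent elements. -/
noncomputable def hE (t : F4 × F4 × F4) : U4 := if h : OkU t then suElt (hmat t) (hmat_isU t h) else 1

theorem hE_mat {t : F4 × F4 × F4} (h : OkU t) : suMat (hE t) = hmat t := by
  rw [hE, dif_pos h]; rfl

theorem hE_apply {t : F4 × F4 × F4} (h : OkU t) (x : V4) :
    suMat (hE t) *ᵥ x =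
      x + h4 x (wv t.1 t.2.1) • p0 + h4 x p0 • wv t.1 t.2.1 + (t.2.2 * h4 x p0) • p0 := by
  rw [hE_mat h]
  funext i
  simp only [Matrix.mulVec, dotProduct, hmat, Matrix.of_apply, Fin.sum_univ_four, Pi.add_apply, Pi.smul_apply,
    smul_eq_mul, h4]
  fin_cases i <;> simp [p0, wv] <;> ring

theorem h4_p0_wv : ∀ a b : F4, h4 (wv a b) p0 = 0 ∧ h4 p0 (wv a b) = 0 := by decide +kernel

theorem wv_add (a b a' b' : F4) : wv (a + a') (b + b') = wv a b + wv a' b' := by
  funext i; fin_cases i <;> simp [wv]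

theorem ok_mul : ∀ a b c a' b' c' : F4, OkU (a, b, c) → OkU (a', b', c') →
    OkU (a + a', b + b', c + c' + h4 (wv a' b') (wv a b)) := by decide +kernel

theorem hE_mul {a b c a' b' c' : F4} (h : OkU (a, b, c)) (h' : OkU (a', b', c')) :
    hE (a, b, c) * hE (a', b', c') = hE (a + a', b + b', c + c' + h4 (wv a' b') (wv a b)) := by
  refine su_ext fun x => ?_
  rw [suMat_mul, ← Matrix.mulVec_mulVec, hE_apply h', hE_apply h, hE_apply (ok_mul a b c a' b' c' h h')]
  obtain ⟨e1, e2⟩ := h4_p0_wv a b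
  obtain ⟨e3, e4⟩ := h4_p0_wv a' b'
  have hpp : h4 p0 p0 = 0 := p0_pt.2
  simp only [h4_add_left, h4_smul_left, h4_add_right, wv_add, e2, e3, hpp, mul_zero, add_zero]
  module

/-- The unipotent radical of the base point. -/
def UU : Subgroup U4 where
  carrier := {g | ∃ t, OkU t ∧ g = hE t}
  one_mem' := ⟨(0, 0, 0), by decide +kernel, su_ext fun x => by
    rw [hE_apply (by decide +kernel), suMat_one, Matrix.one_mulVec,
      show wv (0 : F4) 0 = 0 by decide +kernel]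
    simp [h4]⟩
  mul_mem' := by
    rintro _ _ ⟨⟨a, b, c⟩, h, rfl⟩ ⟨⟨a', b', c'⟩, h', rfl⟩
    exact ⟨_, ok_mul a b c a' b' c' h h', hE_mul h h'⟩
  inv_mem' := by
    rintro _ ⟨⟨a, b, c⟩, h, rfl⟩
    obtain ⟨c', hc1, hc2⟩ := (by decide +kernel : ∀ a b c : F4, OkU (a, b, c) →
      ∃ c', OkU (a, b, c') ∧ c + c' + h4 (wv a b) (wv a b) = 0) a b c h
    refine ⟨(a, b, c'), hc1, inv_eq_of_mul_eq_one_right ?_⟩
    rw [hE_mul h hc1, hc2, add_self_F4, add_self_F4]
    refine su_ext fun x => ?_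
    rw [hE_apply (by decide +kernel), suMat_one, Matrix.one_mulVec,
      show wv (0 : F4) 0 = 0 by decide +kernel]
    simp [h4]

theorem hE_mem {t : F4 × F4 × F4} (h : OkU t) : hE t ∈ UU := ⟨t, h, rfl⟩

theorem hE_inj {t t' : F4 × F4 × F4} (h : OkU t) (h' : OkU t') (e : hE t = hE t') : t = t' := by
  have e' := congrArg suMat e
  rw [hE_mat h, hE_mat h'] at e'
  have key : ∀ t : F4 × F4 × F4, t = (hmat t 2 0, hmat t 3 0, hmat t 0 0 + 1) := by decide +kernel
  rw [key t, key t', e']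

theorem card_UU : Nat.card UU = 32 := by
  rw [Nat.card_congr (Equiv.ofBijective (fun t : {t : F4 × F4 × F4 // OkU t} => (⟨hE t.1, hE_mem t.2⟩ : UU))
    ⟨fun t t' e => Subtype.ext (hE_inj t.2 t'.2 (congrArg Subtype.val e)),
      fun ⟨_, t, ht, e⟩ => ⟨⟨t, ht⟩, Subtype.ext e.symm⟩⟩).symm, Nat.card_eq_fintype_card]
  decide +kernel

theorem two_UU : IsPGroup 2 UU := IsPGroup.of_card (n := 5) (by rw [card_UU]; norm_num)

theorem hE_p0 {t : F4 × F4 × F4} (h : OkU t) : suMat (hE t) *ᵥ p0 = p0 := by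
  rw [hE_apply h, (h4_p0_wv _ _).2, p0_pt.2]
  simp

theorem UU_fix {g : U4} (hg : g ∈ UU) : suMat g *ᵥ p0 = p0 := by
  obtain ⟨t, ht, rfl⟩ := hg
  exact hE_p0 ht

theorem UU_perp {g : U4} (hg : g ∈ UU) {x : V4} (hx : h4 x p0 = 0) :
    ∃ c : F4, suMat g *ᵥ x = x + c • p0 := by
  obtain ⟨t, ht, rfl⟩ := hg
  exact ⟨h4 x (wv t.1 t.2.1), by rw [hE_apply ht, hx]; simp⟩

theorem tvp_p0_hE : tvp p0 = hE (0, 0, 1) := su_ext fun x => by
  rw [tvp_apply p0_pt, hE_apply (by decide +kernel), show wv (0 : F4) 0 = 0 by decide +kernel]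
  simp [h4]

theorem tvp_p0_mem : tvp p0 ∈ UU := tvp_p0_hE ▸ hE_mem (by decide +kernel)

/-- The isometries fixing the hyperplane of a point. -/
theorem fix_perp {g : U4} (h : suMat g *ᵥ p0 = p0) (h2 : suMat g *ᵥ wv 1 0 = wv 1 0)
    (h3 : suMat g *ᵥ wv 0 1 = wv 0 1) : g = 1 ∨ g = tvp p0 := by
  set y := suMat g *ᵥ (![1, 0, 0, 0] : V4) with hy
  have key : ∀ y : V4, h4 y p0 = 1 → h4 y (wv 1 0) = 0 → h4 y (wv 0 1) = 0 → h4 y y = 1 →
      y = ![1, 0, 0, 0] ∨ y = ![0, 1, 0, 0] := by decide +kernel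
  have k1 := su_h4 g ![1, 0, 0, 0] p0
  have k2 := su_h4 g ![1, 0, 0, 0] (wv 1 0)
  have k3 := su_h4 g ![1, 0, 0, 0] (wv 0 1)
  have k4 := su_h4 g ![1, 0, 0, 0] ![1, 0, 0, 0]
  rw [h, ← hy] at k1
  rw [h2, ← hy] at k2
  rw [h3, ← hy] at k3
  rw [← hy] at k4
  have hx : ∀ x : V4, x = (x 0 + x 1) • ![1, 0, 0, 0] + x 1 • p0 + x 2 • wv 1 0 + x 3 • wv 0 1 := fun x => by
    funext i
    fin_cases i <;> simp [p0, wv, add_assoc, add_self_F4]
  have hlin : ∀ x : V4, suMat g *ᵥ x = (x 0 + x 1) • y + x 1 • p0 + x 2 • wv 1 0 + x 3 • wv 0 1 := fun x => by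
    conv_lhs => rw [hx x]
    simp only [Matrix.mulVec_add, Matrix.mulVec_smul, h, h2, h3, ← hy]
  rcases key y (k1.trans (by decide +kernel)) (k2.trans (by decide +kernel)) (k3.trans (by decide +kernel))
    (k4.trans (by decide +kernel)) with e | e
  · left
    refine su_ext fun x => ?_
    rw [hlin, e, ← hx, suMat_one, Matrix.one_mulVec]
  · right
    refine su_ext fun x => ?_
    rw [hlin, e, tvp_apply p0_pt]
    exact (by decide +kernel : ∀ x : V4, (x 0 + x 1) • (![0, 1, 0, 0] : V4) + x 1 • p0 + x 2 • wv 1 0 +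
      x 3 • wv 0 1 = x + h4 x p0 • p0) x

/-- An involution commuting with the radical. -/
theorem cent_UU {g : U4} (h2 : g * g = 1) (hc : ∀ u ∈ UU, g * u = u * g) : g = 1 ∨ g = tvp p0 := by
  have hsq : ∀ x, suMat g *ᵥ (suMat g *ᵥ x) = x := fun x => by
    rw [Matrix.mulVec_mulVec, ← suMat_mul, h2, suMat_one, Matrix.one_mulVec]
  have hp : suMat g *ᵥ p0 = p0 := by
    have e : g * tvp p0 * g⁻¹ = tvp p0 := by rw [hc _ tvp_p0_mem, mul_inv_cancel_right]
    rw [tvp_conj p0_pt] at e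
    obtain ⟨c, hc0, hc'⟩ := tvp_eq_smul p0_pt (pt_map p0_pt g) e.symm
    have h := hsq p0
    rw [hc', Matrix.mulVec_smul, hc', smul_smul] at h
    have h' : c * c = 1 := by simpa [p0] using congrFun h 0
    rw [hc', (by decide +kernel : ∀ c : F4, c * c = 1 → c = 1) c h', one_smul]
  have hcom : ∀ t, OkU t → ∀ x, suMat g *ᵥ (suMat (hE t) *ᵥ x) = suMat (hE t) *ᵥ (suMat g *ᵥ x) :=
    fun t ht x => by
      rw [Matrix.mulVec_mulVec, Matrix.mulVec_mulVec, ← suMat_mul, ← suMat_mul, hc _ (hE_mem ht)]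
  have hperp : ∀ x, h4 x p0 = 0 → h4 (suMat g *ᵥ x) p0 = 0 := fun x hx => by
    conv_lhs => rw [← hp]
    rw [su_h4, hx]
  have hmove : ∀ e e' : V4, ∀ t, OkU t → e' = wv t.1 t.2.1 → h4 e p0 = 0 → h4 e e' = 0 →
      h4 (suMat g *ᵥ e) e' = 0 := by
    intro e e' t ht he' he hee
    have h := hcom t ht e
    rw [hE_apply ht, hE_apply ht, he, hperp e he, ← he', hee] at h
    simp at h
    rcases h with h | h
    · exact h
    · exact absurd h p0_pt.1
  have n3 : h4 (suMat g *ᵥ wv 0 1) (wv 1 0) = 0 :=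
    hmove (wv 0 1) (wv 1 0) (1, 0, om) (by decide +kernel) rfl (by decide +kernel) (by decide +kernel)
  have n2 : h4 (suMat g *ᵥ wv 1 0) (wv 0 1) = 0 :=
    hmove (wv 1 0) (wv 0 1) (0, 1, om) (by decide +kernel) rfl (by decide +kernel) (by decide +kernel)
  have shape : ∀ y : V4, h4 y p0 = 0 → y = y 1 • p0 + y 2 • wv 1 0 + y 3 • wv 0 1 := fun y hy => by
    have e : y 0 = y 1 := eq_of_add_F4 _ _ (by simpa [h4, p0] using hy)
    funext i
    fin_cases i <;> simp [p0, wv, e]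
  have s2 := shape _ (hperp (wv 1 0) (by decide +kernel))
  have s3 := shape _ (hperp (wv 0 1) (by decide +kernel))
  set y2 := suMat g *ᵥ wv 1 0 with hy2
  set y3 := suMat g *ᵥ wv 0 1 with hy3
  have z2 : y2 3 = 0 := by simpa [h4, wv] using n2
  have z3 : y3 2 = 0 := by simpa [h4, wv] using n3
  rw [z2, zero_smul, add_zero] at s2
  rw [z3, zero_smul, add_zero] at s3
  have u2 : y2 2 = 1 := by
    have h := hsq (wv 1 0)
    rw [← hy2, s2, Matrix.mulVec_add, Matrix.mulVec_smul, Matrix.mulVec_smul, hp, ← hy2, s2] at h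
    have h' : y2 2 * y2 2 = 1 := by simpa [p0, wv] using congrFun h 2
    exact (by decide +kernel : ∀ c : F4, c * c = 1 → c = 1) _ h'
  have u3 : y3 3 = 1 := by
    have h := hsq (wv 0 1)
    rw [← hy3, s3, Matrix.mulVec_add, Matrix.mulVec_smul, Matrix.mulVec_smul, hp, ← hy3, s3] at h
    have h' : y3 3 * y3 3 = 1 := by simpa [p0, wv] using congrFun h 3
    exact (by decide +kernel : ∀ c : F4, c * c = 1 → c = 1) _ h'
  rw [u2, one_smul] at s2
  rw [u3, one_smul] at s3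
  obtain ⟨c, hc'⟩ := (by decide +kernel : ∀ a b : F4, ∃ c, OkU (a, b, c)) (y2 1 * y2 1) (y3 1 * y3 1)
  have sq4 : ∀ x : F4, x * x * (x * x) = x := by decide +kernel
  set t : F4 × F4 × F4 := (y2 1 * y2 1, y3 1 * y3 1, c)
  have e2 : suMat (hE t) *ᵥ wv 1 0 = y2 := by
    rw [hE_apply hc', s2, (h4_p0_wv _ _).1]
    funext i
    fin_cases i <;> simp [p0, wv, h4, t, sq4]
  have e3 : suMat (hE t) *ᵥ wv 0 1 = y3 := by
    rw [hE_apply hc', s3, (h4_p0_wv _ _).1]
    funext i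
    fin_cases i <;> simp [p0, wv, h4, t, sq4]
  have hg : g ∈ UU := by
    have h : (hE t)⁻¹ * g ∈ UU := by
      rcases fix_perp (g := (hE t)⁻¹ * g)
        (by
          rw [suMat_mul, ← Matrix.mulVec_mulVec, hp]
          conv_lhs => rw [← hE_p0 hc']
          exact su_inv_apply _ _)
        (by rw [suMat_mul, ← Matrix.mulVec_mulVec, ← hy2, ← e2, su_inv_apply])
        (by rw [suMat_mul, ← Matrix.mulVec_mulVec, ← hy3, ← e3, su_inv_apply]) with h | h <;> rw [h]
      · exact one_mem _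
      · exact tvp_p0_mem
    have h' := mul_mem (hE_mem hc') h
    rwa [mul_inv_cancel_left] at h'
  obtain ⟨⟨a, b, c⟩, ht, rfl⟩ := hg
  have hab : a = 0 ∧ b = 0 := by
    have step : ∀ a' b' c', OkU (a', b', c') → h4 (wv a' b') (wv a b) = h4 (wv a b) (wv a' b') :=
      fun a' b' c' h' => by
        have h := hc _ (hE_mem h')
        rw [hE_mul ht h', hE_mul h' ht] at h
        have h'' := congrArg (fun t : F4 × F4 × F4 => t.2.2)
          (hE_inj (ok_mul _ _ _ _ _ _ ht h') (ok_mul _ _ _ _ _ _ h' ht) h)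
        simpa [add_comm c' c] using h''
    have k1 := step 1 0 om (by decide +kernel)
    have k2 := step om 0 om (by decide +kernel)
    have k3 := step 0 1 om (by decide +kernel)
    have k4 := step 0 om om (by decide +kernel)
    have key : ∀ a b : F4, h4 (wv 1 0) (wv a b) = h4 (wv a b) (wv 1 0) →
        h4 (wv om 0) (wv a b) = h4 (wv a b) (wv om 0) → h4 (wv 0 1) (wv a b) = h4 (wv a b) (wv 0 1) →
        h4 (wv 0 om) (wv a b) = h4 (wv a b) (wv 0 om) → a = 0 ∧ b = 0 := by decide +kernel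
    exact key a b k1 k2 k3 k4
  obtain ⟨rfl, rfl⟩ := hab
  rcases (by decide +kernel : ∀ c : F4, OkU (0, 0, c) → c = 0 ∨ c = 1) c ht with rfl | rfl
  · refine Or.inl (su_ext fun x => ?_)
    rw [hE_apply ht, suMat_one, Matrix.one_mulVec, show wv (0 : F4) 0 = 0 by decide +kernel]
    simp [h4]
  · exact Or.inr tvp_p0_hE.symm

/-- A quaternion subgroup gives three elements of order four. -/
theorem quat_UU : ∃ i j : U4, i ∈ UU ∧ j ∈ UU ∧ i * i ≠ 1 ∧ j * j ≠ 1 ∧ i * j * (i * j) ≠ 1 := by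
  have o1 : OkU (1, 0, om) := by decide +kernel
  have o2 : OkU (om, 0, om) := by decide +kernel
  have ne : ∀ t, OkU t → t ≠ (0, 0, 0) → hE t ≠ 1 := fun t ht h e => h (hE_inj ht (by decide +kernel) (e.trans
    (su_ext fun x => by
      rw [hE_apply (by decide +kernel), suMat_one, Matrix.one_mulVec, show wv (0 : F4) 0 = 0 by decide +kernel]
      simp [h4])))
  refine ⟨hE (1, 0, om), hE (om, 0, om), hE_mem o1, hE_mem o2, ?_, ?_, ?_⟩
  · rw [hE_mul o1 o1]; exact ne _ (ok_mul _ _ _ _ _ _ o1 o1) (by decide +kernel)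
  · rw [hE_mul o2 o2]; exact ne _ (ok_mul _ _ _ _ _ _ o2 o2) (by decide +kernel)
  · have o3 := ok_mul _ _ _ _ _ _ o1 o2
    rw [hE_mul o1 o2, hE_mul o3 o3]
    exact ne _ (ok_mul _ _ _ _ _ _ o3 o3) (by decide +kernel)

end CfsgLib.U62Cent
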